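import Cfsg.Agent.Geo.SUFour.PauliSym
import Cfsg.Agent.Geo.SLFour.Pauli
import Cfsg.Agent.Geo.SubfieldOvergroup
import Cfsg.Agent.Quad.KleinUnitary

/-!
The normaliser of a symplectic-type group of order 64 is maximal in `SU₄(p)`, `p ≡ 3 mod 4`.
-/

set_option autoImplicit false
set_option linter.unusedSectionVars false

namespace CfsgLib.Geo.SUFour

open Matrix Cfsg.Geo CfsgLib.Quad CfsgLib.Forms CfsgLib.Elusive.Pauli CfsgLib.Geo.SLFour CfsgLib.Geo.UTv

variable {K : Type*} [Field K] [Finite K] {p : ℕ} [Fact p.Prime] [CharP K p] [Algebra (ZMod p) K]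

local notation "ι" => algebraMap (ZMod p) K

lemma frob_prime (hK : Nat.card K = p ^ 2) (x : ZMod p) : frobEquiv hK (ι x) = ι x := by
  rw [UTv.frobEquiv_apply hK, ← map_pow, ZMod.pow_card]

lemma frob_sqrt (hK : Nat.card K = p ^ 2) (h3 : p % 4 = 3) {i : K} (hi : i * i = -1) :
    frobEquiv hK i = -i := by
  obtain ⟨m, hm⟩ : ∃ m, p = 2 * (2 * m + 1) + 1 := ⟨p / 4, by omega⟩
  rw [UTv.frobEquiv_apply hK, hm, pow_succ, pow_mul, show i ^ 2 = -1 by rw [pow_two, hi],
    Odd.neg_one_pow ⟨m, rfl⟩, neg_one_mul]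

lemma exists_coord (hK : Nat.card K = p ^ 2) (h3 : p % 4 = 3) {i : K} (hi : i * i = -1) (w : K) :
    ∃ a b : ZMod p, ι a + i * ι b = w := by
  have hσi := frob_sqrt hK h3 hi
  have h2 : (2 : K) ≠ 0 := fun e => by
    have h2' : ((2 : ℕ) : K) = 0 := by exact_mod_cast e
    have := (CharP.cast_eq_zero_iff K p 2).1 h2'
    have := Nat.le_of_dvd (by norm_num) this
    omega
  have hi0 : i ≠ 0 := fun e => by rw [e, mul_zero] at hi; exact neg_ne_zero.2 one_ne_zero hi.symm
  have hinj : Function.Injective fun v : ZMod p × ZMod p => ι v.1 + i * ι v.2 := by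
    rintro ⟨a, b⟩ ⟨c, d⟩ e
    simp only at e
    have e' := congrArg (frobEquiv hK) e
    simp only [map_add, map_mul, frob_prime hK, hσi] at e'
    have hb : ι b = ι d := mul_left_cancel₀ (mul_ne_zero h2 hi0) (by linear_combination e - e')
    rw [hb, add_left_inj] at e
    exact Prod.ext ((ι).injective e) ((ι).injective hb)
  obtain ⟨⟨a, b⟩, hab⟩ := (hinj.bijective_of_nat_card_le (by
    rw [Nat.card_prod, Nat.card_zmod, hK, pow_two])).2 w
  exact ⟨a, b, hab⟩

/-- The normaliser is maximal, for a group with the frame facts. -/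
theorem unitary_pauli_maximal_sym (hK : Nat.card K = p ^ 2) (h3 : p % 4 = 3) {R : Subgroup (GL (Fin 4) K)}
    {i : K} (hS₀ : Sym R i) (hRU : R ≤ Cfsg.GU 4 K p) :
    IsMaximalIn (suGL 4 K p) (subgroupNormalizer R ⊓ suGL 4 K p) := by
  classical
  obtain ⟨P, hPU, hS⟩ := exists_std_unit hK hS₀ hRU
  set R' := R.map (MulAut.conj P⁻¹).toMonoidHom
  set G := suGL 4 K p
  have hdet : ∀ g ∈ G, (g : Matrix (Fin 4) (Fin 4) K).det = 1 := fun g hg =>
    congrArg Units.val (MonoidHom.mem_ker.1 hg.2)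
  have h2' : (2 : ZMod p) ≠ 0 := fun e => hS.two (by rw [← map_ofNat ι 2, e, map_zero])
  have hσi := frob_sqrt hK h3 hS.sq_i
  have hσσ := (UTv.isUnitaryForm hK (n := 4)).involutive
  have hinj := theta_injective (F := ZMod p) hS.two hS.sq_i
  have hsurj : ∀ r : Fin 3 ⊕ Fin 3 → K, (∀ k, r (Sum.inr k) = frobEquiv hK (r (Sum.inl k))) →
      ∃ y : Fin 6 → ZMod p, theta i y = r := fun r hr => by
    obtain ⟨a₀, b₀, h₀⟩ := exists_coord (p := p) hK h3 hS.sq_i (r (Sum.inl 0))
    obtain ⟨a₁, b₁, h₁⟩ := exists_coord (p := p) hK h3 hS.sq_i (r (Sum.inl 1))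
    obtain ⟨a₂, b₂, h₂⟩ := exists_coord (p := p) hK h3 hS.sq_i (r (Sum.inl 2))
    refine ⟨![a₀, b₀, a₁, b₁, a₂, b₂], funext fun s => ?_⟩
    rcases s with s | s <;> fin_cases s <;>
      simp [theta, hr, ← h₀, ← h₁, ← h₂, frob_prime hK, hσi] <;> ring
  have hrep : Rep (ZMod p) i G :=
    { two := hS.two
      sq_i := hS.sq_i
      det := hdet
      stab := fun g hg x => by
        set M := (g : Matrix (Fin 4) (Fin 4) K)
        set v := theta i x with hv
        set r := kleinInv (M * klein v * Mᵀ) with hr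
        have hkr : klein r = M * klein v * Mᵀ := klein_congr_mem _ _
        set σ : K →+* K := (frobEquiv hK).toRingHom
        have hsp : swapP v = fun j => σ (v j) := by
          funext j; rcases j with j | j <;> fin_cases j <;>
            simp [swapP, v, theta, σ, frob_prime hK, hσi, ← sub_eq_add_neg]
        have hM : Mᵀ * σ.mapMatrix M = 1 := by
          ext a b
          have h := UTv.herm_mulVec hg (Pi.single a 1) (Pi.single b 1)
          rw [Matrix.mulVec_single_one, Matrix.mulVec_single_one] at h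
          refine Eq.trans ?_ (h.trans ?_)
          · simp [Cfsg.hermForm, Matrix.mul_apply, M, σ, UTv.frobEquiv_apply hK]
          · rw [CfsgLib.Unitary.herm_single_left, Matrix.one_apply]
            by_cases hab : a = b
            · subst hab; simp
            · simp [hab, Ne.symm hab, (Fact.out : p.Prime).ne_zero]
        have h1 := klein_swap_congr M v
        rw [← hr, hdet g hg, one_smul] at h1
        have hklein : ∀ w : Fin 3 ⊕ Fin 3 → K, σ.mapMatrix (klein w) = klein (fun j => σ (w j)) := fun w => by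
          ext a b; fin_cases a <;> fin_cases b <;> simp [klein]
        have hinv : σ.mapMatrix M * Mᵀ = 1 := mul_eq_one_comm.mp hM
        have h2 : σ.mapMatrix (klein r) = klein (swapP r) := by
          rw [hkr, map_mul, map_mul, hklein, ← hsp, ← h1]
          have ht : σ.mapMatrix Mᵀ = (σ.mapMatrix M)ᵀ := by ext a b; simp
          have hinv2 : M * (σ.mapMatrix M)ᵀ = 1 := by
            have := congrArg Matrix.transpose hinv
            rwa [Matrix.transpose_mul, Matrix.transpose_transpose, Matrix.transpose_one] at this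
          rw [ht]
          calc σ.mapMatrix M * (Mᵀ * klein (swapP r) * M) * (σ.mapMatrix M)ᵀ
              = (σ.mapMatrix M * Mᵀ) * klein (swapP r) * (M * (σ.mapMatrix M)ᵀ) := by
                simp only [Matrix.mul_assoc]
            _ = klein (swapP r) := by rw [hinv, hinv2, Matrix.one_mul, Matrix.mul_one]
        rw [hklein] at h2
        have h3' := klein_injective h2
        obtain ⟨y, hy⟩ := hsurj r fun k => (congrFun h3' (Sum.inl k)).symm
        exact ⟨y, by rw [mat_apply, mat_apply, hy, hkr]⟩ }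
  have hRG : R' ≤ G := by
    intro g hg
    refine ⟨?_, MonoidHom.mem_ker.2 (Units.ext ?_)⟩
    · obtain ⟨g₀, hg₀, rfl⟩ := Subgroup.mem_map.1 hg
      simp only [MulEquiv.coe_toMonoidHom, MulAut.conj_apply, inv_inv]
      exact (Cfsg.GU 4 K p).mul_mem ((Cfsg.GU 4 K p).mul_mem ((Cfsg.GU 4 K p).inv_mem hPU) (hRU hg₀)) hPU
    · obtain ⟨c, hc, a, b, d, k, hgM⟩ := hS.gen g hg
      show (g : Matrix (Fin 4) (Fin 4) K).det = 1
      rw [hgM, Matrix.det_smul, Fintype.card_fin, hc, one_mul, Matrix.det_mul, Matrix.det_mul, Matrix.det_mul,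
        Matrix.det_pow, Matrix.det_pow, Matrix.det_pow, Matrix.det_pow]
      have d1 : (A₁ K).det = 1 := by simp [A₁, Matrix.det_diagonal, Fin.prod_univ_four]
      have d2 : (A₂ K).det = 1 := by simp [A₂, Matrix.det_diagonal, Fin.prod_univ_four]
      have d3 : (B₁ K).det = 1 := by
        simp [B₁, Matrix.det_succ_row_zero, Fin.sum_univ_succ, Fin.succAbove]
      have d4 : (B₂ K).det = 1 := by
        simp [B₂, Matrix.det_succ_row_zero, Fin.sum_univ_succ, Fin.succAbove]
      rw [d1, d2, d3, d4]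
      simp
  -- the homomorphism from the special linear subgroup
  let ψ : Cfsg.SU 4 K p →* G :=
    { toFun := fun g => ⟨Matrix.SpecialLinearGroup.toGL (g : Matrix.SpecialLinearGroup (Fin 4) K),
        fun u v => g.2 u v, MonoidHom.mem_ker.2 (Units.ext g.1.2)⟩
      map_one' := Subtype.ext (Units.ext rfl)
      map_mul' := fun _ _ => Subtype.ext (Units.ext rfl) }
  have hψ : Function.Bijective ψ := by
    refine ⟨fun a b e => Subtype.ext (Subtype.ext (congrArg (fun g : G => ((g : GL (Fin 4) K) : Matrix (Fin 4) (Fin 4) K)) e)),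
      fun g => ⟨⟨⟨(g : GL (Fin 4) K).1, hdet g g.2⟩, fun u v => UTv.herm_mulVec g.2 u v⟩, ?_⟩⟩
    exact Subtype.ext (Units.ext rfl)
  have hq2 : 2 ≤ p := (Fact.out : p.Prime).two_le
  have hperf : commutator G = ⊤ := by
    rw [commutator_def, ← Subgroup.map_top_of_surjective ψ hψ.2, ← Subgroup.map_commutator, ← commutator_def,
      CfsgLib.Unitary.commutator_SU_eq_top hK (by norm_num) (by omega)]
  obtain ⟨n, hn⟩ : ∃ n : GL (Fin 4) K, (n : Matrix (Fin 4) (Fin 4) K) = -1 := ⟨-1, by simp⟩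
  have hnG : n ∈ G := by
    refine ⟨UTv.mem_GU.2 fun u v => ?_, MonoidHom.mem_ker.2 (Units.ext ?_)⟩
    · rw [hn, Matrix.neg_mulVec, Matrix.one_mulVec, Matrix.neg_mulVec, Matrix.one_mulVec, ← neg_one_smul K u,
        ← neg_one_smul K v, (UTv.isUnitaryForm hK).smul_left, Unit.smul_right (UTv.isUnitaryForm hK), map_neg, map_one]
      ring
    · show (n : Matrix (Fin 4) (Fin 4) K).det = 1
      rw [hn, Matrix.det_neg, Matrix.det_one, Fintype.card_fin]; norm_num
  obtain ⟨l, m, hlm⟩ := CfsgLib.Forms.exists_binary (F := ZMod p) h2' (a := 1) (b := 1) one_ne_zero one_ne_zero (-1)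
  have hab : ∀ z₁ z₂ : ZMod p, z₁ ^ 2 + 0 * z₁ * z₂ + 1 * z₂ ^ 2 = 0 → z₁ = 0 ∧ z₂ = 0 := by
    intro z₁ z₂ h
    rcases eq_or_ne z₂ 0 with e | e
    · subst e
      exact ⟨eq_zero_of_pow_eq_zero (n := 2) (by linear_combination h), rfl⟩
    · exact absurd h3 (ZMod.mod_four_ne_three_of_sq_eq_neg_one (y := z₁ / z₂) (by
        field_simp; linear_combination h))
  have hcount : 2 * Nat.card G = Nat.card (OFrame.O (ZMod p) 6) := by
    let T : (Fin 6 → ZMod p) →ₗ[ZMod p] ((Fin 2 ⊕ Fin 2) ⊕ Fin 2 → ZMod p) :=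
      { toFun := fun x => Sum.elim (Sum.elim ![x 0 + (l * x 2 + m * x 3), x 1 + (m * x 2 - l * x 3)]
          ![x 0 - (l * x 2 + m * x 3), x 1 - (m * x 2 - l * x 3)]) ![x 4, x 5]
        map_add' := fun u v => by
          funext j; rcases j with (j | j) | j <;> fin_cases j <;> simp <;> ring
        map_smul' := fun c v => by
          funext j; rcases j with (j | j) | j <;> fin_cases j <;> simp <;> ring }
    have hT : Function.Injective T := by
      rw [injective_iff_map_eq_zero]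
      intro x hx
      have a₀ := congrFun hx (Sum.inl (Sum.inl 0))
      have a₁ := congrFun hx (Sum.inl (Sum.inr 0))
      have b₀ := congrFun hx (Sum.inl (Sum.inl 1))
      have b₁ := congrFun hx (Sum.inl (Sum.inr 1))
      have c₀ := congrFun hx (Sum.inr 0)
      have c₁ := congrFun hx (Sum.inr 1)
      simp [T] at a₀ a₁ b₀ b₁ c₀ c₁
      have x₀ : x 0 = 0 := mul_left_cancel₀ h2' (by linear_combination a₀ + a₁)
      have x₁ : x 1 = 0 := mul_left_cancel₀ h2' (by linear_combination b₀ + b₁)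
      have x₂ : x 2 = 0 := by linear_combination -l * a₀ + l * x₀ - m * b₀ + m * x₁ + x 2 * hlm
      have x₃ : x 3 = 0 := by linear_combination -m * a₀ + m * x₀ + l * b₀ - l * x₁ + x 3 * hlm
      funext j
      fin_cases j <;> simp [x₀, x₁, x₂, x₃, c₀, c₁]
    rw [Nat.card_congr (oGroupCongr (Q := OFrame.Q0 (ZMod p) 6) (Q' := minusQ (F := ZMod p) 2 0 1)
      (T.linearEquivOfInjective hT (by simp)) fun x => by
        show minusQ (F := ZMod p) 2 0 1 (T x) = _
        simp [minusQ_coe, Cfsg.quadFormMinus, OFrame.Q0_apply, dotProduct, T, Fin.sum_univ_two, Fin.sum_univ_six]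
        linear_combination (-(x 2 * x 2 + x 3 * x 3)) * hlm).toEquiv,
      ← Nat.card_congr (Equiv.ofBijective ψ hψ)]
    have hSU : (p + 1) * Nat.card (Cfsg.SU 4 K p) = Nat.card (Cfsg.GU 4 K p) :=
      CfsgLib.Unitary.card_SU_mul hK (by norm_num)
    have hO := card_oGroup_minus (F := ZMod p) (Nat.card_zmod p) hab 2
    refine Nat.eq_of_mul_eq_mul_left (show 0 < p + 1 by omega) ?_
    rw [mul_left_comm, hSU, CfsgLib.Unitary.card_GU hK]
    simp [Finset.prod_range_succ]
    simp only [show Even 2 by decide, show ¬Even 3 by decide, show ¬Even 1 by decide, if_true,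
      if_false]
    have h2n : 1 ≤ p ^ 2 := Nat.one_le_pow _ _ (by omega)
    have h4n : 1 ≤ p ^ 4 := Nat.one_le_pow _ _ (by omega)
    apply Nat.cast_injective (R := ℤ)
    push_cast [h2n, h4n]
    rw [hO]
    simp [Finset.prod_range_succ]
    ring
  have hmax := hrep.normalizer_maximal p (Nat.card_zmod p) h2'
    (hrep.range_eq h2' (sqGen_of_perfect hperf) hnG hn hcount) hS hRG
  rw [SLFour.normalizer_map_conj R P]
  refine CfsgLib.Geo.isMaximalIn_conj P (le_antisymm ?_ fun g hg => ?_) hmax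
  · rintro _ ⟨g, hg, rfl⟩
    refine ⟨(Cfsg.GU 4 K p).mul_mem ((Cfsg.GU 4 K p).mul_mem hPU hg.1) ((Cfsg.GU 4 K p).inv_mem hPU), ?_⟩
    exact (Subgroup.Normal.conj_mem (inferInstance : (Matrix.GeneralLinearGroup.det (n := Fin 4) (R := K)).ker.Normal) g hg.2 P)
  · refine ⟨P⁻¹ * g * P, ⟨(Cfsg.GU 4 K p).mul_mem ((Cfsg.GU 4 K p).mul_mem ((Cfsg.GU 4 K p).inv_mem hPU) hg.1) hPU,
      ?_⟩, ?_⟩
    · exact Subgroup.Normal.conj_mem' (inferInstance : (Matrix.GeneralLinearGroup.det (n := Fin 4) (R := K)).ker.Normal) g hg.2 P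
    · simp [mul_assoc]

/-- The normaliser is maximal. -/
theorem unitary_pauli_maximal (hK : Nat.card K = p ^ 2) (h3 : p % 4 = 3) {R : Subgroup (GL (Fin 4) K)}
    (hRs : IsSymplecticTypeGroup 2 R) (hRi : ActsAbsolutelyIrreducibly (matrixSet R))
    (hRU : R ≤ Cfsg.GU 4 K p) (hR6 : Nat.card R = 64) (hZ4 : Nat.card (Subgroup.center R) = 4) :
    IsMaximalIn (suGL 4 K p) (subgroupNormalizer R ⊓ suGL 4 K p) := by
  obtain ⟨i, hS₀⟩ := sym_of_sympType hK (Nat.odd_iff.2 (by omega)) hRs hRi hR6 hZ4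
  exact unitary_pauli_maximal_sym hK h3 hS₀ hRU

end CfsgLib.Geo.SUFour
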