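/-
An overgroup of the monomial group in the special unitary group of dimension four, whose elements fixing a
coordinate line are monomial, is monomial when the fixed field does not have three elements.
-/
import Cfsg.Agent.Geo.UnitFrameMax

set_option autoImplicit false

namespace CfsgLib.Geo.SUFour

open Matrix Cfsg Cfsg.Geo CfsgLib.Geo CfsgLib.Geo.UTv CfsgLib.Geo.Mono CfsgLib.Geo.UFrame

variable {q : ℕ} {F : Type*} [Field F] [Finite F] (hF : Nat.card F = q ^ 2) {M : Subgroup (GL (Fin 4) F)}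

local notation "⟪" x ", " y "⟫" => Cfsg.hermForm 4 F q x y

/-- A monomial overgroup candidate in which line stabilisers are monomial. -/
structure Proper (q : ℕ) (M : Subgroup (GL (Fin 4) F)) : Prop where
  le : monomialGroup (Fin 4) F ⊓ suGL 4 F q ≤ M
  sub : M ≤ suGL 4 F q
  stab : ∀ g ∈ M, ∀ a, (∀ x, x ≠ a → (g : Matrix (Fin 4) (Fin 4) F) x a = 0) → g ∈ monomialGroup (Fin 4) F

omit [Finite F] in
/-- A non-zero quadratic has at most two roots. -/
lemma quad_two {a b c x y z : F} (hxy : x ≠ y) (hxz : x ≠ z) (hyz : y ≠ z) (hx : a * (x * x) + b * x + c = 0)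
    (hy : a * (y * y) + b * y + c = 0) (hz : a * (z * z) + b * z + c = 0) : a = 0 := by
  have h1 : a * (x + y) + b = 0 := (mul_eq_zero.1 (show (x - y) * (a * (x + y) + b) = 0 by
    linear_combination hx - hy)).resolve_left (sub_ne_zero.2 hxy)
  have h2 : a * (x + z) + b = 0 := (mul_eq_zero.1 (show (x - z) * (a * (x + z) + b) = 0 by
    linear_combination hx - hz)).resolve_left (sub_ne_zero.2 hxz)
  exact (mul_eq_zero.1 (show a * (y - z) = 0 by linear_combination h1 - h2)).resolve_right (sub_ne_zero.2 hyz)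

include hF

/-- Norm one elements and fixed elements are squares in odd characteristic. -/
lemma isSquare_of_fixed_or_phase (hodd : Odd q) {x : F} (hx : x ^ q = x ∨ IsPhase q x) : IsSquare x := by
  haveI := Fintype.ofFinite F
  rcases eq_or_ne x 0 with rfl | h0
  · exact IsSquare.zero
  have hc : Fintype.card F = q ^ 2 := by rw [← Nat.card_eq_fintype_card, hF]
  have h2 : ringChar F ≠ 2 := fun h => by
    have h4 := FiniteField.even_card_of_char_two h
    rw [hc] at h4
    have := Nat.odd_iff.1 (hodd.pow (n := 2))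
    omega
  obtain ⟨k, hk⟩ := hodd
  rw [FiniteField.isSquare_iff h2 h0, hc]
  rcases hx with hx | hx
  · have h1 : x ^ (2 * k) = 1 := mul_right_cancel₀ h0 (by rw [← pow_succ, ← hk, hx, one_mul])
    rw [show q ^ 2 / 2 = 2 * k * (k + 1) by rw [hk, show (2 * k + 1) ^ 2 = 2 * (2 * k * (k + 1)) + 1 by ring]; omega,
      pow_mul, h1, one_pow]
  · have h1 : x ^ (2 * k + 2) = 1 := by
      rw [show 2 * k + 2 = q + 1 by omega, pow_succ']; exact hx
    rw [show q ^ 2 / 2 = (2 * k + 2) * k by
      rw [hk, show (2 * k + 1) ^ 2 = 2 * ((2 * k + 2) * k) + 1 by ring]; omega, pow_mul, h1, one_pow]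

/-- The phases outside a small set. -/
lemma exists_phases {S : Finset F} {m : ℕ} (h : S.card + m ≤ q + 1) :
    ∃ T : Finset F, m ≤ T.card ∧ ∀ t ∈ T, IsPhase q t ∧ t ∉ S := by
  classical
  haveI := Fintype.ofFinite F
  refine ⟨(Finset.univ.filter fun t : F => t * t ^ q = 1) \ S, ?_, fun t ht => ?_⟩
  · have := Finset.le_card_sdiff S (Finset.univ.filter fun t : F => t * t ^ q = 1)
    rw [card_phase hF] at this
    omega
  · exact ⟨(Finset.mem_filter.1 (Finset.mem_sdiff.1 ht).1).2, (Finset.mem_sdiff.1 ht).2⟩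

variable (hP : Proper q M)
include hP

omit hF [Finite F] in
lemma gu {g : GL (Fin 4) F} (hg : g ∈ M) : g ∈ Cfsg.GU 4 F q := (hP.sub hg).1

/-- An element with a column of one entry is monomial. -/
lemma of_single {g : GL (Fin 4) F} (hg : g ∈ M) {a i : Fin 4}
    (h : ∀ x, x ≠ i → (g : Matrix (Fin 4) (Fin 4) F) x a = 0) : g ∈ monomialGroup (Fin 4) F := by
  obtain ⟨m, hm⟩ : ∃ m : Fin 4, m ≠ i ∧ m ≠ a := by clear h; revert i a; decide
  set π := Equiv.swap i a with hπ
  let t : Fin 4 → F := Function.update 1 m ((Equiv.Perm.sign π : ℤ) : F)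
  have ht : ∀ x, IsPhase q (t x) := fun x => by
    rcases eq_or_ne x m with rfl | h
    · simpa [t] using phase_sign hF π
    · simpa [t, Function.update_of_ne h] using IsPhase.one
  have hx := UFrame.mon_mem hF π (units t ht) (fun x => ht x) (by
    simp only [units_val, t]
    rw [Finset.prod_eq_single m (fun b _ hb => by simp [Function.update_of_ne hb]) (by simp), Function.update_self,
      ← Int.cast_mul, ← Units.val_mul, Int.units_mul_self]
    simp)
  have hfix : ∀ x, x ≠ a → ((mon π (units t ht) * g : GL (Fin 4) F) : Matrix (Fin 4) (Fin 4) F) x a = 0 := by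
    intro x hxa
    obtain ⟨y, rfl⟩ := π.surjective x
    rw [← UFrame.col_apply, UFrame.col, mul_mulVec, mon_mulVec, ← UFrame.col, UFrame.col_apply, h y (fun e => hxa (by
      rw [e, hπ]; exact Equiv.swap_apply_left i a)), mul_zero]
  have h1 := hP.stab _ (M.mul_mem (hP.le hx) hg) a hfix
  have := (monomialGroup (Fin 4) F).mul_mem ((monomialGroup (Fin 4) F).inv_mem hx.1) h1
  rwa [inv_mul_cancel_left] at this

/-- A monomial conjugate carries a column to a column. -/
lemma moved {g x : GL (Fin 4) F} (hg : g ∈ M) (hx : x ∈ M) (hh : g⁻¹ * x * g ∈ monomialGroup (Fin 4) F)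
    (a : Fin 4) : ∃ (l : Fin 4) (γ : F), IsPhase q γ ∧ (x : Matrix (Fin 4) (Fin 4) F) *ᵥ UFrame.col g a = γ • UFrame.col g l := by
  set h := g⁻¹ * x * g with hdef
  have hhM : h ∈ M := M.mul_mem (M.mul_mem (M.inv_mem hg) hx) hg
  obtain ⟨l, hl⟩ := single_of_mono hh a
  set γ := (h : Matrix (Fin 4) (Fin 4) F) l a with hγ
  have e : UFrame.col h a = γ • Pi.single l 1 := funext fun y => by
    rw [UFrame.col_apply, Pi.smul_apply, smul_eq_mul]
    rcases eq_or_ne y l with rfl | hy
    · simp [hγ]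
    · rw [hl y hy, Pi.single_eq_of_ne hy, mul_zero]
  refine ⟨l, γ, ?_, ?_⟩
  · have := herm_cols hF (gu hP hhM) a a
    rw [e, if_pos rfl, CfsgLib.Unitary.herm_smul_left, herm_single, Pi.smul_apply, smul_eq_mul, Pi.single_eq_same,
      mul_one] at this
    exact this
  · have := congrArg (fun v => (g : Matrix (Fin 4) (Fin 4) F) *ᵥ v) e
    simpa only [hdef, UFrame.col, mul_mulVec, mulVec_inv_mulVec, Matrix.mulVec_smul] using this

omit hF [Finite F] in
/-- An element with a column as eigenvector gives a monomial conjugate. -/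
lemma mono_of_eigen {g x : GL (Fin 4) F} (hg : g ∈ M) (hx : x ∈ M) {a : Fin 4} {γ : F}
    (e : (x : Matrix (Fin 4) (Fin 4) F) *ᵥ UFrame.col g a = γ • UFrame.col g a) : g⁻¹ * x * g ∈ monomialGroup (Fin 4) F :=
  hP.stab _ (M.mul_mem (M.mul_mem (M.inv_mem hg) hx) hg) a fun y hy => by
    rw [← UFrame.col_apply, UFrame.col, mul_mulVec, mul_mulVec, ← UFrame.col, e, Matrix.mulVec_smul, inv_mulVec_mulVec, Pi.smul_apply,
      Pi.single_eq_of_ne hy, smul_zero]

omit hP in
/-- Some entry of each row is non-zero. -/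
lemma row_norm {g : GL (Fin 4) F} (hg : g ∈ Cfsg.GU 4 F q) (p : Fin 4) :
    ∑ k, (g : Matrix (Fin 4) (Fin 4) F) p k * (g : Matrix (Fin 4) (Fin 4) F) p k ^ q = 1 := by
  have h : ∑ k, (g : Matrix (Fin 4) (Fin 4) F) p k * ((g⁻¹ : GL (Fin 4) F) : Matrix (Fin 4) (Fin 4) F) k p = 1 := by
    rw [← Matrix.mul_apply, ← Units.val_mul, mul_inv_cancel, Units.val_one, Matrix.one_apply_eq]
  rw [← h]
  exact Finset.sum_congr rfl fun k _ => by rw [inv_apply hF hg]

/-- An element with two zeros in one column is monomial. -/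
lemma two_zeros (hq : 4 ≤ q) {g : GL (Fin 4) F} (hg : g ∈ M) {a p₁ p₂ : Fin 4} (h12 : p₁ ≠ p₂)
    (h1 : (g : Matrix (Fin 4) (Fin 4) F) p₁ a = 0) (h2 : (g : Matrix (Fin 4) (Fin 4) F) p₂ a = 0) :
    g ∈ monomialGroup (Fin 4) F := by
  classical
  by_contra hgm
  obtain ⟨l, hl⟩ : ∃ l, (g : Matrix (Fin 4) (Fin 4) F) p₁ l ≠ 0 := by
    by_contra hcon
    push Not at hcon
    have := row_norm hF (gu hP hg) p₁
    simp [hcon] at this
  set w := UFrame.col g l with hw
  have hw1 : w p₁ ≠ 0 := by rw [hw, UFrame.col_apply]; exact hl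
  have hroot : ∀ s : F, IsPhase q s → s * s ≠ 1 →
      w p₁ * w p₁ ^ q * (s * s) + (1 - w p₁ * w p₁ ^ q - w p₂ * w p₂ ^ q) * s + w p₂ * w p₂ ^ q = 0 := by
    intro s hs hs2
    obtain ⟨d, hd, hdv⟩ := UFrame.exists_two hF h12 hs
    have hdM := hP.le hd
    have hfix : (d : Matrix (Fin 4) (Fin 4) F) *ᵥ UFrame.col g a = (1 : F) • UFrame.col g a := funext fun y => by
      rw [hdv, one_smul, UFrame.col_apply]
      rcases eq_or_ne y p₁ with rfl | hy1
      · rw [h1, mul_zero]
      rcases eq_or_ne y p₂ with rfl | hy2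
      · rw [h2, mul_zero]
      rw [if_neg hy1, if_neg hy2, one_mul]
    obtain ⟨l', γ, hγ, hdw⟩ := moved hF hP hg hdM (mono_of_eigen hP hg hdM hfix) l
    rw [← hw] at hdw
    rcases eq_or_ne l' l with rfl | hne
    · exfalso
      have hγs : γ = s := by
        have := congrFun hdw p₁
        rw [hdv, if_pos rfl, ← hw, Pi.smul_apply, smul_eq_mul] at this
        exact (mul_right_cancel₀ hw1 this).symm
      refine hgm (of_single hF hP hg (a := l') (i := p₁) fun y hy => ?_)
      have := congrFun hdw y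
      rw [hdv, if_neg hy, ← hw, Pi.smul_apply, smul_eq_mul, hγs] at this
      rw [← UFrame.col_apply, ← hw]
      by_contra hwy
      have hsy := mul_right_cancel₀ hwy this
      split_ifs at hsy
      · exact hs2 (by nth_rw 1 [← hsy]; exact inv_mul_cancel₀ hs.ne_zero)
      · exact hs2 (by rw [← hsy, one_mul])
    · have h0 : ∑ y, ((if y = p₁ then s else if y = p₂ then s⁻¹ else 1) * w y) * w y ^ q = 0 := by
        have h' : ⟪(d : Matrix (Fin 4) (Fin 4) F) *ᵥ w, w⟫ = 0 := by
          rw [hdw, CfsgLib.Unitary.herm_smul_left, hw, herm_cols hF (gu hP hg), if_neg hne, mul_zero]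
        rw [herm_apply hF] at h'
        rw [← h']
        exact Finset.sum_congr rfl fun y _ => by rw [hdv]
      have h1' : ∑ y, w y * w y ^ q = 1 := by rw [← herm_apply hF, hw, herm_cols hF (gu hP hg), if_pos rfl]
      have hdiff : ∑ y, ((if y = p₁ then s else if y = p₂ then s⁻¹ else 1) * w y) * w y ^ q - ∑ y, w y * w y ^ q =
          (s - 1) * (w p₁ * w p₁ ^ q) + (s⁻¹ - 1) * (w p₂ * w p₂ ^ q) := by
        rw [← Finset.sum_sub_distrib, Finset.sum_eq_add p₁ p₂ h12 (fun z _ hz => by simp [hz.1, hz.2])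
          (by simp) (by simp), if_pos rfl, if_neg h12.symm, if_pos rfl]
        ring
      linear_combination s * h0 - s * hdiff - s * h1' - (w p₂ * w p₂ ^ q) * mul_inv_cancel₀ hs.ne_zero
  obtain ⟨T, hT, hTp⟩ := exists_phases hF (S := ({1, -1} : Finset F)) (m := 3) (by
    have := Finset.card_le_two (a := (1 : F)) (b := -1)
    omega)
  obtain ⟨x, y, z, hx, hy, hz, hxy, hxz, hyz⟩ := Finset.two_lt_card_iff.1 (show 2 < T.card by omega)
  have hT2 : ∀ t ∈ T, IsPhase q t ∧ t * t ≠ 1 := fun t ht => ⟨(hTp t ht).1, fun h => (hTp t ht).2 (by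
    simpa using mul_self_eq_one_iff.1 h)⟩
  have := quad_two hxy hxz hyz (hroot x (hT2 x hx).1 (hT2 x hx).2) (hroot y (hT2 y hy).1 (hT2 y hy).2)
    (hroot z (hT2 z hz).1 (hT2 z hz).2)
  exact mul_ne_zero hw1 (pow_ne_zero _ hw1) this

/-- An element with a zero entry is monomial. -/
lemma mono_of_zero (hq3 : q ≠ 3) {g : GL (Fin 4) F} (hg : g ∈ M) {p a : Fin 4}
    (h0 : (g : Matrix (Fin 4) (Fin 4) F) p a = 0) : g ∈ monomialGroup (Fin 4) F := by
  classical
  haveI := Fintype.ofFinite F
  by_contra hgm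
  have hrel : ∀ c : F, IsPhase q c → c ^ 4 ≠ 1 → ∀ l, (g : Matrix (Fin 4) (Fin 4) F) p l ≠ 0 →
      c ^ 4 * (1 - (g : Matrix (Fin 4) (Fin 4) F) p l * (g : Matrix (Fin 4) (Fin 4) F) p l ^ q) +
        (g : Matrix (Fin 4) (Fin 4) F) p l * (g : Matrix (Fin 4) (Fin 4) F) p l ^ q = 0 := by
    intro c hc hc4 l hl
    let t : Fin 4 → F := fun y => if y = p then (c ^ 3)⁻¹ else c
    have ht : ∀ y, IsPhase q (t y) := fun y => by
      simp only [t]; split_ifs <;> [exact (hc.pow 3).inv; exact hc]
    have hprod : ∏ y, t y = 1 := by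
      rw [← Finset.mul_prod_erase _ _ (Finset.mem_univ p),
        Finset.prod_congr rfl (g := fun _ => c) (fun y hy => if_neg (Finset.mem_erase.1 hy).1), Finset.prod_const,
        Finset.card_erase_of_mem (Finset.mem_univ p), Finset.card_univ, Fintype.card_fin]
      simp only [t, if_true]
      exact inv_mul_cancel₀ (pow_ne_zero _ hc.ne_zero)
    set d := torus (units t ht)
    have hdM : d ∈ M := hP.le (torus_mem' hF t ht hprod)
    have hdv : ∀ v : Fin 4 → F, (d : Matrix (Fin 4) (Fin 4) F) *ᵥ v = fun y => t y * v y :=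
      fun v => torus_val hF t ht v p
    have hfix : (d : Matrix (Fin 4) (Fin 4) F) *ᵥ UFrame.col g a = c • UFrame.col g a := by
      rw [hdv]
      funext y
      rw [Pi.smul_apply, smul_eq_mul, UFrame.col_apply]
      rcases eq_or_ne y p with rfl | hy
      · rw [h0, mul_zero, mul_zero]
      · simp [t, hy]
    obtain ⟨l', γ, hγ, hdw⟩ := moved hF hP hg hdM (mono_of_eigen hP hg hdM hfix) l
    rcases eq_or_ne l' l with rfl | hne
    · exfalso
      have hγp : γ = (c ^ 3)⁻¹ := by
        have := congrFun hdw p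
        rw [hdv, Pi.smul_apply, smul_eq_mul, UFrame.col_apply] at this
        simp only [t, if_true, UFrame.col_apply] at this
        exact (mul_right_cancel₀ hl this).symm
      refine hgm (of_single hF hP hg (a := l') (i := p) fun y hy => ?_)
      have := congrFun hdw y
      rw [hdv, Pi.smul_apply, smul_eq_mul, UFrame.col_apply] at this
      simp only [t, if_neg hy, UFrame.col_apply] at this
      by_contra hwy
      have hcy := (mul_right_cancel₀ hwy this).trans hγp
      exact hc4 (by rw [pow_succ]; nth_rw 2 [hcy]; exact mul_inv_cancel₀ (pow_ne_zero _ hc.ne_zero))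
    · set w := UFrame.col g l with hw
      have hN : ∑ y, t y * w y * w y ^ q = 0 := by
        have h' : ⟪(d : Matrix (Fin 4) (Fin 4) F) *ᵥ w, w⟫ = 0 := by
          rw [hdw, CfsgLib.Unitary.herm_smul_left, hw, herm_cols hF (gu hP hg), if_neg hne, mul_zero]
        rwa [hdv, herm_apply hF] at h'
      have h1' : ∑ y, w y * w y ^ q = 1 := by rw [← herm_apply hF, hw, herm_cols hF (gu hP hg), if_pos rfl]
      have hdiff : ∑ y, t y * w y * w y ^ q - c * ∑ y, w y * w y ^ q = ((c ^ 3)⁻¹ - c) * (w p * w p ^ q) := by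
        rw [Finset.mul_sum, ← Finset.sum_sub_distrib,
          Finset.sum_eq_single p (fun y _ hy => by simp [t, hy]; ring) (by simp)]
        simp only [t, if_true]; ring
      rw [← UFrame.col_apply, ← hw]
      linear_combination c ^ 3 * hN - c ^ 3 * hdiff - c ^ 4 * h1' -
        (w p * w p ^ q) * mul_inv_cancel₀ (pow_ne_zero 3 hc.ne_zero)
  obtain ⟨l, hl⟩ : ∃ l, (g : Matrix (Fin 4) (Fin 4) F) p l ≠ 0 := by
    by_contra hcon
    push Not at hcon
    have := row_norm hF (gu hP hg) p
    simp [hcon] at this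
  -- a relation forces an eighth root of unity
  have h8 : ∀ c : F, IsPhase q c → c ^ 4 ≠ 1 → c ^ 8 = 1 := by
    intro c hc hc4
    have h := hrel c hc hc4 l hl
    set N := (g : Matrix (Fin 4) (Fin 4) F) p l * (g : Matrix (Fin 4) (Fin 4) F) p l ^ q
    have hN1 : 1 - N ≠ 0 := fun e => by
      rw [e, mul_zero, zero_add] at h
      rw [h, sub_zero] at e
      exact one_ne_zero e
    have h' := congrArg (fun x => frobEquiv hF x) h
    simp only [map_add, map_mul, map_sub, map_one, map_zero, frobEquiv_apply] at h'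
    rw [show N ^ q = N from norm_fix hF _] at h'
    have heq : (c ^ 4) ^ q = c ^ 4 := mul_right_cancel₀ hN1 (by linear_combination h' - h)
    have h4 : c ^ 4 * (c ^ 4) ^ q = 1 := hc.pow 4
    rw [heq] at h4
    linear_combination h4
  obtain ⟨c, hc, hc4⟩ : ∃ c : F, IsPhase q c ∧ c ^ 4 ≠ 1 := by
    rcases (show q = 2 ∨ 4 ≤ q by have := CfsgLib.Forms.two_le_q hF; omega) with hq | hq
    · obtain ⟨c, hc, hc1, -⟩ := exists_phase_avoid hF (1 : F) 1
      refine ⟨c, hc, fun h => hc1 ?_⟩
      have h3 : c * c ^ q = 1 := hc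
      rw [hq] at h3
      linear_combination h - c * h3
    · by_contra hcon
      push Not at hcon
      have hsub : (Finset.univ.filter fun t : F => t * t ^ q = 1).val ⊆ Polynomial.nthRoots 4 (1 : F) := fun t ht => by
        rw [Polynomial.mem_nthRoots (by omega)]
        exact hcon t (Finset.mem_filter.1 ht).2
      have := (Multiset.card_le_card ((Multiset.le_iff_subset (Finset.nodup _)).2 hsub)).trans
        (Polynomial.card_nthRoots 4 1)
      rw [Finset.card_val, card_phase hF] at this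
      omega
  have hneg : c ^ 4 = -1 :=
    ((mul_self_eq_one_iff).1 (show c ^ 4 * c ^ 4 = 1 by linear_combination h8 c hc hc4)).resolve_left hc4
  have h2 : (2 : F) ≠ 0 := fun h => hc4 (by linear_combination hneg - h)
  have hq4 : 4 ≤ q := by
    by_contra hlt
    have hq : q = 2 := by have := CfsgLib.Forms.two_le_q hF; omega
    have h3 : c * c ^ q = 1 := hc
    rw [hq] at h3
    have hc1 : c = -1 := by linear_combination hneg - c * h3
    exact hc4 (by rw [hc1]; ring)
  have hhalf : ∀ k, (g : Matrix (Fin 4) (Fin 4) F) p k ≠ 0 →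
      2 * ((g : Matrix (Fin 4) (Fin 4) F) p k * (g : Matrix (Fin 4) (Fin 4) F) p k ^ q) = 1 := fun k hk => by
    have h := hrel c hc hc4 k hk
    rw [hneg] at h
    linear_combination h
  set K := Finset.univ.filter fun k => (g : Matrix (Fin 4) (Fin 4) F) p k ≠ 0 with hK
  have hsum : (K.card : F) = 2 := by
    have h1 := row_norm hF (gu hP hg) p
    rw [← Finset.sum_subset (Finset.subset_univ K) (fun k _ hk => by
      rw [show (g : Matrix (Fin 4) (Fin 4) F) p k = 0 by simpa [hK] using hk, zero_mul])] at h1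
    have h3 := congrArg (fun x => 2 * x) h1
    simp only [Finset.mul_sum] at h3
    rw [Finset.sum_congr rfl (g := fun _ => (1 : F)) (fun k hk => hhalf k (Finset.mem_filter.1 hk).2),
      Finset.sum_const, nsmul_one, mul_one] at h3
    exact h3
  have hKa : K ⊆ Finset.univ.erase a := fun k hk => Finset.mem_erase.2
    ⟨fun e => (Finset.mem_filter.1 hk).2 (e ▸ h0), Finset.mem_univ k⟩
  have hK3 := Finset.card_le_card hKa
  rw [Finset.card_erase_of_mem (Finset.mem_univ a), Finset.card_univ, Fintype.card_fin] at hK3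
  have hK2 : K.card = 2 := by
    rcases (show K.card = 0 ∨ K.card = 1 ∨ K.card = 2 ∨ K.card = 3 by omega) with h | h | h | h
    · rw [h, Nat.cast_zero] at hsum; exact absurd hsum.symm h2
    · rw [h, Nat.cast_one] at hsum; exact absurd (show (1 : F) = 0 by linear_combination -hsum) one_ne_zero
    · exact h
    · rw [h] at hsum; exact absurd (show (1 : F) = 0 by push_cast at hsum; linear_combination hsum) one_ne_zero
  obtain ⟨b, hb⟩ := Finset.card_pos.1 (show 0 < (Finset.univ.erase a \ K).card by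
    rw [Finset.card_sdiff_of_subset hKa, Finset.card_erase_of_mem (Finset.mem_univ a), Finset.card_univ,
      Fintype.card_fin, hK2]; omega)
  rw [Finset.mem_sdiff, Finset.mem_erase] at hb
  have hb0 : (g : Matrix (Fin 4) (Fin 4) F) p b = 0 := by simpa [hK] using hb.2
  refine hgm (inv_inv g ▸ inv_mem (two_zeros hF hP hq4 (M.inv_mem hg) (a := p) (p₁ := a) (p₂ := b) (Ne.symm hb.1.1) ?_ ?_))
  · rw [inv_apply hF (gu hP hg), h0, zero_pow (by omega)]
  · rw [inv_apply hF (gu hP hg), hb0, zero_pow (by omega)]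

/-- The even permutation with two orbits and phases of product one. -/
lemma pairing {t₀ t₁ t₂ t₃ : F} (h₀ : IsPhase q t₀) (h₁ : IsPhase q t₁) (h₂ : IsPhase q t₂) (h₃ : IsPhase q t₃)
    (hp : t₀ * t₁ * t₂ * t₃ = 1) :
    ∃ x ∈ M, ∀ v : Fin 4 → F,
      (x : Matrix (Fin 4) (Fin 4) F) *ᵥ v = ![t₁ * v 1, t₀ * v 0, t₃ * v 3, t₂ * v 2] := by
  let t : Fin 4 → F := ![t₀, t₁, t₂, t₃]
  have ht : ∀ y, IsPhase q (t y) := fun y => by fin_cases y <;> assumption
  let π : Equiv.Perm (Fin 4) := Equiv.swap 0 1 * Equiv.swap 2 3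
  have hs : Equiv.Perm.sign π = 1 := by decide
  refine ⟨mon π (units t ht), hP.le (UFrame.mon_mem hF π (units t ht) (fun y => ht y) ?_), fun v => funext fun y => ?_⟩
  · rw [hs, Fin.prod_univ_four]
    simpa [units_val, t] using hp
  · have e := mon_mulVec π (units t ht) v (π y)
    rw [units_val, show π (π y) = y by clear e; revert y; decide] at e
    rw [e]
    fin_cases y <;> rfl

/-- The element scaling two orthogonal full columns has no zero entry away from the diagonal. -/
lemma scaled_pair_ne_zero (hq3 : q ≠ 3) {g : GL (Fin 4) F} (hg : g ∈ M) {a l : Fin 4} (hal : a ≠ l)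
    (hv0 : ∀ y, UFrame.col g a y ≠ 0) (hw0 : ∀ y, UFrame.col g l y ≠ 0) {s : F} (hs : IsPhase q s) (hs2 : s * s ≠ 1)
    {y z : Fin 4} (hyz : y ≠ z) : s * (UFrame.col g a y * UFrame.col g a z ^ q) ≠ UFrame.col g l y * UFrame.col g l z ^ q := by
  classical
  intro hrel
  set v := UFrame.col g a with hv
  set w := UFrame.col g l with hw
  obtain ⟨d, hd, hdv⟩ := UFrame.exists_two hF hal hs
  set B := g * d * g⁻¹ with hB
  have hBM : B ∈ M := M.mul_mem (M.mul_mem hg (hP.le hd)) (M.inv_mem hg)
  have hBx : ∀ x, (B : Matrix (Fin 4) (Fin 4) F) *ᵥ x = x + ((s - 1) * ⟪x, v⟫) • v + ((s⁻¹ - 1) * ⟪x, w⟫) • w := by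
    intro x
    set r := ((g⁻¹ : GL (Fin 4) F) : Matrix (Fin 4) (Fin 4) F) *ᵥ x with hr
    have hgr : (g : Matrix (Fin 4) (Fin 4) F) *ᵥ r = x := mulVec_inv_mulVec g x
    have hra : ∀ b, r b = ⟪x, UFrame.col g b⟫ := fun b => by
      rw [← herm_single_right hF r b, ← mem_GU.1 (gu hP hg), hgr]
    have e : (d : Matrix (Fin 4) (Fin 4) F) *ᵥ r =
        r + ((s - 1) * r a) • Pi.single a 1 + ((s⁻¹ - 1) * r l) • Pi.single l 1 := funext fun b => by
      rw [hdv]
      rcases eq_or_ne b a with rfl | hba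
      · simp [hal]; ring
      rcases eq_or_ne b l with rfl | hbl
      · simp [hba]; ring
      simp [hba, hbl]
    rw [hB, mul_mulVec, mul_mulVec, ← hr, e, Matrix.mulVec_add, Matrix.mulVec_add, Matrix.mulVec_smul,
      Matrix.mulVec_smul, hgr, hra, hra, ← hv, ← hw]
  have hent : ∀ b c, (B : Matrix (Fin 4) (Fin 4) F) b c =
      (Pi.single c (1 : F) : Fin 4 → F) b + (s - 1) * (v b * v c ^ q) + (s⁻¹ - 1) * (w b * w c ^ q) := fun b c => by
    rw [← UFrame.col_apply, UFrame.col, hBx, herm_single, herm_single]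
    simp only [Pi.add_apply, Pi.smul_apply, smul_eq_mul]
    ring
  have h0 : (B : Matrix (Fin 4) (Fin 4) F) y z = 0 := by
    rw [hent, Pi.single_eq_of_ne hyz]
    have := mul_inv_cancel₀ hs.ne_zero
    linear_combination -(s⁻¹ - 1) * hrel - (v y * v z ^ q) * (-this)
  have hBm := mono_of_zero hF hP hq3 hBM h0
  obtain ⟨π, hπ⟩ := mem_monomialGroup.1 hBm
  have hvv : ⟪v, v⟫ = 1 := by rw [hv, herm_cols hF (gu hP hg), if_pos rfl]
  have hww : ⟪w, w⟫ = 1 := by rw [hw, herm_cols hF (gu hP hg), if_pos rfl]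
  have hvw : ⟪v, w⟫ = 0 := by rw [hv, hw, herm_cols hF (gu hP hg), if_neg hal]
  have hwv : ⟪w, v⟫ = 0 := by rw [hv, hw, herm_cols hF (gu hP hg), if_neg hal.symm]
  have hBv : (B : Matrix (Fin 4) (Fin 4) F) *ᵥ v = s • v := by
    rw [hBx, hvv, hvw, mul_one, mul_zero, zero_smul, add_zero, sub_smul, one_smul, add_sub_cancel]
  have hBw : (B : Matrix (Fin 4) (Fin 4) F) *ᵥ w = s⁻¹ • w := by
    rw [hBx, hwv, hww, mul_one, mul_zero, zero_smul, add_zero, sub_smul, one_smul, add_sub_cancel]
  by_cases hfix : ∃ b, π b = b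
  · obtain ⟨b, hb⟩ := hfix
    have hrow : ∀ u : Fin 4 → F, ((B : Matrix (Fin 4) (Fin 4) F) *ᵥ u) b = (B : Matrix (Fin 4) (Fin 4) F) b b * u b :=
      fun u => by
        rw [Matrix.mulVec, dotProduct, Finset.sum_eq_single b (fun c _ hc => by
          rw [hπ b c (fun e => hc (π.injective (e.symm.trans hb.symm))), zero_mul]) (by simp)]
    have e1 := congrFun hBv b
    have e2 := congrFun hBw b
    rw [hrow, Pi.smul_apply, smul_eq_mul] at e1 e2
    have e := (mul_right_cancel₀ (hv0 b) e1).symm.trans (mul_right_cancel₀ (hw0 b) e2)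
    exact hs2 (by nth_rw 2 [e]; exact mul_inv_cancel₀ hs.ne_zero)
  · push Not at hfix
    have htr : ∑ b, (B : Matrix (Fin 4) (Fin 4) F) b b = 0 :=
      Finset.sum_eq_zero fun b _ => hπ b b (Ne.symm (hfix b))
    simp only [hent, Pi.single_eq_same, Finset.sum_add_distrib, ← Finset.mul_sum, ← herm_apply hF, hvv, hww,
      Finset.sum_const, Finset.card_univ, Fintype.card_fin, nsmul_eq_mul, mul_one, Nat.cast_ofNat] at htr
    have : (s + 1) * (s + 1) = 0 := by
      linear_combination s * htr - mul_inv_cancel₀ hs.ne_zero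
    exact hs2 (by rw [eq_neg_of_add_eq_zero_left (mul_self_eq_zero.1 this)]; ring)

/-- Under the hypotheses all elements are monomial. -/
theorem le_monomial (hq3 : q ≠ 3) : M ≤ monomialGroup (Fin 4) F := by
  classical
  haveI := Fintype.ofFinite F
  intro g hg
  by_contra hgm
  set v := UFrame.col g 0 with hv
  have hne : ∀ p a, (g : Matrix (Fin 4) (Fin 4) F) p a ≠ 0 := fun p a h => hgm (mono_of_zero hF hP hq3 hg h)
  have hv0 : ∀ y, v y ≠ 0 := fun y => by rw [hv, UFrame.col_apply]; exact hne y 0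
  have hvv : ⟪v, v⟫ = 1 := by rw [hv, herm_cols hF (gu hP hg), if_pos rfl]
  rcases (show q = 2 ∨ 4 ≤ q by have := CfsgLib.Forms.two_le_q hF; omega) with hq | hq
  · have hc4 : Fintype.card F = 4 := by rw [← Nat.card_eq_fintype_card, hF, hq]; rfl
    have h1 : ∀ y, v y * v y ^ q = 1 := fun y => by
      have := FiniteField.pow_card_sub_one_eq_one (v y) (hv0 y)
      rw [hc4] at this
      rw [hq]; linear_combination this
    rw [herm_apply hF, Finset.sum_congr rfl fun y _ => h1 y, Finset.sum_const, Finset.card_univ, Fintype.card_fin,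
      nsmul_eq_mul, mul_one, ← hc4, Nat.cast_card_eq_zero] at hvv
    exact zero_ne_one hvv
  set u := v 0 * v 1 ^ q with hu
  set w := v 2 * v 3 ^ q with hw
  have hu0 : u ≠ 0 := mul_ne_zero (hv0 0) (pow_ne_zero _ (hv0 1))
  have hw0 : w ≠ 0 := mul_ne_zero (hv0 2) (pow_ne_zero _ (hv0 3))
  have huq : u ^ q = v 1 * v 0 ^ q := by rw [hu, mul_pow, CfsgLib.Forms.pow_q_q hF, mul_comm]
  have hwq : w ^ q = v 3 * v 2 ^ q := by rw [hw, mul_pow, CfsgLib.Forms.pow_q_q hF, mul_comm]
  -- an element with vanishing form carries the column to another one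
  have hcarry : ∀ t₀ t₁ t₂ t₃ : F, IsPhase q t₀ → IsPhase q t₁ → IsPhase q t₂ → IsPhase q t₃ →
      t₀ * t₁ * t₂ * t₃ = 1 → t₀ * u + t₁ * u ^ q + (t₂ * w + t₃ * w ^ q) = 0 →
      ∃ l γ, IsPhase q γ ∧ l ≠ 0 ∧ t₁ * v 1 = γ * UFrame.col g l 0 ∧ t₀ * v 0 = γ * UFrame.col g l 1 ∧
        t₃ * v 3 = γ * UFrame.col g l 2 ∧ t₂ * v 2 = γ * UFrame.col g l 3 := by
    intro t₀ t₁ t₂ t₃ h₀ h₁ h₂ h₃ hp hsum
    obtain ⟨x, hx, hxv⟩ := pairing hF hP h₀ h₁ h₂ h₃ hp
    have hform : ⟪(x : Matrix (Fin 4) (Fin 4) F) *ᵥ v, v⟫ = 0 := by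
      rw [hxv, herm_apply hF, Fin.sum_univ_four]
      simp only [Matrix.cons_val_zero, Matrix.cons_val_one, Matrix.cons_val]
      rw [huq, hwq, hu, hw] at hsum
      linear_combination hsum
    have hz : ((g⁻¹ * x * g : GL (Fin 4) F) : Matrix (Fin 4) (Fin 4) F) 0 0 = 0 := by
      rw [← UFrame.col_apply, ← herm_single_right hF (UFrame.col (g⁻¹ * x * g) 0) 0, ← mem_GU.1 (gu hP hg), UFrame.col, mul_mulVec,
        mul_mulVec, mulVec_inv_mulVec]
      exact hform
    obtain ⟨l, γ, hγ, hl⟩ :=
      moved hF hP hg hx (mono_of_zero hF hP hq3 (M.mul_mem (M.mul_mem (M.inv_mem hg) hx) hg) hz) 0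
    rw [← hv] at hl
    refine ⟨l, γ, hγ, fun e => ?_, ?_⟩
    · rw [hl, e, ← hv, CfsgLib.Unitary.herm_smul_left, hvv, mul_one] at hform
      exact hγ.ne_zero hform
    · rw [hxv] at hl
      exact ⟨congrFun hl 0, congrFun hl 1, congrFun hl 2, congrFun hl 3⟩
  have hphm : IsPhase q (-1 : F) := by
    rw [IsPhase, ← frobEquiv_apply hF, map_neg, map_one]; ring
  have hpdiv : ∀ x : F, x ≠ 0 → IsPhase q (x / x ^ q) := fun x hx => by
    rw [IsPhase, div_pow, CfsgLib.Forms.pow_q_q hF]
    field_simp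
  by_cases hsq : IsSquare (u * w)
  · obtain ⟨m, hm⟩ := hsq
    have hm0 : m ≠ 0 := fun e => mul_ne_zero hu0 hw0 (by rw [hm, e, mul_zero])
    set r := m ^ q / m with hr
    have hrp : IsPhase q r := by
      have := (hpdiv m hm0).inv
      rwa [inv_div] at this
    have hmq : u ^ q * w ^ q = m ^ q * m ^ q := by rw [← mul_pow, hm, mul_pow]
    -- four ratios
    obtain ⟨K, hK4, hK⟩ : ∃ K : Finset F, 4 ≤ K.card ∧ ∀ y ∈ K, ∃ t ε : F, IsPhase q t ∧ ε * ε = 1 ∧ y = ε * (t * t) := by
      by_cases h2 : (2 : F) = 0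
      · refine ⟨(Finset.univ.filter fun t : F => t * t ^ q = 1).image fun t => t * t, ?_, fun y hy => ?_⟩
        · rw [Finset.card_image_of_injective _ fun (x y : F) (h : x * x = y * y) =>
            (sub_eq_zero.1 (mul_self_eq_zero.1 (show (x - y) * (x - y) = 0 by
              linear_combination h + (y * y - x * y) * h2))), card_phase hF]
          omega
        · obtain ⟨t, ht, rfl⟩ := Finset.mem_image.1 hy
          exact ⟨t, 1, (Finset.mem_filter.1 ht).2, one_mul 1, (one_mul _).symm⟩
      · obtain ⟨s, hs, hs4⟩ : ∃ s : F, IsPhase q s ∧ (s * s) * (s * s) ≠ 1 := by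
          by_contra hcon
          push Not at hcon
          have hsub : (Finset.univ.filter fun t : F => t * t ^ q = 1).val ⊆ Polynomial.nthRoots 4 (1 : F) :=
            fun t ht => by
              rw [Polynomial.mem_nthRoots (by omega)]
              linear_combination hcon t (Finset.mem_filter.1 ht).2
          have := (Multiset.card_le_card ((Multiset.le_iff_subset (Finset.nodup _)).2 hsub)).trans
            (Polynomial.card_nthRoots 4 1)
          rw [Finset.card_val, card_phase hF] at this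
          omega
        refine ⟨{1, -1, s * s, -(s * s)}, ?_, fun y hy => ?_⟩
        · have e1 : (1 : F) ≠ -1 := fun e => h2 (by linear_combination e)
          have e2 : (1 : F) ≠ s * s := fun e => hs4 (by rw [← e, one_mul])
          have e3 : (1 : F) ≠ -(s * s) := fun e => hs4 (by linear_combination (s * s - 1) * e)
          have e4 : (-1 : F) ≠ s * s := fun e => hs4 (by rw [← e]; ring)
          have e5 : (-1 : F) ≠ -(s * s) := fun e => e2 (neg_injective e)
          have e6 : s * s ≠ -(s * s) := fun e => h2 ((mul_eq_zero.1 (show (2 : F) * (s * s) = 0 by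
            linear_combination e)).resolve_right (mul_ne_zero hs.ne_zero hs.ne_zero))
          simp [e1, e2, e3, e4, e5, e6]
        · simp only [Finset.mem_insert, Finset.mem_singleton] at hy
          rcases hy with rfl | rfl | rfl | rfl
          · exact ⟨1, 1, IsPhase.one, one_mul 1, by ring⟩
          · exact ⟨1, -1, IsPhase.one, by ring, by ring⟩
          · exact ⟨s, 1, hs, one_mul 1, by ring⟩
          · exact ⟨s, -1, hs, by ring, by ring⟩
    let Q : Fin 4 → F → Prop := fun l y => ∃ t ε γ : F, t ≠ 0 ∧ ε * ε = 1 ∧ y = ε * (t * t) ∧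
      t * v 0 = γ * UFrame.col g l 1 ∧ ε * r / t * v 2 = γ * UFrame.col g l 3
    have hQ : ∀ y ∈ K, ∃ l, l ≠ 0 ∧ Q l y := fun y hy => by
      obtain ⟨t, ε, ht, hε, rfl⟩ := hK y hy
      have hεp : IsPhase q ε := by
        rcases mul_self_eq_one_iff.1 hε with rfl | rfl
        · exact IsPhase.one
        · exact hphm
      have h2' : IsPhase q (ε * r / t) := (hεp.mul hrp).div ht
      obtain ⟨l, γ, hγ, hl, -, e1, -, e3⟩ := hcarry t (-1 * t * (u / u ^ q)) (ε * r / t)
        (-1 * (ε * r / t) * (w / w ^ q)) ht ((hphm.mul ht).mul (hpdiv u hu0)) h2' ((hphm.mul h2').mul (hpdiv w hw0))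
        (by
          have := ht.ne_zero
          have := pow_ne_zero q hu0
          have := pow_ne_zero q hw0
          rw [hr]
          field_simp
          linear_combination (ε * ε * (m ^ q) ^ 2) * hm - (m * m) * hmq + (m * m * (m ^ q * m ^ q)) * hε)
        (by
          have := pow_ne_zero q hu0
          have := pow_ne_zero q hw0
          field_simp
          ring)
      exact ⟨l, hl, t, ε, γ, ht.ne_zero, hε, rfl, e1, e3⟩
    choose f hf using hQ
    obtain ⟨⟨y, hy⟩, -, ⟨y', hy'⟩, -, hyy, hfy⟩ :=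
      Finset.exists_ne_map_eq_of_card_lt_of_maps_to (s := K.attach) (t := (Finset.univ.erase (0 : Fin 4)))
        (f := fun y => f y.1 y.2) (by
          rw [Finset.card_attach, Finset.card_erase_of_mem (Finset.mem_univ _), Finset.card_univ, Fintype.card_fin]
          omega) (fun y _ => Finset.mem_erase.2 ⟨(hf y.1 y.2).1, Finset.mem_univ _⟩)
    obtain ⟨-, t, ε, γ, ht, hε, rfl, a1, a3⟩ := hf y hy
    obtain ⟨-, t', ε', γ', ht', hε', rfl, b1, b3⟩ := hf y' hy'
    simp only at hfy
    rw [← hfy] at b1 b3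
    generalize f (ε * (t * t)) hy = L at a1 a3 b1 b3
    refine hyy (Subtype.ext ?_)
    have hr0 := hrp.ne_zero
    have hw' : ∀ k, UFrame.col g L k ≠ 0 := fun k => by rw [UFrame.col_apply]; exact hne k _
    have c1 : t * γ' = t' * γ := mul_right_cancel₀ (hw' 1) (mul_left_cancel₀ (hv0 0)
      (by linear_combination (γ' * UFrame.col g L 1) * a1 - (γ * UFrame.col g L 1) * b1))
    have c3 : ε * t' * γ' = ε' * t * γ := by
      have a3' : ε * r * v 2 = t * γ * UFrame.col g L 3 := by
        field_simp at a3; linear_combination a3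
      have b3' : ε' * r * v 2 = t' * γ' * UFrame.col g L 3 := by
        field_simp at b3; linear_combination b3
      refine mul_right_cancel₀ (mul_ne_zero (mul_ne_zero hr0 (hv0 2)) (hw' 3)) ?_
      linear_combination (t' * γ' * UFrame.col g L 3) * a3' -
        (t * γ * UFrame.col g L 3) * b3'
    have hγ' : γ' ≠ 0 := fun e => mul_ne_zero ht' (hv0 0) (by rw [b1, e, zero_mul])
    show ε * (t * t) = ε' * (t' * t')
    refine mul_right_cancel₀ hγ' ?_
    linear_combination ε * t * c1 + (-(ε * ε' * t')) * c3 + (t' * t' * γ' * ε') * hε - (ε * t * t' * γ) * hε'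
  · -- two equal traces
    have hodd : Odd q := by
      by_contra he
      refine hsq (FiniteField.isSquare_of_char_two ?_ _)
      rw [FiniteField.even_card_iff_char_two, ← Nat.card_eq_fintype_card, hF, Nat.pow_mod]
      rw [Nat.even_iff.1 (Nat.not_odd_iff_even.1 he)]
    set C := Finset.univ.filter fun t : F => t * t ^ q = 1 with hC
    have hfib : ∀ {b : F}, b ≠ 0 → ∀ T, (C.filter fun t => t * b + (t * b) ^ q = T).card ≤ 2 := by
      intro b hb T
      by_contra hgt
      obtain ⟨x, hx, y, hy, z, hz, hxy, hxz, hyz⟩ := Finset.two_lt_card.1 (not_le.1 hgt)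
      simp only [hC, Finset.mem_filter, Finset.mem_univ, true_and] at hx hy hz
      refine hb (quad_two (a := b) (b := -T) (c := b ^ q) hxy hxz hyz ?_ ?_ ?_)
      · linear_combination x * hx.2 - b ^ q * hx.1 - x * (mul_pow x b q)
      · linear_combination y * hy.2 - b ^ q * hy.1 - y * (mul_pow y b q)
      · linear_combination z * hz.2 - b ^ q * hz.1 - z * (mul_pow z b q)
    have hwn : -w ≠ 0 := neg_ne_zero.2 hw0
    obtain ⟨T, hT⟩ : ∃ T, T ∈ (C.image fun t => t * u + (t * u) ^ q) ∩ C.image fun t => t * -w + (t * -w) ^ q := by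
      by_contra h
      push Not at h
      have hdis : Disjoint (C.image fun t => t * u + (t * u) ^ q) (C.image fun t => t * -w + (t * -w) ^ q) :=
        Finset.disjoint_left.2 fun T h1 h2 => h T (Finset.mem_inter.2 ⟨h1, h2⟩)
      have hfix : ∀ x : F, (x + x ^ q) ^ q = x + x ^ q := fun x => by
        rw [CfsgLib.Forms.add_pow_q hF, CfsgLib.Forms.pow_q_q hF, add_comm]
      have h1 := (Finset.card_le_card (show (C.image fun t => t * u + (t * u) ^ q) ∪
          (C.image fun t => t * -w + (t * -w) ^ q) ⊆ Finset.univ.filter fun x : F => x ^ q = x from fun T hT => by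
        simp only [Finset.mem_union, Finset.mem_image] at hT
        rcases hT with ⟨t, -, rfl⟩ | ⟨t, -, rfl⟩ <;> simp [hfix])).trans (card_fixed_le hF)
      rw [Finset.card_union_of_disjoint hdis] at h1
      have h2 := Finset.card_le_mul_card_image C 2 fun T (_ : T ∈ C.image fun t => t * u + (t * u) ^ q) => hfib hu0 T
      have h3 := Finset.card_le_mul_card_image C 2 fun T (_ : T ∈ C.image fun t => t * -w + (t * -w) ^ q) => hfib hwn T
      rw [show C.card = q + 1 from card_phase hF] at h2 h3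
      omega
    simp only [Finset.mem_inter, Finset.mem_image, hC, Finset.mem_filter, Finset.mem_univ, true_and] at hT
    obtain ⟨⟨t, ht, hT1⟩, s, hs, hT2⟩ := hT
    have ht' : t⁻¹ = t ^ q := inv_eq_of_mul_eq_one_right ht
    have hs' : s⁻¹ = s ^ q := inv_eq_of_mul_eq_one_right hs
    have hnq : (s * -w) ^ q = -(s ^ q * w ^ q) := by
      rw [mul_neg, ← frobEquiv_apply hF (-(s * w)), map_neg, frobEquiv_apply, mul_pow]
    obtain ⟨l, γ, hγ, hl, e0, e1, e2, e3⟩ := hcarry t (t ^ q) s (s ^ q) ht (ht' ▸ IsPhase.inv (q := q) ht) hs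
      (hs' ▸ IsPhase.inv (q := q) hs) (by linear_combination (s * s ^ q) * ht + hs) (by
        rw [mul_pow] at hT1
        rw [hnq] at hT2
        linear_combination hT1 - hT2)
    have hl0 : ∀ y, UFrame.col g l y ≠ 0 := fun y => by rw [UFrame.col_apply]; exact hne y l
    -- the two candidate ratios are signs
    have hsign : ∀ (t : F) (y z : Fin 4), IsPhase q t → y ≠ z →
        t * v z = γ * UFrame.col g l y → t ^ q * v y = γ * UFrame.col g l z →
        (t * (v z * v y ^ q)) ^ q = t * (v z * v y ^ q) ∨ (t * (v z * v y ^ q)) ^ q = -(t * (v z * v y ^ q)) := by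
      intro t y z ht hyz ey ez
      set x := t * (v z * v y ^ q) with hx
      have hx0 : x ≠ 0 := mul_ne_zero ht.ne_zero (mul_ne_zero (hv0 z) (pow_ne_zero _ (hv0 y)))
      have hγγ : γ * γ ^ q = 1 := hγ
      by_cases h : x / x ^ q * (x / x ^ q) = 1
      · rcases mul_self_eq_one_iff.1 h with h | h
        · exact Or.inl ((div_eq_one_iff_eq (pow_ne_zero _ hx0)).1 h).symm
        · exact Or.inr (by linear_combination ((div_eq_iff (pow_ne_zero _ hx0)).1 h))
      · refine absurd ?_ (scaled_pair_ne_zero hF hP hq3 hg (Ne.symm hl) hv0 hl0 (hpdiv x hx0) h hyz)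
        have h1 : UFrame.col g l y * UFrame.col g l z ^ q = (t * t) * (v z * v y ^ q) := by
          have e4 := congrArg (fun a => a ^ q) ez
          simp only [mul_pow, CfsgLib.Forms.pow_q_q hF] at e4
          linear_combination -(γ ^ q * UFrame.col g l z ^ q) * ey - (t * v z) * e4 - (UFrame.col g l y * UFrame.col g l z ^ q) * hγγ
        rw [h1, ← hv]
        have hxq : x ^ q = t ^ q * (v y * v z ^ q) := by
          rw [hx, mul_pow, mul_pow, CfsgLib.Forms.pow_q_q hF]; ring
        rw [div_mul_eq_mul_div, div_eq_iff (pow_ne_zero _ hx0), hxq, hx]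
        have htt : t * t ^ q = 1 := ht
        linear_combination -(t * (v z * v y ^ q) * (v y * v z ^ q)) * htt
    have hU := hsign t 1 0 ht (by decide) e1 e0
    have hW := hsign s 3 2 hs (by decide) e3 e2
    rw [← hu] at hU
    rw [← hw] at hW
    rw [hnq, mul_neg] at hT2
    rw [mul_pow s] at hW
    have h2 : (2 : F) ≠ 0 := Ring.two_ne_zero (ringChar_ne_two hF hodd)
    have hprod : (t * u * (s * w)) ^ q = t * u * (s * w) := by
      rw [mul_pow, mul_pow s]
      rcases hU with hU | hU <;> rcases hW with hW | hW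
      · rw [hU, hW]
      · exfalso
        rw [hW] at hT2
        rw [hU] at hT1
        exact mul_ne_zero h2 (mul_ne_zero (IsPhase.ne_zero (q := q) ht) hu0) (by linear_combination hT1 - hT2)
      · exfalso
        rw [hW] at hT2
        rw [hU] at hT1
        exact mul_ne_zero h2 (mul_ne_zero (IsPhase.ne_zero (q := q) hs) hw0) (by linear_combination hT1 - hT2)
      · rw [hU, hW]; ring
    refine hsq ?_
    have := (isSquare_of_fixed_or_phase hF hodd (Or.inl hprod)).mul
      ((isSquare_of_fixed_or_phase hF hodd (Or.inr (IsPhase.mul (q := q) ht hs))).inv)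
    rwa [show t * u * (s * w) * (t * s)⁻¹ = u * w by
      have := IsPhase.ne_zero (q := q) ht
      have := IsPhase.ne_zero (q := q) hs
      field_simp] at this

end CfsgLib.Geo.SUFour
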