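/-
The stabiliser of an orthonormal frame is maximal in the special unitary group of dimension four, when the
fixed field does not have three elements.
-/
import Cfsg.Agent.Geo.SUFour.Frame

set_option autoImplicit false

namespace CfsgLib.Geo.SUFour

open Matrix Cfsg Cfsg.Geo CfsgLib.Geo CfsgLib.Geo.UTv CfsgLib.Geo.Mono CfsgLib.Geo.UFrame

variable {n q : ℕ} {F : Type*} [Field F] [Finite F] (hF : Nat.card F = q ^ 2) {M : Subgroup (GL (Fin n) F)}

local notation "⟪" x ", " y "⟫" => Cfsg.hermForm n F q x y

include hF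

/-- An overgroup with a line stabiliser outside the monomial group is everything. -/
lemma suGL_le_of_stab (hn : 4 ≤ n) (hle : monomialGroup (Fin n) F ⊓ suGL n F q ≤ M) (hsub : M ≤ suGL n F q)
    {g : GL (Fin n) F} (hg : g ∈ M) {a : Fin n} (hga : ∀ x, x ≠ a → (g : Matrix (Fin n) (Fin n) F) x a = 0)
    (hgm : g ∉ monomialGroup (Fin n) F) : suGL n F q ≤ M := by
  classical
  haveI := Fintype.ofFinite F
  have hf := isUnitaryForm hF (n := n)
  have hq2 := CfsgLib.Forms.two_le_q hF
  set c := (g : Matrix (Fin n) (Fin n) F) a a with hc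
  have hcol : UFrame.col g a = c • Pi.single a 1 := funext fun x => by
    rw [UFrame.col_apply, Pi.smul_apply, smul_eq_mul]
    rcases eq_or_ne x a with rfl | h
    · simp [hc]
    · simp [h, hga x h]
  have hcp : IsPhase q c := by
    have := herm_cols hF (hsub hg).1 a a
    rw [if_pos rfl, hcol, CfsgLib.Unitary.herm_smul_left, herm_single, Pi.smul_apply, Pi.single_eq_same,
      smul_eq_mul, mul_one] at this
    exact this
  set cu : Fˣ := Units.mk0 c hcp.ne_zero with hcu
  have hDc : scaleAt a cu⁻¹ ∈ Cfsg.GU n F q :=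
    (scaleAt_block hF a (s := cu⁻¹) (by rw [Units.val_inv_eq_inv_val]; exact hcp.inv)).1
  set g0 := g * scaleAt a cu⁻¹ with hg0
  have hg0B : g0 ∈ blockGU q (coordSub (Finset.univ.erase a)) :=
    (mem_block_coord hF (mul_mem (hsub hg).1 hDc)).2 fun r hr => by
      obtain rfl : r = a := by simpa using hr
      rw [UFrame.col, mul_mulVec, scaleAt_mulVec, Pi.single_eq_same, mul_one,
        show Function.update (Pi.single r (1 : F) : Fin n → F) r ((cu⁻¹ : Fˣ) : F) = ((cu⁻¹ : Fˣ) : F) • Pi.single r 1 from
          funext fun x => by rcases eq_or_ne x r with rfl | h <;> simp [*],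
        Matrix.mulVec_smul, ← UFrame.col, hcol, smul_smul, Units.val_inv_eq_inv_val, hcu, Units.val_mk0,
        inv_mul_cancel₀ hcp.ne_zero, one_smul]
  have hdet : Matrix.GeneralLinearGroup.det g0 = cu⁻¹ := Units.ext (by
    rw [Matrix.GeneralLinearGroup.val_det_apply, hg0, Units.val_mul, Matrix.det_mul,
      mem_specialLinear.1 (hsub hg).2, one_mul, scaleAt_det])
  have hg0H : g0 ∈ hold hF a M := ⟨hg0B, by
    rw [hdet, inv_inv, hg0, mul_assoc, ← scaleAt_mul, inv_mul_cancel, scaleAt_one, mul_one]; exact hg⟩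
  have hB : Block q (Finset.univ.erase a) (hold hF a M) :=
    { mono := fun k hk hkm => ⟨hk, by
        have hd : IsPhase q ((Matrix.GeneralLinearGroup.det k)⁻¹ : Fˣ).val := by
          rw [Units.val_inv_eq_inv_val, Matrix.GeneralLinearGroup.val_det_apply]
          exact (det_phase hF hk.1).inv
        refine hle ⟨mul_mem hkm (Mono.torus_mem _), mul_mem hk.1 (scaleAt_block hF a hd).1, mem_specialLinear.2 ?_⟩
        rw [Units.val_mul, Matrix.det_mul, scaleAt_det, Units.val_inv_eq_inv_val,
          Matrix.GeneralLinearGroup.val_det_apply, mul_inv_cancel₀ (det_phase hF hk.1).ne_zero]⟩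
      sub := fun k hk => hk.1
      nonmono := fun h => hgm (by
        have := mul_mem (h hg0H) (Mono.torus_mem (Function.update (1 : Fin n → Fˣ) a cu))
        rwa [← scaleAt, hg0, mul_assoc, ← scaleAt_mul, inv_mul_cancel, scaleAt_one, mul_one] at this) }
  obtain ⟨B, -, hB2, hBq, hBH⟩ := hB.exists_block hF
  have hblock : ∀ k ∈ blockGU q (coordSub (F := F) B), k ∈ suGL n F q → k ∈ M := fun k hk hkS => by
    have := (hBH hk).2
    rwa [show Matrix.GeneralLinearGroup.det k = 1 from Units.ext (by
      rw [Matrix.GeneralLinearGroup.val_det_apply, mem_specialLinear.1 hkS.2, Units.val_one]),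
      inv_one, scaleAt_one, mul_one] at this
  have hall : ∀ C : Finset (Fin n), C.card ≤ B.card →
      ∀ k ∈ blockGU q (coordSub (F := F) C), k ∈ suGL n F q → k ∈ M := fun C hC k hk hkS => by
    obtain ⟨C', hCC, hC'⟩ := Finset.exists_superset_card_eq hC (by
      exact (Finset.card_le_univ B))
    exact perm_block hF hle hC'.symm hblock k (block_coord_mono hCC hk) hkS
  -- moving a pair of places with non-zero length
  have hreduce : ∀ (v : Fin n → F) (C : Finset (Fin n)), C ⊆ supp v → C.card = B.card →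
      ∑ x ∈ C, v x * v x ^ q ≠ 0 → ∃ k ∈ M, (supp ((k : Matrix (Fin n) (Fin n) F) *ᵥ v)).card < (supp v).card := by
    intro v C hC hCc hsum
    let w : Fin n → F := fun x => if x ∈ C then v x else 0
    have hwC : w ∈ coordSub C := fun x hx => if_neg hx
    have hww : ⟪w, w⟫ = ∑ x ∈ C, v x * v x ^ q := by
      rw [herm_apply hF, ← Finset.sum_subset (Finset.subset_univ C) (fun x _ hx => by simp [w, hx])]
      exact Finset.sum_congr rfl fun x hx => by simp [w, hx]
    obtain ⟨x, hx⟩ : C.Nonempty := Finset.card_pos.1 (by omega)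
    obtain ⟨s, hs⟩ := Unit.exists_norm_eq hf.ne_refl hf.involutive (t := ⟪w, w⟫) (by
      rw [frobEquiv_apply]; exact herm_self_pow hF w)
    rw [frobEquiv_apply] at hs
    have hs' : ⟪w, w⟫ = ⟪s • Pi.single x 1, s • Pi.single x 1⟫ := by
      rw [hf.smul_left, Unit.smul_right hf, herm_single, Pi.single_eq_same, one_pow, mul_one, frobEquiv_apply, hs]
    obtain ⟨k, hk, hkd, hkw⟩ := exists_map_vec hF (coordSub_nondeg hF C) (by rw [finrank_coordSub]; omega) hwC
      ((coordSub C).smul_mem s (single_mem hx 1)) hs' (by rw [hww]; exact hsum)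
    have hkS : k ∈ suGL n F q := ⟨hk.1, mem_specialLinear.2 hkd⟩
    refine ⟨k, hall C hCc.le k hk hkS, ?_⟩
    have hfix : (k : Matrix (Fin n) (Fin n) F) *ᵥ (v - w) = v - w :=
      (hk.2 _).2 ((mem_perp_coord hF).2 fun r hr => by simp [w, hr])
    have e : (k : Matrix (Fin n) (Fin n) F) *ᵥ v = s • Pi.single x 1 + (v - w) := by
      conv_lhs => rw [← add_sub_cancel w v]
      rw [Matrix.mulVec_add, hkw, hfix]
    have hsub' : supp ((k : Matrix (Fin n) (Fin n) F) *ᵥ v) ⊆ insert x (supp v \ C) := fun r hr => by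
      rw [mem_supp, e] at hr
      rw [Finset.mem_insert, Finset.mem_sdiff, mem_supp]
      by_contra hcon
      push Not at hcon
      by_cases hrC : r ∈ C
      · simp [w, hrC, hcon.1] at hr
      · have : v r = 0 := by_contra fun h => hrC (hcon.2 h)
        simp [w, hrC, hcon.1, this] at hr
    have h1 := Finset.card_le_card hsub'
    have h2 := Finset.card_insert_le x (supp v \ C)
    have h3 := Finset.card_sdiff_add_card_eq_card hC
    omega
  suffices H : ∀ m, ∀ v : Fin n → F, (supp v).card = m → ⟪v, v⟫ = 0 → Full q M v from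
    suGL_le_of_full hF (by omega) fun v hv => H _ v rfl hv
  intro m
  induction m using Nat.strong_induction_on with
  | _ m ih =>
    intro v hvm hv
    rcases le_or_gt (supp v).card B.card with hsmall | hbig
    · refine full_of_mem hF hv fun cc hcc => hall _ hsmall _ ?_ (utv_mem hF hv hcc)
      refine (mem_block_coord hF (utv_mem hF hv hcc).1).2 fun r hr => ?_
      rw [UFrame.col, utv_mulVec hF hv, herm_single, show v r = 0 from by_contra fun h => hr (mem_supp.2 h),
        zero_pow (by omega), mul_zero, zero_smul, add_zero]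
    obtain ⟨k, hk, hlt⟩ : ∃ k ∈ M, (supp ((k : Matrix (Fin n) (Fin n) F) *ᵥ v)).card < (supp v).card := by
      rcases hBq with ⟨hb, hq⟩ | ⟨hb, hq⟩
      · by_cases hex : ∃ x ∈ supp v, ∃ y ∈ supp v, x ≠ y ∧ v x * v x ^ q + v y * v y ^ q ≠ 0
        · obtain ⟨x, hx, y, hy, hxy, hne⟩ := hex
          exact hreduce v {x, y} (by simp [Finset.insert_subset_iff, hx, hy]) (by rw [Finset.card_pair hxy, hb])
            (by rw [Finset.sum_pair hxy]; exact hne)
        push Not at hex
        obtain ⟨x, y, z, hx, hy, hz, hxy, hxz, hyz⟩ :=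
          Finset.two_lt_card_iff.1 (show 2 < (supp v).card by omega)
        obtain ⟨s, hs, hs0, hs1⟩ := exists_fixed_ne_one hF hq
        let w : Fin n → F := fun r => if r = x ∨ r = y then v r else 0
        have hwC : w ∈ coordSub ({x, y} : Finset (Fin n)) := fun r hr => by
          simp only [Finset.mem_insert, Finset.mem_singleton] at hr
          exact if_neg hr
        have hww : ⟪w, w⟫ = 0 := by
          rw [herm_apply hF, ← Finset.sum_subset (Finset.subset_univ ({x, y} : Finset (Fin n)))
            (fun r _ hr => by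
              simp only [Finset.mem_insert, Finset.mem_singleton] at hr
              simp [w, hr]), Finset.sum_pair hxy]
          simpa [w] using hex x hx y hy hxy
        have hw0 : w ≠ 0 := fun h => by
          have := congrFun h x
          simp [w] at this
          exact mem_supp.1 hx this
        obtain ⟨k, hk, hkd, hkw⟩ := exists_scale hF (coordSub_nondeg hF _)
          (by rw [finrank_coordSub, Finset.card_pair hxy]) hwC hw0 hww hs hs0
        have hkM : k ∈ M := hall _ (by rw [Finset.card_pair hxy, hb]) k hk ⟨hk.1, mem_specialLinear.2 hkd⟩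
        have e : (k : Matrix (Fin n) (Fin n) F) *ᵥ v = fun r => (if r = x ∨ r = y then s else 1) * v r := by
          conv_lhs => rw [← add_sub_cancel w v]
          rw [Matrix.mulVec_add, hkw, (hk.2 _).2 ((mem_perp_coord hF).2 fun r hr => by
            simp only [Finset.mem_insert, Finset.mem_singleton] at hr
            simp [w, hr])]
          funext r
          by_cases hr : r = x ∨ r = y <;> simp [w, hr]
        set u := (k : Matrix (Fin n) (Fin n) F) *ᵥ v with hu
        have hsupp : supp u = supp v := by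
          ext r
          rw [mem_supp, mem_supp, e]
          by_cases hr : r = x ∨ r = y <;> simp [hr, hs0]
        have hνx : v x * v x ^ q ≠ 0 := mul_ne_zero (mem_supp.1 hx) (pow_ne_zero _ (mem_supp.1 hx))
        have hxy' := hex x hx y hy hxy
        have hxz' := hex x hx z hz hxz
        have hyz' := hex y hy z hz hyz
        have h20 : (2 : F) = 0 := (mul_eq_zero.1 (show (2 : F) * (v x * v x ^ q) = 0 by
          linear_combination hxy' + hxz' - hyz')).resolve_right hνx
        obtain ⟨k', hk', hlt⟩ := hreduce u {x, z} (by simp [Finset.insert_subset_iff, hsupp, hx, hz])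
          (by rw [Finset.card_pair hxz, hb]) (by
            rw [Finset.sum_pair hxz, e]
            simp only [true_or, if_true, hxz.symm, hyz.symm, or_self, if_false, one_mul, mul_pow]
            rw [hs]
            intro h0
            have : (s - 1) * (s - 1) * (v x * v x ^ q) = 0 := by
              linear_combination h0 - hxz' + (1 - s) * (v x * v x ^ q) * h20
            rcases mul_eq_zero.1 this with h | h
            · exact hs1 (sub_eq_zero.1 (mul_self_eq_zero.1 h))
            · exact hνx h)
        exact ⟨k' * k, M.mul_mem hk' hkM, by rw [mul_mulVec, ← hu]; rwa [hsupp] at hlt⟩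
      · obtain ⟨x, y, z, hx, hy, hz, hxy, hxz, hyz⟩ :=
          Finset.two_lt_card_iff.1 (show 2 < (supp v).card by omega)
        have hph : ∀ r ∈ supp v, v r * v r ^ q = 1 := fun r hr => by
          have := FiniteField.pow_card_sub_one_eq_one (v r) (mem_supp.1 hr)
          rw [← Nat.card_eq_fintype_card, hF, hq] at this
          rw [hq]; linear_combination this
        have h20 : (2 : F) = 0 := by
          have h4 : ((4 : ℕ) : F) = 0 := by
            rw [show 4 = Fintype.card F by rw [← Nat.card_eq_fintype_card, hF, hq]; rfl, Nat.cast_card_eq_zero]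
          exact mul_self_eq_zero.1 (by linear_combination h4)
        have hCc : ({x, y, z} : Finset (Fin n)).card = 3 := by
          rw [Finset.card_insert_of_notMem (by simp [hxy, hxz]), Finset.card_pair hyz]
        refine hreduce v {x, y, z} (by simp [Finset.insert_subset_iff, hx, hy, hz]) (by rw [hCc, hb]) ?_
        rw [Finset.sum_insert (by simp [hxy, hxz]), Finset.sum_pair hyz, hph x hx, hph y hy, hph z hz]
        intro h0
        exact one_ne_zero (by linear_combination h0 - h20)
    have hsu := hsub hk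
    have hfull := ih _ (hvm ▸ hlt) _ rfl (by rw [herm_mulVec hsu]; exact hv)
    have := full_conj hF hsub hfull (M.inv_mem hk)
    rwa [inv_mulVec_mulVec] at this

/-- Overgroups of the monomial group in SU of dimension four. -/
theorem frame_key (hn : n = 4) (hq3 : q ≠ 3) (hle : monomialGroup (Fin n) F ⊓ suGL n F q ≤ M) (hsub : M ≤ suGL n F q)
    (hX : ¬ M ≤ monomialGroup (Fin n) F) : suGL n F q ≤ M := by
  subst hn
  by_cases hstab : ∀ g ∈ M, ∀ a, (∀ x, x ≠ a → (g : Matrix (Fin 4) (Fin 4) F) x a = 0) →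
      g ∈ monomialGroup (Fin 4) F
  · exact absurd (le_monomial hF ⟨hle, hsub, hstab⟩ hq3) hX
  push Not at hstab
  obtain ⟨g, hg, a, hga, hgm⟩ := hstab
  exact suGL_le_of_stab hF le_rfl hle hsub hg hga hgm

/-- The stabiliser of a frame is maximal in SU. -/
theorem frame_maximal (hn : n = 4) (hq3 : q ≠ 3) {t : ℕ} {D : Fin t → Submodule F (Fin n → F)}
    (hD : IsNondegenerateMDecomposition (Cfsg.hermForm n F q) 1 D) :
    IsMaximalIn (suGL n F q) (decompositionStabilizer D ⊓ suGL n F q) := by
  classical
  have hf := isUnitaryForm hF (n := n)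
  -- an orthonormal basis
  have hu : ∀ i, ∃ u ∈ D i, ⟪u, u⟫ = 1 ∧ ∀ x ∈ D i, ∃ a : F, x = a • u := fun i => by
    obtain ⟨w, hw, hw0⟩ := (Submodule.ne_bot_iff _).1 (card_pos_dim hF hD i)
    have hline : ∀ x ∈ D i, ∃ a : F, x = a • w := fun x hx => by
      have hsp : F ∙ w = D i := Submodule.eq_of_le_of_finrank_le ((Submodule.span_singleton_le_iff_mem _ _).2 hw)
        (by rw [hD.decomp.finrank_eq, finrank_span_singleton hw0])
      obtain ⟨a, ha⟩ := Submodule.mem_span_singleton.1 (hsp.symm ▸ hx)
      exact ⟨a, ha.symm⟩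
    have hww : ⟪w, w⟫ ≠ 0 := fun h0 => by
      obtain ⟨-, y, hy, hwy⟩ := hD.nondegenerate i w hw hw0
      obtain ⟨a, rfl⟩ := hline y hy
      rw [Unit.smul_right hf, h0, mul_zero] at hwy
      exact hwy rfl
    obtain ⟨s, hs⟩ := Unit.exists_norm_eq hf.ne_refl hf.involutive (t := 1 / ⟪w, w⟫) (by
      rw [map_div₀, map_one, Unit.sigma_self hf])
    have hs0 : s ≠ 0 := fun h0 => by rw [h0, zero_mul] at hs; exact one_div_ne_zero hww hs.symm
    refine ⟨s • w, (D i).smul_mem _ hw, by
      rw [hf.smul_left, Unit.smul_right hf, ← mul_assoc, hs, div_mul_cancel₀ _ hww], fun x hx => ?_⟩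
    obtain ⟨a, rfl⟩ := hline x hx
    exact ⟨a / s, by rw [smul_smul, div_mul_cancel₀ _ hs0]⟩
  choose u huD huu hline using hu
  have hon : ∀ i j, ⟪u i, u j⟫ = if i = j then 1 else 0 := fun i j => by
    rcases eq_or_ne i j with rfl | h
    · rw [huu, if_pos rfl]
    · rw [if_neg h]; exact hD.orthogonal i j h _ (huD i) _ (huD j)
  have hli : LinearIndependent F u := linearIndependent_iff'.2 fun S c hc i hi => by
    let φ : (Fin n → F) →+ F :=
      AddMonoidHom.mk' (fun x => ⟪x, u i⟫) fun x y => CfsgLib.Unitary.herm_add_left n x y (u i)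
    have h1 := congrArg φ hc
    rw [map_sum, map_zero, Finset.sum_eq_single i] at h1
    · change ⟪c i • u i, u i⟫ = 0 at h1
      rwa [hf.smul_left, huu, mul_one] at h1
    · intro j _ hj
      change ⟪c j • u j, u i⟫ = 0
      rw [hf.smul_left, hon, if_neg hj, mul_zero]
    · exact fun h => absurd hi h
  have hspan : ⊤ ≤ Submodule.span F (Set.range u) := by
    rw [← hD.decomp.iSup_eq_top]
    refine iSup_le fun i x hx => ?_
    obtain ⟨a, rfl⟩ := hline i x hx
    exact Submodule.smul_mem _ _ (Submodule.subset_span ⟨i, rfl⟩)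
  obtain rfl : t = n := by
    have h1 := finrank_span_eq_card hli
    rw [top_le_iff.1 hspan, finrank_top, Module.finrank_fin_fun, Fintype.card_fin] at h1
    exact h1.symm
  let A : Matrix (Fin t) (Fin t) F := Matrix.of fun r c => u c r
  have hA : ∀ x, A *ᵥ x = ∑ c, x c • u c := fun x => funext fun r => by
    simp [A, Matrix.mulVec, dotProduct, Finset.sum_apply, mul_comm]
  have hdetA : A.det ≠ 0 := fun h0 => by
    obtain ⟨x, hx0, hx⟩ := Matrix.exists_mulVec_eq_zero_iff.2 h0
    rw [hA] at hx
    exact hx0 (funext fun c => Fintype.linearIndependent_iff.1 hli x hx c)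
  let P : GL (Fin t) F := Matrix.GeneralLinearGroup.mkOfDetNeZero A hdetA
  have hPv : ∀ x, (P : Matrix (Fin t) (Fin t) F) *ᵥ x = ∑ c, x c • u c := hA
  have hPe : ∀ i, (P : Matrix (Fin t) (Fin t) F) *ᵥ Pi.single i 1 = u i := fun i => by
    rw [hPv, Finset.sum_eq_single i (fun b _ hb => by simp [hb]) (by simp), Pi.single_eq_same, one_smul]
  have hPG : P ∈ Cfsg.GU t F q := mem_GU.2 fun x y => by
    let φ : ∀ w, (Fin t → F) →+ F := fun w =>
      AddMonoidHom.mk' (fun a => Cfsg.hermForm t F q a w) fun a b => CfsgLib.Unitary.herm_add_left t a b w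
    let ψ : ∀ w, (Fin t → F) →+ F := fun w =>
      AddMonoidHom.mk' (fun a => Cfsg.hermForm t F q w a) fun a b => Unit.add_right hf w a b
    rw [hPv, hPv, herm_apply hF]
    refine (map_sum (φ _) _ _).trans (Finset.sum_congr rfl fun c _ => ?_)
    change Cfsg.hermForm t F q (x c • u c) (∑ d, y d • u d) = _
    rw [hf.smul_left]
    congr 1
    refine (map_sum (ψ _) _ _).trans ?_
    rw [Finset.sum_eq_single c]
    · change Cfsg.hermForm t F q (u c) (y c • u c) = _
      rw [Unit.smul_right hf, huu, mul_one, frobEquiv_apply]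
    · intro d _ hd
      change Cfsg.hermForm t F q (u c) (y d • u d) = 0
      rw [Unit.smul_right hf, hon, if_neg (Ne.symm hd), mul_zero]
    · simp
  have hconj : ∀ g, g ∈ decompositionStabilizer D ↔ P⁻¹ * g * P ∈ monomialGroup (Fin t) F := by
    intro g
    constructor
    · intro hg
      obtain ⟨σ, hσ⟩ := exists_perm_of_mem hg
      refine mem_mono_of_perm fun a => ⟨σ a, fun y hy => ?_⟩
      obtain ⟨c, hc⟩ := hline (σ a) _ (hσ a _ (huD a))
      rw [← UFrame.col_apply, UFrame.col, mul_mulVec, mul_mulVec, hPe, hc, ← hPe, ← Matrix.mulVec_smul, inv_mulVec_mulVec]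
      simp [hy]
    · intro hm
      obtain ⟨π, hπ⟩ := mem_monomialGroup.1 hm
      refine mem_decompositionStabilizer_of hD.decomp π fun i x hx => ?_
      obtain ⟨a, rfl⟩ := hline i x hx
      rw [Matrix.mulVec_smul]
      refine (D (π i)).smul_mem _ ?_
      have e : UFrame.col (P⁻¹ * g * P) i = ((P⁻¹ * g * P : GL (Fin t) F) : Matrix (Fin t) (Fin t) F) (π i) i • Pi.single (π i) 1 :=
        funext fun r => by
          rw [UFrame.col_apply, Pi.smul_apply, smul_eq_mul]
          rcases eq_or_ne r (π i) with rfl | h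
          · simp
          · simp [h, hπ r i h]
      have e2 := congrArg (fun r => (P : Matrix (Fin t) (Fin t) F) *ᵥ r) e
      simp only [UFrame.col, mul_mulVec, mulVec_inv_mulVec, Matrix.mulVec_smul, hPe] at e2
      rw [e2]
      exact (D (π i)).smul_mem _ (huD _)
  have hdet1 : ∀ g A : GL (Fin t) F, g ∈ specialLinear (Fin t) F → A⁻¹ * g * A ∈ specialLinear (Fin t) F :=
    fun g A hg => mem_specialLinear.2 (by
      rw [Units.val_mul, Units.val_mul, Matrix.det_mul, Matrix.det_mul, mem_specialLinear.1 hg, mul_one,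
        ← Matrix.det_mul, ← Units.val_mul, inv_mul_cancel, Units.val_one, Matrix.det_one])
  have hsu : ∀ g, g ∈ suGL t F q → P⁻¹ * g * P ∈ suGL t F q ∧ P * g * P⁻¹ ∈ suGL t F q := fun g hg =>
    ⟨⟨(Cfsg.GU t F q).mul_mem ((Cfsg.GU t F q).mul_mem ((Cfsg.GU t F q).inv_mem hPG) hg.1) hPG, hdet1 g P hg.2⟩,
     ⟨(Cfsg.GU t F q).mul_mem ((Cfsg.GU t F q).mul_mem hPG hg.1) ((Cfsg.GU t F q).inv_mem hPG), by
      have := hdet1 g P⁻¹ hg.2
      rwa [inv_inv] at this⟩⟩
  have hcc : ∀ g : GL (Fin t) F, P * (P⁻¹ * g * P) * P⁻¹ = g := fun g => by group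
  have hcc' : ∀ g : GL (Fin t) F, P⁻¹ * (P * g * P⁻¹) * P = g := fun g => by group
  refine isMaximalIn_of_key (fun h => frame_proper (n := t) hF (by omega) fun g hg => ?_) fun M hM hMI hMX => ?_
  · have := (hconj _).1 (h (hsu g hg).2)
    rwa [hcc'] at this
  · have key : suGL t F q ≤ M.comap (MulAut.conj P).toMonoidHom := by
      refine frame_key hF hn hq3 (fun g hg => ?_) (fun g hg => ?_) (fun h => hMX fun g hg => ?_)
      · exact hM ⟨(hconj _).2 (by show P⁻¹ * (P * g * P⁻¹) * P ∈ _; rw [hcc']; exact hg.1), (hsu g hg.2).2⟩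
      · have := (hsu _ (hMI (show P * g * P⁻¹ ∈ M from hg))).1
        rwa [hcc'] at this
      · refine (hconj g).2 (h ?_)
        show P * (P⁻¹ * g * P) * P⁻¹ ∈ M
        rw [hcc]; exact hg
    intro g hg
    have := key (hsu g hg).1
    change P * (P⁻¹ * g * P) * P⁻¹ ∈ M at this
    rwa [hcc] at this

end CfsgLib.Geo.SUFour
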