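/-
The stabiliser of two complementary totally singular planes is maximal in SU of dimension four, at least four
elements in the fixed field.
-/
import Cfsg.Agent.Geo.UnitSingularPair
import Cfsg.Agent.Geo.SLFour.Unitary

set_option autoImplicit false

namespace CfsgLib.Geo.SUFour

open Matrix Cfsg Cfsg.Geo CfsgLib.Geo CfsgLib.Geo.UTv

variable {n q : ℕ} {F : Type*} [Field F] [Finite F] (hF : Nat.card F = q ^ 2)
  {M : Subgroup (GL (Fin n) F)} {W U : Submodule F (Fin n → F)}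

local notation "⟪" x ", " y "⟫" => Cfsg.hermForm n F q x y

/-- The root elements of the pair `(λ a, b)`. -/
def Fam (q : ℕ) (M : Subgroup (GL (Fin n) F)) (a b : Fin n → F) : Prop :=
  ∀ l : F, ∃ R ∈ M, IsRoot2 q R (l • a) b

include hF

/-- Fixed elements other than `0, 1, -1`. -/
lemma exists_fixed_norm {B : Finset F} (hB : B.card < q) : ∃ x : F, x * x ^ q ∉ B := by
  classical
  haveI := Fintype.ofFinite F
  have h0 := CfsgLib.Forms.two_le_q hF
  by_contra hcon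
  push Not at hcon
  have h1 : (Finset.univ : Finset F).card ≤ (q + 1) * B.card :=
    Finset.card_le_mul_card_image_of_maps_to (f := fun x => x * x ^ q) (fun x _ => hcon x) (q + 1) fun t _ => by
      refine (Finset.card_le_card (t := (Polynomial.nthRoots (q + 1) t).toFinset) fun x hx => ?_).trans
        ((Multiset.toFinset_card_le _).trans (Polynomial.card_nthRoots _ t))
      rw [Multiset.mem_toFinset, Polynomial.mem_nthRoots (by omega), pow_succ']
      exact (Finset.mem_filter.1 hx).2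
  rw [Finset.card_univ, ← Nat.card_eq_fintype_card, hF] at h1
  have h2 : B.card + 1 ≤ q := hB
  nlinarith

lemma norm_fixed (x : F) : (x * x ^ q) ^ q = x * x ^ q := by
  rw [mul_pow, CfsgLib.Forms.pow_q_q hF, mul_comm]

/-- Every skew element is a difference `x - σ x` with prescribed scaling. -/
lemma exists_skew_param {d : F} (hd : d ≠ 0) {c : F} (hc : c + c ^ q = 0) :
    ∃ l : F, l * d - l ^ q * d ^ q = c := by
  have hf := isUnitaryForm hF (n := 4)
  obtain ⟨t, ht⟩ := Unit.exists_trace_one hf.ne_refl hf.involutive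
  refine ⟨c * t / d, ?_⟩
  rw [← mul_pow, div_mul_cancel₀ _ hd, mul_pow]
  rw [frobEquiv_apply] at ht
  have hcs : c ^ q = -c := by linear_combination hc
  rw [hcs]
  linear_combination c * ht

omit [Finite F] hF in
/-- A linear family contains the products of a combination of root elements. -/
lemma fam_elem {a b : Fin n → F} (h : Fam q M a b) (l : F) :
    ∃ R ∈ M, ∀ y, (R : Matrix (Fin n) (Fin n) F) *ᵥ y =
      y + ⟪y, b⟫ • (l • a) - ⟪y, l • a⟫ • b := h l

lemma fam_swap {a b : Fin n → F} (h : Fam q M a b) : Fam q M b a := fun l => by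
  have hf := isUnitaryForm hF (n := n)
  obtain ⟨R, hR, hRe⟩ := h (-l ^ q)
  refine ⟨R, hR, fun y => ?_⟩
  rw [hRe y, Unit.smul_right hf, Unit.smul_right hf, map_neg, frobEquiv_apply, frobEquiv_apply,
    CfsgLib.Forms.pow_q_q hF]
  module

/-- A family moved along a pencil of transvection shifts gives a full centre. -/
lemma full_of_pencil (hq : 3 ≤ q) {a b z : Fin n → F} (ha : ⟪a, a⟫ = 0) (hb : ⟪b, b⟫ = 0) (hab : ⟪a, b⟫ = 0)
    (hz : ⟪z, z⟫ = 0) (haz : ⟪a, z⟫ = 0) (hbz : ⟪b, z⟫ = 0) (hfam : Fam q M a b) {α β : F}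
    (hA : ∀ c : F, c ^ q = c → ∃ A ∈ M ⊓ suGL n F q, (A : Matrix (Fin n) (Fin n) F) *ᵥ a = a + (c * α) • z ∧
      (A : Matrix (Fin n) (Fin n) F) *ᵥ b = b + (c * β) • z)
    (hne : (α ≠ 0 ∧ β ≠ 0) ∨ (α ≠ 0 ∧ β = 0 ∧ ∃ s : F, s ≠ 0 ∧ b = s • z)) : Full q M z := by
  have hf := isUnitaryForm hF (n := n)
  have hba : ⟪b, a⟫ = 0 := by rw [hf.herm, hab, map_zero]
  have hza : ⟪z, a⟫ = 0 := by rw [hf.herm, haz, map_zero]
  have hzb : ⟪z, b⟫ = 0 := by rw [hf.herm, hbz, map_zero]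
  -- the moved elements
  have hmv : ∀ c : F, c ^ q = c → ∀ l : F, ∃ R ∈ M, ∀ y, (R : Matrix (Fin n) (Fin n) F) *ᵥ y =
      y + (l * (⟪y, b⟫ + c * β ^ q * ⟪y, z⟫)) • (a + (c * α) • z) -
        (l ^ q * (⟪y, a⟫ + c * α ^ q * ⟪y, z⟫)) • (b + (c * β) • z) := by
    intro c hc l
    obtain ⟨A, hAM, hAa, hAb⟩ := hA c hc
    obtain ⟨R, hR, hRe⟩ := hfam l
    have hconj := IsRoot2.conj (g := A) hAM.2 hRe
    refine ⟨A * R * A⁻¹, M.mul_mem (M.mul_mem hAM.1 hR) (M.inv_mem hAM.1), fun y => ?_⟩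
    rw [hconj y, Matrix.mulVec_smul, hAa, hAb]
    simp only [Unit.add_right hf, Unit.smul_right hf, frobEquiv_apply, mul_pow, hc]
    module
  classical
  refine ⟨hz, fun k hk => ?_⟩
  have h00 : (0 : F) ^ q = 0 := zero_pow (by omega)
  rcases hne with ⟨hα, hβ⟩ | ⟨hα, hβ, s, hs0, hs⟩
  · obtain ⟨x, hx⟩ := exists_fixed_norm hF (B := ({0, 1} : Finset F)) (Finset.card_le_two.trans_lt (by omega))
    simp only [Finset.mem_insert, Finset.mem_singleton, not_or] at hx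
    obtain ⟨r, hr⟩ : ∃ r, r = x * x ^ q := ⟨_, rfl⟩
    have hrq : r ^ q = r := by rw [hr, norm_fixed hF]
    rw [← hr] at hx
    have hd : (r * r - r) * (α * β ^ q) ≠ 0 := by
      refine mul_ne_zero ?_ (mul_ne_zero hα (pow_ne_zero _ hβ))
      rw [show r * r - r = r * (r - 1) by ring]
      exact mul_ne_zero hx.1 (sub_ne_zero.2 hx.2)
    obtain ⟨l, hl⟩ := exists_skew_param hF hd hk
    simp only [mul_pow, CfsgLib.Forms.pow_q_q hF] at hl
    have hl' : (r * r - r) * (l * α * β ^ q - l ^ q * α ^ q * β) = k := by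
      rw [show (r * r - r) ^ q = r * r - r by
        rw [← frobEquiv_apply hF, map_sub, map_mul, frobEquiv_apply, hrq]] at hl
      linear_combination hl
    have hsub : (r - 1) ^ q = r - 1 := by rw [← frobEquiv_apply hF, map_sub, map_one, frobEquiv_apply, hrq]
    have hneg : (-r) ^ q = -r := by rw [← frobEquiv_apply hF, map_neg, frobEquiv_apply, hrq]
    obtain ⟨R1, hR1, h1⟩ := hmv r hrq l
    obtain ⟨R2, hR2, h2⟩ := hmv 1 (one_pow q) (-r * l)
    obtain ⟨R3, hR3, h3⟩ := hmv 0 h00 ((r - 1) * l)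
    refine ⟨uax_dot_self hz k, ?_⟩
    suffices tvec z (uax q z k) (uax_dot_self hz k) = R1 * R2 * R3 by
      rw [this]; exact M.mul_mem (M.mul_mem hR1 hR2) hR3
    refine gl_ext_mulVec fun y => ?_
    rw [utv_mulVec hF hz, mul_mulVec, mul_mulVec, h3, h2, h1, ← hl']
    simp only [sub_eq_add_neg, ← neg_smul, hf.add_left, hf.smul_left, ha, hb, hab, hba, hz, haz, hbz, hza, hzb,
      mul_zero, add_zero, zero_mul, zero_smul, one_mul]
    simp only [mul_pow, ← sub_eq_add_neg, hsub, hneg]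
    match_scalars <;> ring
  · subst hs
    obtain ⟨l, hl⟩ := exists_skew_param hF (mul_ne_zero hα (pow_ne_zero q hs0)) hk
    simp only [mul_pow, CfsgLib.Forms.pow_q_q hF] at hl
    have hneg : (-l) ^ q = -l ^ q := by rw [← frobEquiv_apply hF, map_neg, frobEquiv_apply]
    obtain ⟨R1, hR1, h1⟩ := hmv 1 (one_pow q) l
    obtain ⟨R3, hR3, h3⟩ := hmv 0 h00 (-l)
    refine ⟨uax_dot_self hz k, ?_⟩
    suffices tvec z (uax q z k) (uax_dot_self hz k) = R1 * R3 by rw [this]; exact M.mul_mem hR1 hR3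
    refine gl_ext_mulVec fun y => ?_
    rw [utv_mulVec hF hz, mul_mulVec, h3, h1, ← hl]
    simp only [sub_eq_add_neg, ← neg_smul, hf.add_left, hf.smul_left, Unit.smul_right hf, frobEquiv_apply, ha,
      hz, haz, hza, hβ, hneg, h00, mul_zero, add_zero, zero_mul, zero_smul, one_mul]
    match_scalars <;> ring

variable (h : UPair q W U) (hX : HasRoots q M W U)
  (hT : ∀ g ∈ suGL n F q, (∀ v ∈ W, (g : Matrix (Fin n) (Fin n) F) *ᵥ v ∈ W) →
    (∀ v ∈ U, (g : Matrix (Fin n) (Fin n) F) *ᵥ v ∈ U) → g ∈ M)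
include h hX hT

omit hX in
/-- The torus element of a connecting pair. -/
lemma exists_torus {w u : Fin n → F} (hw : w ∈ W) (hu : u ∈ U) (hw0 : w ≠ 0) (hu0 : u ≠ 0) (hwu : ⟪w, u⟫ = 0)
    {μ : F} (hμ : μ ≠ 0) : ∃ g ∈ M ⊓ suGL n F q, (g : Matrix (Fin n) (Fin n) F) *ᵥ w = μ • w ∧
      (g : Matrix (Fin n) (Fin n) F) *ᵥ u = μ⁻¹ • u := by
  have hf := isUnitaryForm hF (n := n)
  have L := Unit.linLeft hf
  obtain ⟨x, hx, -, hwx⟩ := h.symm.exists_dual hF ⊥ bot_le hw (by simpa using hw0) 1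
  have hux : u ∉ F ∙ x := fun hc => by
    obtain ⟨r, hr⟩ := Submodule.mem_span_singleton.1 hc
    rw [← hr, Unit.smul_right hf, hwx, mul_one] at hwu
    exact hu0 (by rw [← hr, (map_eq_zero _).1 hwu, zero_smul])
  obtain ⟨y, hy, hyx, huy⟩ := h.exists_dual hF (F ∙ x) ((Submodule.span_singleton_le_iff_mem _ _).2 hx) hu hux 1
  replace hyx : ⟪y, x⟫ = 0 := hyx x (Submodule.mem_span_singleton_self x)
  have hyu : ⟪y, u⟫ = 1 := by rw [hf.herm, huy, map_one]
  have hxw : ⟪x, w⟫ = 1 := by rw [hf.herm, hwx, map_one]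
  have huw : ⟪u, w⟫ = 0 := by rw [hf.herm, hwu, map_zero]
  have hxy : ⟪x, y⟫ = 0 := by rw [hf.herm, hyx, map_zero]
  obtain ⟨g₁, hd₁, hi₁, g₁w, g₁x, fix₁⟩ :=
    Unit4.exists_hyp_torus hf (h.singW w hw w hw) (h.singU x hx x hx) hwx hμ
  obtain ⟨g₂, hd₂, hi₂, g₂u, g₂y, fix₂⟩ :=
    Unit4.exists_hyp_torus hf (h.singU u hu u hu) (h.singW y hy y hy) huy (inv_ne_zero hμ)
  have hgI : g₁ * g₂ ∈ suGL n F q := by
    refine ⟨mem_GU.2 fun a b => by rw [mul_mulVec, mul_mulVec, hi₁, hi₂], mem_specialLinear.2 ?_⟩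
    have := (map_ne_zero (frobEquiv hF)).2 hμ
    rw [Units.val_mul, Matrix.det_mul, hd₁, hd₂, map_inv₀]
    field_simp
  have gw : ((g₁ * g₂ : GL (Fin n) F) : Matrix (Fin n) (Fin n) F) *ᵥ w = μ • w := by
    rw [mul_mulVec, fix₂ w hwu (h.singW w hw y hy), g₁w]
  have gu : ((g₁ * g₂ : GL (Fin n) F) : Matrix (Fin n) (Fin n) F) *ᵥ u = μ⁻¹ • u := by
    rw [mul_mulVec, g₂u, Matrix.mulVec_smul, fix₁ u huw (h.singU u hu x hx)]
  refine ⟨g₁ * g₂, ⟨hT _ hgI ?_ ?_, hgI⟩, gw, gu⟩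
  · intro v hv
    obtain ⟨r, hr⟩ : ∃ r, r = v + (-⟪v, x⟫) • w + (-⟪v, u⟫) • y := ⟨_, rfl⟩
    have hrW : r ∈ W := hr ▸ W.add_mem (W.add_mem hv (W.smul_mem _ hw)) (W.smul_mem _ hy)
    have e : v = r + ⟪v, x⟫ • w + ⟪v, u⟫ • y := by rw [hr]; module
    have hrx : ⟪r, x⟫ = 0 := by
      rw [hr, hf.add_left, hf.add_left, hf.smul_left, hf.smul_left, hwx, hyx]; ring
    have hru : ⟪r, u⟫ = 0 := by
      rw [hr, hf.add_left, hf.add_left, hf.smul_left, hf.smul_left, hwu, hyu]; ring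
    rw [e, Matrix.mulVec_add, Matrix.mulVec_add, Matrix.mulVec_smul, Matrix.mulVec_smul, gw, mul_mulVec g₁ g₂ r,
      fix₂ r hru (h.singW r hrW y hy), fix₁ r (h.singW r hrW w hw) hrx, mul_mulVec g₁ g₂ y, g₂y,
      Matrix.mulVec_smul, fix₁ y (h.singW y hy w hw) hyx]
    exact W.add_mem (W.add_mem hrW (W.smul_mem _ (W.smul_mem _ hw))) (W.smul_mem _ (W.smul_mem _ hy))
  · intro v hv
    obtain ⟨r, hr⟩ : ∃ r, r = v + (-⟪v, y⟫) • u + (-⟪v, w⟫) • x := ⟨_, rfl⟩
    have hrU : r ∈ U := hr ▸ U.add_mem (U.add_mem hv (U.smul_mem _ hu)) (U.smul_mem _ hx)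
    have e : v = r + ⟪v, y⟫ • u + ⟪v, w⟫ • x := by rw [hr]; module
    have hry : ⟪r, y⟫ = 0 := by
      rw [hr, hf.add_left, hf.add_left, hf.smul_left, hf.smul_left, huy, hxy]; ring
    have hrw : ⟪r, w⟫ = 0 := by
      rw [hr, hf.add_left, hf.add_left, hf.smul_left, hf.smul_left, huw, hxw]; ring
    rw [e, Matrix.mulVec_add, Matrix.mulVec_add, Matrix.mulVec_smul, Matrix.mulVec_smul, gu, mul_mulVec g₁ g₂ r,
      fix₂ r (h.singU r hrU u hu) hry, fix₁ r hrw (h.singU r hrU x hx), mul_mulVec g₁ g₂ x,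
      fix₂ x (h.singU x hx u hu) hxy, g₁x]
    exact U.add_mem (U.add_mem hrU (U.smul_mem _ (U.smul_mem _ hu))) (U.smul_mem _ (U.smul_mem _ hx))

/-- A diagonal family on a connecting line gives a full centre. -/
lemma full_of_diag (hq : 4 ≤ q) {w u : Fin n → F} (hw : w ∈ W) (hu : u ∈ U) (hw0 : w ≠ 0) (hu0 : u ≠ 0)
    (hwu : ⟪w, u⟫ = 0) {e : F}
    (hfam : ∀ c : F, c + c ^ q = 0 → ∃ k : F, ∃ K ∈ M, ∀ y, (K : Matrix (Fin n) (Fin n) F) *ᵥ y =
      y + (c * ⟪y, w⟫ + k * ⟪y, u⟫) • w + (e * c * ⟪y, u⟫ - k ^ q * ⟪y, w⟫) • u) : Full q M w := by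
  have hf := isUnitaryForm hF (n := n)
  have huw : ⟪u, w⟫ = 0 := by rw [hf.herm, hwu, map_zero]
  have hww := h.singW w hw w hw
  have huu := h.singU u hu u hu
  classical
  obtain ⟨μ, hμ⟩ := exists_fixed_norm hF (B := ({0, 1, -1} : Finset F)) (Finset.card_le_three.trans_lt (by omega))
  simp only [Finset.mem_insert, Finset.mem_singleton, not_or] at hμ
  have hμ0 : μ ≠ 0 := fun e => hμ.1 (by rw [e, zero_mul])
  obtain ⟨ρ, hρ⟩ : ∃ ρ, ρ = μ * μ ^ q := ⟨_, rfl⟩
  have hρq : ρ ^ q = ρ := by rw [hρ, norm_fixed hF]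
  rw [← hρ] at hμ
  have hρ2 : ρ * ρ - 1 ≠ 0 := fun e' => by
    rcases mul_self_eq_one_iff.1 (sub_eq_zero.1 e') with e' | e'
    · exact hμ.2.1 e'
    · exact hμ.2.2 e'
  refine ⟨hww, fun k hk => ?_⟩
  obtain ⟨c, hc⟩ : ∃ c, c = k * ρ / (ρ * ρ - 1) := ⟨_, rfl⟩
  have hscale : ∀ {c : F}, c + c ^ q = 0 → ∀ s : F, s ^ q = s → s * c + (s * c) ^ q = 0 := fun hc s hs => by
    rw [mul_pow, hs]; linear_combination s * hc
  have hcs : c + c ^ q = 0 := by
    rw [hc, show k * ρ / (ρ * ρ - 1) = ρ / (ρ * ρ - 1) * k by ring]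
    refine hscale hk _ ?_
    rw [← frobEquiv_apply hF, map_div₀, map_sub, map_mul, map_one, frobEquiv_apply, hρq]
  have hinv : (-ρ⁻¹) ^ q = -ρ⁻¹ := by rw [← frobEquiv_apply hF, map_neg, map_inv₀, frobEquiv_apply, hρq]
  obtain ⟨k1, K1, hK1, h1⟩ := hfam c hcs
  obtain ⟨k2, K2, hK2, h2⟩ := hfam _ (hscale hcs _ hinv)
  obtain ⟨T, hTM, hTw, hTu⟩ := exists_torus hF h hT hw hu hw0 hu0 hwu hμ0
  have hμq : μ ^ q ≠ 0 := pow_ne_zero _ hμ0
  obtain ⟨P, hP, hPe⟩ : ∃ P ∈ M, ∀ y, (P : Matrix (Fin n) (Fin n) F) *ᵥ y =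
      y + (ρ * c * ⟪y, w⟫ + k1 * (μ / μ ^ q) * ⟪y, u⟫) • w +
        (ρ⁻¹ * (e * c) * ⟪y, u⟫ - k1 ^ q * (μ ^ q / μ) * ⟪y, w⟫) • u := by
    refine ⟨T * K1 * T⁻¹, M.mul_mem (M.mul_mem hTM.1 hK1) (M.inv_mem hTM.1), fun y => ?_⟩
    obtain ⟨y', rfl⟩ : ∃ y', y = (T : Matrix (Fin n) (Fin n) F) *ᵥ y' := ⟨_, (mulVec_inv_mulVec T y).symm⟩
    have e1 := herm_mulVec hTM.2 y' w
    have e2 := herm_mulVec hTM.2 y' u
    rw [hTw, Unit.smul_right hf, frobEquiv_apply] at e1
    rw [hTu, Unit.smul_right hf, frobEquiv_apply, inv_pow] at e2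
    rw [mul_mulVec, mul_mulVec, inv_mulVec_mulVec, h1 y', ← e1, ← e2]
    simp only [Matrix.mulVec_add, Matrix.mulVec_smul, hTw, hTu, hρ]
    match_scalars <;> field_simp
  obtain ⟨R, hR, hRr⟩ := exists_root2 hF (a := (-(k1 * (μ / μ ^ q) + k2)) • w) (b := u)
    (by rw [hf.smul_left, Unit.smul_right hf, hww, mul_zero, mul_zero]) huu (by rw [hf.smul_left, hwu, mul_zero])
  have hRM := hX _ (W.smul_mem _ hw) u hu (by rw [hf.smul_left, hwu, mul_zero]) R hRr
  refine ⟨uax_dot_self hww k, ?_⟩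
  suffices tvec w (uax q w k) (uax_dot_self hww k) = P * K2 * R by
    rw [this]; exact M.mul_mem (M.mul_mem hP hK2) hRM
  refine gl_ext_mulVec fun y => ?_
  rw [utv_mulVec hF hww, mul_mulVec, mul_mulVec, hRr y, h2, hPe]
  simp only [sub_eq_add_neg, ← neg_smul, hf.add_left, hf.smul_left, Unit.smul_right hf, map_neg, map_add, map_mul,
    map_div₀, frobEquiv_apply, CfsgLib.Forms.pow_q_q hF, hww, huu, hwu, huw, mul_zero, add_zero]
  have hρ0 : ρ ≠ 0 := hμ.1
  have hck : c * ρ - c * ρ⁻¹ = k := by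
    rw [hc]
    field_simp
    rw [mul_div_assoc, div_self (by rwa [sq]), mul_one]
  match_scalars <;> first | ring1 | linear_combination (-⟪y, w⟫) * hck | linear_combination ⟪y, w⟫ * hck

omit hX hT in
lemma mem_half {x : Fin n → F} (hx : x ∈ U) {w1 w2 : Fin n → F} (hw1 : w1 ∈ W) (hw2 : w2 ∈ W)
    (hdim : Module.finrank F W ≤ 2) (hind : w2 ∉ F ∙ w1) (hw10 : w1 ≠ 0)
    (h1 : ⟪w1, x⟫ = 0) (h2 : ⟪w2, x⟫ = 0) : x = 0 := by
  have hf := isUnitaryForm hF (n := n)
  have hle : (F ∙ w1) ⊔ (F ∙ w2) ≤ W :=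
    sup_le ((Submodule.span_singleton_le_iff_mem _ _).2 hw1) ((Submodule.span_singleton_le_iff_mem _ _).2 hw2)
  have hlt : F ∙ w1 < (F ∙ w1) ⊔ (F ∙ w2) := lt_of_le_of_ne le_sup_left fun e => hind (e.symm ▸
    Submodule.mem_sup_right (Submodule.mem_span_singleton_self w2))
  have := Submodule.finrank_lt_finrank_of_lt hlt
  rw [finrank_span_singleton hw10] at this
  have he := Submodule.eq_of_le_of_finrank_le hle (by omega)
  by_contra hx0
  obtain ⟨p, hp, -, hxp⟩ := h.exists_dual hF ⊥ bot_le hx (by simpa using hx0) 1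
  rw [← he] at hp
  obtain ⟨y1, hy1, y2, hy2, rfl⟩ := Submodule.mem_sup.1 hp
  obtain ⟨s, rfl⟩ := Submodule.mem_span_singleton.1 hy1
  obtain ⟨t, rfl⟩ := Submodule.mem_span_singleton.1 hy2
  rw [Unit.add_right hf, Unit.smul_right hf, Unit.smul_right hf, hf.herm x w1, hf.herm x w2, h1, h2, map_zero,
    mul_zero, mul_zero, add_zero] at hxp
  exact zero_ne_one hxp

/-- A connecting line through a mixed centre gives a pure full centre. -/
lemma full_of_mixed (hq : 4 ≤ q) {w u : Fin n → F} (hw : w ∈ W) (hu : u ∈ U) (hw0 : w ≠ 0) (hu0 : u ≠ 0)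
    (hwu : ⟪w, u⟫ = 0) (hz : Full q M (w + u)) : Full q M w := by
  have hf := isUnitaryForm hF (n := n)
  refine full_of_diag hF h hX hT hq hw hu hw0 hu0 hwu (e := 1) fun c hc => ?_
  obtain ⟨hd, hm⟩ := hz.2 c hc
  refine ⟨c, _, hm, fun y => ?_⟩
  rw [utv_mulVec hF hz.1, Unit.add_right hf, show c ^ q = -c by linear_combination hc]
  module

/-- A root family on a connecting line in another basis gives a pure full centre. -/
lemma full_of_connector (hq : 4 ≤ q) {w u : Fin n → F} (hw : w ∈ W) (hu : u ∈ U) (hw0 : w ≠ 0) (hu0 : u ≠ 0)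
    (hwu : ⟪w, u⟫ = 0) {α β : F} (hα : α ≠ 0) (hfam : Fam q M (w + u) (α • w + β • u)) : Full q M w := by
  have hf := isUnitaryForm hF (n := n)
  have hαq : α ^ q ≠ 0 := pow_ne_zero _ hα
  obtain ⟨t, ht⟩ := Unit.exists_trace_one hf.ne_refl hf.involutive
  refine full_of_diag hF h hX hT hq hw hu hw0 hu0 hwu (e := t * (β ^ q / α ^ q) + t ^ q * (β / α)) fun c hc => ?_
  obtain ⟨l, hl⟩ : ∃ l, l = c * t / α ^ q := ⟨_, rfl⟩
  have hcs : c ^ q = -c := by linear_combination hc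
  rw [frobEquiv_apply] at ht
  have hlq : l ^ q = -c * t ^ q / α := by
    rw [hl, div_pow, mul_pow, hcs, CfsgLib.Forms.pow_q_q hF]
  obtain ⟨R, hR, hRe⟩ := hfam l
  refine ⟨l * β ^ q - l ^ q * α, R, hR, fun y => ?_⟩
  have e2 : (l * β ^ q - l ^ q * α) ^ q = l ^ q * β - l * α ^ q := by
    rw [← frobEquiv_apply hF, map_sub, map_mul, map_mul]
    simp only [frobEquiv_apply, CfsgLib.Forms.pow_q_q hF]
  rw [hRe y, e2]
  simp only [Unit.add_right hf, Unit.smul_right hf, frobEquiv_apply]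
  rw [hlq, hl]
  match_scalars <;> field_simp <;>
    first | ring1 | linear_combination (c * α ^ q * ⟪y, w⟫) * ht | linear_combination (-(c * α ^ q * ⟪y, w⟫)) * ht

/-- A mixed root family gives a pure full centre. -/
lemma exists_full (hq : 4 ≤ q) (hdW : Module.finrank F W ≤ 2) (hdU : Module.finrank F U ≤ 2) {a b : Fin n → F}
    {wa ua wb ub : Fin n → F} (hwa : wa ∈ W) (hua : ua ∈ U) (hwb : wb ∈ W) (hub : ub ∈ U) (ea : a = wa + ua)
    (eb : b = wb + ub) (hwa0 : wa ≠ 0) (hua0 : ua ≠ 0) (hind : b ∉ F ∙ a) (ha : ⟪a, a⟫ = 0) (hb : ⟪b, b⟫ = 0)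
    (hab : ⟪a, b⟫ = 0) (hfam : Fam q M a b) :
    (∃ w ∈ W, w ≠ 0 ∧ Full q M w) ∨ ∃ u ∈ U, u ≠ 0 ∧ Full q M u := by
  have hf := isUnitaryForm hF (n := n)
  -- root elements as pencils
  have hpen : ∀ {wz uz : Fin n → F}, wz ∈ W → uz ∈ U → ⟪wz, uz⟫ = 0 → ∀ c : F, c ^ q = c →
      ∃ A ∈ M ⊓ suGL n F q, ∀ v, (A : Matrix (Fin n) (Fin n) F) *ᵥ v =
        v + (c * ⟪v, uz⟫) • wz - (c * ⟪v, wz⟫) • uz := fun {wz uz} hwz huz hzu c hc => by
    obtain ⟨A, hAI, hA⟩ := exists_root2 hF (a := c • wz) (b := uz)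
      (by rw [hf.smul_left, Unit.smul_right hf, h.singW wz hwz wz hwz, mul_zero, mul_zero]) (h.singU uz huz uz huz)
      (by rw [hf.smul_left, hzu, mul_zero])
    refine ⟨A, ⟨hX _ (W.smul_mem _ hwz) uz huz (by rw [hf.smul_left, hzu, mul_zero]) A hA, hAI⟩, fun v => ?_⟩
    rw [hA v, Unit.smul_right hf, frobEquiv_apply, hc]
    module
  by_cases hW1 : wb ∈ F ∙ wa
  · -- the line meets `U`
    obtain ⟨s, hs⟩ := Submodule.mem_span_singleton.1 hW1
    obtain ⟨u0, hu0d⟩ : ∃ u0, u0 = ub - s • ua := ⟨_, rfl⟩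
    have hu0U : u0 ∈ U := hu0d ▸ U.sub_mem hub (U.smul_mem _ hua)
    have hb' : b = s • a + u0 := by rw [eb, ea, hu0d, ← hs]; module
    have hu00 : u0 ≠ 0 := fun e => hind (Submodule.mem_span_singleton.2 ⟨s, by rw [hb', e, add_zero]⟩)
    have hau0 : ⟪a, u0⟫ = 0 := by
      rw [hb', Unit.add_right hf, Unit.smul_right hf, ha, mul_zero, zero_add] at hab; exact hab
    have hwau0 : ⟪wa, u0⟫ = 0 := by
      rwa [ea, hf.add_left, h.singU ua hua u0 hu0U, add_zero] at hau0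
    by_cases hκ : ⟪wa, ua⟫ = 0
    · have hmem : ua ∈ F ∙ u0 := by
        by_contra hout
        obtain ⟨p, hp, hpS, hup⟩ := h.exists_dual hF (F ∙ u0) ((Submodule.span_singleton_le_iff_mem _ _).2 hu0U)
          hua hout 1
        have hpwa : p ∈ F ∙ wa := by
          by_contra hp'
          exact hu00 (mem_half hF h hu0U hwa hp hdW hp' hwa0 hwau0 (hpS u0 (Submodule.mem_span_singleton_self u0)))
        obtain ⟨r, rfl⟩ := Submodule.mem_span_singleton.1 hpwa
        rw [Unit.smul_right hf, hf.herm ua wa, hκ, map_zero, mul_zero] at hup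
        exact zero_ne_one hup
      obtain ⟨t, ht⟩ := Submodule.mem_span_singleton.1 hmem
      have ht0 : t ≠ 0 := fun e => hua0 (by rw [← ht, e, zero_smul])
      have hb2 : b = s • wa + (s + t⁻¹) • ua := by
        rw [hb', ea, add_smul, smul_add, ← ht, smul_smul t⁻¹ t, inv_mul_cancel₀ ht0]; module
      by_cases hs0 : s = 0
      · refine Or.inr ⟨ua, hua, hua0, ?_⟩
        have hfam' : Fam q M (ua + wa) (t⁻¹ • ua + (0 : F) • wa) := by
          intro l
          obtain ⟨R, hR, hRe⟩ := hfam l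
          refine ⟨R, hR, ?_⟩
          rw [ea, hb2, hs0] at hRe
          simpa [add_comm ua wa] using hRe
        refine full_of_connector hF h.symm ?_ (fun g hg h1 h2 => hT g hg h2 h1) hq hua hwa hua0 hwa0
          (by rw [hf.herm, hκ, map_zero]) (inv_ne_zero ht0) hfam'
        intro x hx y hy hxy R hR
        obtain ⟨R', hR'I, hR'⟩ := exists_root2 hF (h.singW y hy y hy) (h.singU x hx x hx)
          (by rw [hf.herm, hxy, map_zero])
        have hinv : R = R'⁻¹ := eq_inv_of_mul_eq_one_left (gl_ext_mulVec fun z => by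
          rw [mul_mulVec, hR, hR']
          simp only [sub_eq_add_neg, ← neg_smul, hf.add_left, hf.smul_left, h.singU x hx x hx, h.singW y hy y hy,
            hxy, show ⟪y, x⟫ = 0 by rw [hf.herm, hxy, map_zero], mul_zero, add_zero,
            Units.val_one, Matrix.one_mulVec]
          module)
        rw [hinv]
        exact M.inv_mem (hX y hy x hx (by rw [hf.herm, hxy, map_zero]) R' hR')
      · exact Or.inl ⟨wa, hwa, hwa0, full_of_connector hF h hX hT hq hwa hua hwa0 hua0 hκ hs0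
          (by rw [← ea, ← hb2]; exact hfam)⟩
    · refine Or.inr ⟨u0, hu0U, hu00, ?_⟩
      have hzb : ⟪b, u0⟫ = 0 := by
        rw [hb', hf.add_left, hf.smul_left, hau0, h.singU u0 hu0U u0 hu0U]; ring
      refine full_of_pencil hF (by omega) ha hb hab (h.singU u0 hu0U u0 hu0U) hau0 hzb hfam
        (α := -⟪ua, wa⟫) (β := -(s * ⟪ua, wa⟫)) (fun c hc => ?_) ?_
      · obtain ⟨A, hA, hAe⟩ := hpen hwa hu0U hwau0 c hc
        refine ⟨A, hA, ?_, ?_⟩
        · rw [hAe a, hau0, ea, hf.add_left, h.singW wa hwa wa hwa]; module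
        · rw [hAe b, hzb, hb', hf.add_left, hf.smul_left, ea, hf.add_left, h.singW wa hwa wa hwa,
            show ⟪u0, wa⟫ = 0 by rw [hf.herm, hwau0, map_zero]]
          module
      · have hκ' : -⟪ua, wa⟫ ≠ 0 := neg_ne_zero.2 (by rw [hf.herm]; exact (map_ne_zero _).2 hκ)
        rcases eq_or_ne s 0 with rfl | hs0
        · exact Or.inr ⟨hκ', by rw [zero_mul, neg_zero], 1, one_ne_zero, by
            rw [hb', zero_smul, zero_add, one_smul]⟩
        · exact Or.inl ⟨hκ', neg_ne_zero.2 (mul_ne_zero hs0 (neg_ne_zero.1 hκ'))⟩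
  by_cases hU1 : ub ∈ F ∙ ua
  · -- the line meets `W`
    obtain ⟨s, hs⟩ := Submodule.mem_span_singleton.1 hU1
    obtain ⟨w0, hw0d⟩ : ∃ w0, w0 = wb - s • wa := ⟨_, rfl⟩
    have hw0W : w0 ∈ W := hw0d ▸ W.sub_mem hwb (W.smul_mem _ hwa)
    have hb' : b = s • a + w0 := by rw [eb, ea, hw0d, ← hs]; module
    have hw00 : w0 ≠ 0 := fun e => hind (Submodule.mem_span_singleton.2 ⟨s, by rw [hb', e, add_zero]⟩)
    have haw0 : ⟪a, w0⟫ = 0 := by
      rw [hb', Unit.add_right hf, Unit.smul_right hf, ha, mul_zero, zero_add] at hab; exact hab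
    have huaw0 : ⟪ua, w0⟫ = 0 := by
      rwa [ea, hf.add_left, h.singW wa hwa w0 hw0W, zero_add] at haw0
    have hw0ua : ⟪w0, ua⟫ = 0 := by rw [hf.herm, huaw0, map_zero]
    have hκ : ⟪wa, ua⟫ ≠ 0 := fun hκ => by
      refine hua0 (mem_half hF h hua hwa hw0W hdW (fun hm => hW1 ?_) hwa0 hκ hw0ua)
      obtain ⟨r, hr⟩ := Submodule.mem_span_singleton.1 hm
      exact Submodule.mem_span_singleton.2 ⟨r + s, by rw [add_smul, hr, hw0d]; module⟩
    refine Or.inl ⟨w0, hw0W, hw00, ?_⟩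
    have hzb : ⟪b, w0⟫ = 0 := by
      rw [hb', hf.add_left, hf.smul_left, haw0, h.singW w0 hw0W w0 hw0W]; ring
    refine full_of_pencil hF (by omega) ha hb hab (h.singW w0 hw0W w0 hw0W) haw0 hzb hfam
      (α := ⟪wa, ua⟫) (β := s * ⟪wa, ua⟫) (fun c hc => ?_) ?_
    · obtain ⟨A, hA, hAe⟩ := hpen hw0W hua hw0ua c hc
      refine ⟨A, hA, ?_, ?_⟩
      · rw [hAe a, haw0, ea, hf.add_left, h.singU ua hua ua hua]; module
      · rw [hAe b, hzb, hb', hf.add_left, hf.smul_left, ea, hf.add_left, h.singU ua hua ua hua, hw0ua]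
        module
    · rcases eq_or_ne s 0 with rfl | hs0
      · exact Or.inr ⟨hκ, by rw [zero_mul], 1, one_ne_zero, by rw [hb', zero_smul, zero_add, one_smul]⟩
      · exact Or.inl ⟨hκ, mul_ne_zero hs0 hκ⟩
  -- the line is disjoint from both halves
  obtain ⟨x, y, hne, hiso⟩ : ∃ x y : F, (x ≠ 0 ∨ y ≠ 0) ∧ ⟪x • wa + y • wb, x • ua + y • ub⟫ = 0 := by
    by_cases h0 : ⟪wa, ua⟫ = 0
    · exact ⟨1, 0, Or.inl one_ne_zero, by simpa using h0⟩
    have k0 : ⟪wa, ua⟫ ^ q = -⟪wa, ua⟫ := by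
      simp only [ea, hf.add_left, Unit.add_right hf, h.singW wa hwa wa hwa, h.singU ua hua ua hua, zero_add,
        add_zero, hf.herm ua wa, frobEquiv_apply] at ha
      linear_combination ha
    have k1 : ⟪wb, ub⟫ ^ q = -⟪wb, ub⟫ := by
      simp only [eb, hf.add_left, Unit.add_right hf, h.singW wb hwb wb hwb, h.singU ub hub ub hub, zero_add,
        add_zero, hf.herm ub wb, frobEquiv_apply] at hb
      linear_combination hb
    have k2 : ⟪wa, ub⟫ = -⟪wb, ua⟫ ^ q := by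
      simp only [ea, eb, hf.add_left, Unit.add_right hf, h.singW wa hwa wb hwb, h.singU ua hua ub hub, zero_add,
        add_zero, hf.herm ua wb, frobEquiv_apply] at hab
      linear_combination hab
    obtain ⟨A, hA⟩ : ∃ A, A = ⟪wa, ua⟫ := ⟨_, rfl⟩
    obtain ⟨B, hB⟩ : ∃ B, B = ⟪wb, ua⟫ := ⟨_, rfl⟩
    obtain ⟨C, hC⟩ : ∃ C, C = ⟪wb, ub⟫ := ⟨_, rfl⟩
    rw [← hA] at k0 h0
    rw [← hC] at k1
    rw [← hB] at k2
    obtain ⟨d, hd⟩ := Unit.exists_norm_eq hf.ne_refl hf.involutive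
      (t := (-(B * B ^ q) / A - C) / A) (by
        rw [map_div₀, map_sub, map_div₀, map_neg, map_mul]
        simp only [frobEquiv_apply, CfsgLib.Forms.pow_q_q hF, k0, k1]
        field_simp
        ring)
    rw [frobEquiv_apply] at hd
    refine ⟨d - B / A, 1, Or.inr one_ne_zero, ?_⟩
    have hdq : (d - B / A) ^ q = d ^ q + B ^ q / A := by
      rw [← frobEquiv_apply hF, map_sub, map_div₀]
      simp only [frobEquiv_apply, k0]
      ring
    simp only [hf.add_left, hf.smul_left, Unit.add_right hf, Unit.smul_right hf, frobEquiv_apply, one_pow, hdq,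
      k2, ← hA, ← hB, ← hC]
    field_simp
    field_simp at hd
    linear_combination hd
  obtain ⟨wz, hwz⟩ : ∃ wz, wz = x • wa + y • wb := ⟨_, rfl⟩
  obtain ⟨uz, huz⟩ : ∃ uz, uz = x • ua + y • ub := ⟨_, rfl⟩
  rw [← hwz, ← huz] at hiso
  have hwzW : wz ∈ W := hwz ▸ W.add_mem (W.smul_mem _ hwa) (W.smul_mem _ hwb)
  have huzU : uz ∈ U := huz ▸ U.add_mem (U.smul_mem _ hua) (U.smul_mem _ hub)
  have hwz0 : wz ≠ 0 := fun e => by
    rcases eq_or_ne y 0 with rfl | hy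
    · rw [hwz, zero_smul, add_zero, smul_eq_zero] at e
      exact hne.elim (fun hx => hx (e.resolve_right hwa0)) (fun h' => h' rfl)
    · exact hW1 (Submodule.mem_span_singleton.2 ⟨-(x / y), smul_right_injective _ hy (by
        show y • (-(x / y)) • wa = y • wb
        rw [smul_smul, show y * -(x / y) = -x by field_simp]
        linear_combination (norm := module) hwz - e)⟩)
  have huz0 : uz ≠ 0 := fun e => by
    rcases eq_or_ne y 0 with rfl | hy
    · rw [huz, zero_smul, add_zero, smul_eq_zero] at e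
      exact hne.elim (fun hx => hx (e.resolve_right hua0)) (fun h' => h' rfl)
    · exact hU1 (Submodule.mem_span_singleton.2 ⟨-(x / y), smul_right_injective _ hy (by
        show y • (-(x / y)) • ua = y • ub
        rw [smul_smul, show y * -(x / y) = -x by field_simp]
        linear_combination (norm := module) huz - e)⟩)
  have hzab : wz + uz = x • a + y • b := by rw [hwz, huz, ea, eb]; module
  have haz : ⟪a, wz + uz⟫ = 0 := by
    rw [hzab, Unit.add_right hf, Unit.smul_right hf, Unit.smul_right hf, ha, hab]; ring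
  have hbz : ⟪b, wz + uz⟫ = 0 := by
    rw [hzab, Unit.add_right hf, Unit.smul_right hf, Unit.smul_right hf, hf.herm b a, hab, hb, map_zero]; ring
  have hzz : ⟪wz + uz, wz + uz⟫ = 0 := by
    rw [hzab, hf.add_left, hf.smul_left, hf.smul_left, ← hzab, haz, hbz]; ring
  refine Or.inl ⟨wz, hwzW, hwz0, full_of_mixed hF h hX hT hq hwzW huzU hwz0 huz0 hiso ?_⟩
  have e1 : ⟪a, wz⟫ = -⟪a, uz⟫ := by rw [Unit.add_right hf] at haz; linear_combination haz
  have e2 : ⟪b, wz⟫ = -⟪b, uz⟫ := by rw [Unit.add_right hf] at hbz; linear_combination hbz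
  have hA : ∀ c : F, c ^ q = c → ∃ A ∈ M ⊓ suGL n F q,
      (A : Matrix (Fin n) (Fin n) F) *ᵥ a = a + (c * ⟪a, uz⟫) • (wz + uz) ∧
      (A : Matrix (Fin n) (Fin n) F) *ᵥ b = b + (c * ⟪b, uz⟫) • (wz + uz) := fun c hc => by
    obtain ⟨A, hA, hAe⟩ := hpen hwzW huzU hiso c hc
    exact ⟨A, hA, by rw [hAe a, e1]; module, by rw [hAe b, e2]; module⟩
  have hau : ⟪a, uz⟫ = ⟪wa, uz⟫ := by rw [ea, hf.add_left, h.singU ua hua uz huzU, add_zero]
  have hbu : ⟪b, uz⟫ = ⟪wb, uz⟫ := by rw [eb, hf.add_left, h.singU ub hub uz huzU, add_zero]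
  by_cases hα : ⟪a, uz⟫ = 0
  · have hβ : ⟪b, uz⟫ ≠ 0 := fun hβ => huz0 (mem_half hF h huzU hwa hwb hdW hW1 hwa0 (hau ▸ hα) (hbu ▸ hβ))
    have hy : y = 0 := by
      have := hiso
      rw [hwz, hf.add_left, hf.smul_left, hf.smul_left, ← hau, hα, ← hbu, mul_zero, zero_add] at this
      exact (mul_eq_zero.1 this).resolve_right hβ
    have hx : x ≠ 0 := hne.resolve_right (fun h' => h' hy)
    refine full_of_pencil hF (by omega) hb ha (by rw [hf.herm, hab, map_zero]) hzz hbz haz (fam_swap hF hfam)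
      (α := ⟪b, uz⟫) (β := ⟪a, uz⟫) (fun c hc => ?_) (Or.inr ⟨hβ, hα, x⁻¹, inv_ne_zero hx, by
        rw [hzab, hy, zero_smul, add_zero, smul_smul, inv_mul_cancel₀ hx, one_smul]⟩)
    obtain ⟨A, hA', k1, k2⟩ := hA c hc
    exact ⟨A, hA', k2, k1⟩
  by_cases hβ : ⟪b, uz⟫ = 0
  · have hx : x = 0 := by
      have := hiso
      rw [hwz, hf.add_left, hf.smul_left, hf.smul_left, ← hau, ← hbu, hβ, mul_zero, add_zero] at this
      exact (mul_eq_zero.1 this).resolve_right hα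
    have hy : y ≠ 0 := hne.resolve_left (fun h' => h' hx)
    exact full_of_pencil hF (by omega) ha hb hab hzz haz hbz hfam hA (Or.inr ⟨hα, hβ, y⁻¹, inv_ne_zero hy, by
      rw [hzab, hx, zero_smul, zero_add, smul_smul, inv_mul_cancel₀ hy, one_smul]⟩)
  · exact full_of_pencil hF (by omega) ha hb hab hzz haz hbz hfam hA (Or.inl ⟨hα, hβ⟩)

omit h hX hT in
/-- The stabiliser of two totally singular planes is maximal. -/
theorem lag_pair_maximal (hn : n = 4) (hq : 4 ≤ q) (D : Fin 2 → Submodule F (Fin n → F)) (hD : IsMDecomposition 2 D)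
    (hts : ∀ i, IsTotallySingularFor (Cfsg.hermForm n F q) (D i)) :
    IsMaximalIn (suGL n F q) (decompositionStabilizer D ⊓ suGL n F q) := by
  have hf := isUnitaryForm hF (n := n)
  have h : UPair q (D 0) (D 1) :=
    { singW := hts 0
      singU := hts 1
      split := fun x => by
        have e : iSup D ≤ D 0 ⊔ D 1 := iSup_le fun i => by
          fin_cases i
          · exact le_sup_left
          · exact le_sup_right
        obtain ⟨w, hw, u, hu, e⟩ := Submodule.mem_sup.1 (e (hD.iSup_eq_top ▸ Submodule.mem_top) : x ∈ D 0 ⊔ D 1)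
        exact ⟨w, hw, u, hu, e.symm⟩
      disj := fun x hx hx' =>
        Submodule.disjoint_def.1 (hD.indep.pairwiseDisjoint (by decide : (0 : Fin 2) ≠ 1)) x hx hx' }
  refine isMaximalIn_of_key (uPair_proper hF D hD h (by omega)) fun M hM hMI hMX => ?_
  obtain ⟨g, hgM, hgX⟩ := SetLike.not_le_iff_exists.1 hMX
  have hX : HasRoots q M (D 0) (D 1) := by
    intro x hx y hy hxy R hR
    obtain ⟨R', hR'I, hR'⟩ := exists_root2 hF (h.singW x hx x hx) (h.singU y hy y hy) hxy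
    rw [hR.eq hR']
    refine hM ⟨mem_decompositionStabilizer_of hD 1 fun i v hv => ?_, hR'I⟩
    rw [hR' v, Equiv.Perm.one_apply]
    match i with
    | 0 => rw [h.singW v hv x hx, zero_smul, sub_zero]; exact (D 0).add_mem hv ((D 0).smul_mem _ hx)
    | 1 => rw [h.singU v hv y hy, zero_smul, add_zero]; exact (D 1).sub_mem hv ((D 1).smul_mem _ hy)
  have hT : ∀ g ∈ suGL n F q, (∀ v ∈ D 0, (g : Matrix (Fin n) (Fin n) F) *ᵥ v ∈ D 0) →
      (∀ v ∈ D 1, (g : Matrix (Fin n) (Fin n) F) *ᵥ v ∈ D 1) → g ∈ M := fun g hg h0 h1 =>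
    hM ⟨mem_decompositionStabilizer_of hD 1 fun i v hv => by
      match i with
      | 0 => exact h0 v hv
      | 1 => exact h1 v hv, hg⟩
  have hdim : ∀ i, Module.finrank F (D i) = 2 := hD.finrank_eq
  obtain ⟨s, hs, hs0, hs1⟩ := h.exists_swap hF
  have hsM : s ∈ M := hM ⟨mem_decompositionStabilizer_of hD (Equiv.swap 0 1) fun i v hv => by
    match i with
    | 0 => rw [Equiv.swap_apply_left]; exact hs0 v hv
    | 1 => rw [Equiv.swap_apply_right]; exact hs1 v hv, hs⟩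
  have hsne : ∀ y : Fin n → F, y ≠ 0 → (s : Matrix (Fin n) (Fin n) F) *ᵥ y ≠ 0 := fun y hy e => hy (by
    rw [← inv_mulVec_mulVec s y, e, Matrix.mulVec_zero])
  -- a mixed root family
  obtain ⟨i, a, ha, hga0, hga1⟩ : ∃ i, ∃ a ∈ D i, (g : Matrix (Fin n) (Fin n) F) *ᵥ a ∉ D 0 ∧
      (g : Matrix (Fin n) (Fin n) F) *ᵥ a ∉ D 1 := by
    by_contra hcon
    push Not at hcon
    have himg : ∀ i, ∃ j, ∀ v ∈ D i, (g : Matrix (Fin n) (Fin n) F) *ᵥ v ∈ D j := by
      intro i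
      by_contra hc
      push Not at hc
      obtain ⟨a, ha, haW⟩ := hc 0
      obtain ⟨b, hb, hbU⟩ := hc 1
      have haU := hcon i a ha haW
      have hbW : (g : Matrix (Fin n) (Fin n) F) *ᵥ b ∈ D 0 := by
        by_contra h0; exact hbU (hcon i b hb h0)
      by_cases h0 : (g : Matrix (Fin n) (Fin n) F) *ᵥ (a + b) ∈ D 0
      · rw [Matrix.mulVec_add] at h0
        exact haW (by simpa using (D 0).sub_mem h0 hbW)
      · have h2 := hcon i _ ((D i).add_mem ha hb) h0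
        rw [Matrix.mulVec_add] at h2
        exact hbU (by simpa using (D 1).sub_mem h2 haU)
    choose σ hσ using himg
    have hinj : σ 0 ≠ σ 1 := by
      intro e
      have htop : D (σ 0) = ⊤ := Submodule.eq_top_iff'.2 fun x => by
        obtain ⟨w, hw, u, hu, hx⟩ := h.split (((g⁻¹ : GL (Fin n) F) : Matrix (Fin n) (Fin n) F) *ᵥ x)
        rw [← mulVec_inv_mulVec g x, hx, Matrix.mulVec_add]
        exact (D _).add_mem (hσ 0 w hw) (e ▸ hσ 1 u hu)
      have h2 := hdim (σ 0)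
      rw [htop, finrank_top, Module.finrank_fin_fun] at h2
      omega
    have hsurj : Function.Injective σ := by
      intro i j hij
      fin_cases i <;> fin_cases j <;> first | rfl | exact absurd hij hinj | exact absurd hij.symm hinj
    exact hgX (mem_decompositionStabilizer_of hD (Equiv.ofBijective σ (Finite.injective_iff_bijective.1 hsurj)) hσ)
  obtain ⟨wa, hwa, ua, hua, ea⟩ := h.split ((g : Matrix (Fin n) (Fin n) F) *ᵥ a)
  have hwa0 : wa ≠ 0 := fun e => hga1 (by rw [ea, e, zero_add]; exact hua)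
  have hua0 : ua ≠ 0 := fun e => hga0 (by rw [ea, e, add_zero]; exact hwa)
  have ha0 : a ≠ 0 := fun e => hga0 (by rw [e, Matrix.mulVec_zero]; exact Submodule.zero_mem _)
  -- the partner in the other half
  obtain ⟨b, hb0, hfam, hab, hbb, haa, hbout⟩ : ∃ b, b ≠ 0 ∧ Fam q M a b ∧ ⟪a, b⟫ = 0 ∧ ⟪b, b⟫ = 0 ∧
      ⟪a, a⟫ = 0 ∧ b ∉ F ∙ a := by
    have hker : ∀ j, ∃ b ∈ D j, b ≠ 0 ∧ ⟪b, a⟫ = 0 := fun j => by
      let L : D j →ₗ[F] F := ((Unit.linLeft hf).toLin a).comp (D j).subtype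
      have hne : LinearMap.ker L ≠ ⊥ := LinearMap.ker_ne_bot_of_finrank_lt (by rw [hdim, Module.finrank_self]; omega)
      obtain ⟨b, hb, hb0⟩ := Submodule.exists_mem_ne_zero_of_ne_bot hne
      exact ⟨b, b.2, fun e => hb0 (Subtype.ext e), LinearMap.mem_ker.1 hb⟩
    have hout : ∀ {b : Fin n → F} {j}, j ≠ i → b ∈ D j → b ≠ 0 → b ∉ F ∙ a := fun {b j} hji hb hb0 hc =>
      hb0 (Submodule.disjoint_def.1 (hD.indep.pairwiseDisjoint hji) b hb
        ((Submodule.span_singleton_le_iff_mem _ _).2 ha hc))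
    match i with
    | 0 =>
      obtain ⟨b, hb, hb0, hba⟩ := hker 1
      have hab : ⟪a, b⟫ = 0 := by rw [hf.herm, hba, map_zero]
      refine ⟨b, hb0, fun l => ?_, hab, h.singU b hb b hb, h.singW a ha a ha, hout (by decide) hb hb0⟩
      obtain ⟨R, -, hR⟩ := exists_root2 hF (a := l • a) (b := b)
        (by rw [hf.smul_left, Unit.smul_right hf, h.singW a ha a ha, mul_zero, mul_zero]) (h.singU b hb b hb)
        (by rw [hf.smul_left, hab, mul_zero])
      exact ⟨R, hX _ ((D 0).smul_mem _ ha) b hb (by rw [hf.smul_left, hab, mul_zero]) R hR, hR⟩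
    | 1 =>
      obtain ⟨b, hb, hb0, hba⟩ := hker 0
      refine ⟨b, hb0, fam_swap hF (fun l => ?_), by rw [hf.herm, hba, map_zero], h.singW b hb b hb,
        h.singU a ha a ha, hout (by decide) hb hb0⟩
      obtain ⟨R, -, hR⟩ := exists_root2 hF (a := l • b) (b := a)
        (by rw [hf.smul_left, Unit.smul_right hf, h.singW b hb b hb, mul_zero, mul_zero]) (h.singU a ha a ha)
        (by rw [hf.smul_left, hba, mul_zero])
      exact ⟨R, hX _ ((D 0).smul_mem _ hb) a ha (by rw [hf.smul_left, hba, mul_zero]) R hR, hR⟩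
  have hfam' : Fam q M ((g : Matrix (Fin n) (Fin n) F) *ᵥ a) ((g : Matrix (Fin n) (Fin n) F) *ᵥ b) := fun l => by
    obtain ⟨R, hR, hRe⟩ := hfam l
    have := IsRoot2.conj (g := g) (hMI hgM) hRe
    rw [Matrix.mulVec_smul] at this
    exact ⟨_, M.mul_mem (M.mul_mem hgM hR) (M.inv_mem hgM), this⟩
  obtain ⟨wb, hwb, ub, hub, eb⟩ := h.split ((g : Matrix (Fin n) (Fin n) F) *ᵥ b)
  have hind : (g : Matrix (Fin n) (Fin n) F) *ᵥ b ∉ F ∙ ((g : Matrix (Fin n) (Fin n) F) *ᵥ a) := fun hc => by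
    obtain ⟨r, hr⟩ := Submodule.mem_span_singleton.1 hc
    refine hbout (Submodule.mem_span_singleton.2 ⟨r, ?_⟩)
    rw [← Matrix.mulVec_smul] at hr
    simpa using congrArg (fun z => ((g⁻¹ : GL (Fin n) F) : Matrix (Fin n) (Fin n) F) *ᵥ z) hr
  have hiso : ∀ x y, ⟪(g : Matrix (Fin n) (Fin n) F) *ᵥ x, (g : Matrix (Fin n) (Fin n) F) *ᵥ y⟫ = ⟪x, y⟫ :=
    herm_mulVec (hMI hgM)
  have hfullU0 : ∃ u ∈ D 1, u ≠ 0 ∧ Full q M u := by
    rcases exists_full hF h hX hT hq (hdim 0).le (hdim 1).le hwa hua hwb hub ea eb hwa0 hua0 hind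
      (by rw [hiso, haa]) (by rw [hiso, hbb]) (by rw [hiso, hab]) hfam' with ⟨w, hw, hw0, hwf⟩ | hu
    · exact ⟨_, hs0 w hw, hsne w hw0, full_conj hF hMI hwf hsM⟩
    · exact hu
  obtain ⟨u0, hu0, hu00, hu0F⟩ := hfullU0
  have hX' : HasRoots q M (D 1) (D 0) := by
    intro x hx y hy hxy R hR
    obtain ⟨R', hR'I, hR'⟩ := exists_root2 hF (h.singW y hy y hy) (h.singU x hx x hx)
      (by rw [hf.herm, hxy, map_zero])
    have hinv : R = R'⁻¹ := eq_inv_of_mul_eq_one_left (gl_ext_mulVec fun z => by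
      rw [mul_mulVec, hR, hR']
      simp only [sub_eq_add_neg, ← neg_smul, hf.add_left, hf.smul_left, h.singU x hx x hx, h.singW y hy y hy,
        hxy, show ⟪y, x⟫ = 0 by rw [hf.herm, hxy, map_zero], mul_zero, add_zero,
        Units.val_one, Matrix.one_mulVec]
      module)
    rw [hinv]
    exact M.inv_mem (hX y hy x hx (by rw [hf.herm, hxy, map_zero]) R' hR')
  have hfullU := h.full_half hF hX hMI hu0 hu00 hu0F
  have hfullW : ∀ w ∈ D 0, Full q M w :=
    h.symm.full_half hF hX' hMI (hs1 u0 hu0) (hsne u0 hu00) (full_conj hF hMI hu0F hsM)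
  obtain ⟨c, hc0, hc⟩ := Unit.exists_skew hf.ne_refl hf.involutive
  refine suGL_le_of_full hF (by omega) fun z hz => ?_
  obtain ⟨w, hw, u, hu, rfl⟩ := h.split z
  rcases eq_or_ne w 0 with rfl | hw'
  · rw [zero_add]; exact hfullU u hu
  by_cases hwu : ⟪w, u⟫ = 0
  · obtain ⟨u1, hu1, -, hwu1⟩ := h.symm.exists_dual hF ⊥ bot_le hw (by simpa using hw') c
    have hiso : ⟪w + u1, w + u1⟫ = 0 := by
      simp only [hf.add_left, Unit.add_right hf, h.singW w hw w hw, h.singU u1 hu1 u1 hu1, hwu1, hf.herm u1 w, hc]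
      ring
    have h1 := full_add_smul hF hMI (hfullU u1 hu1) (hfullW w hw) (by rw [hwu1]; exact hc0) 1 (by rwa [one_smul])
    rw [one_smul] at h1
    have e : w + u1 + (u - u1) = w + u := by abel
    have h2 := full_add_smul hF hMI (hfullU _ ((D 1).sub_mem hu hu1)) h1 (by
      rw [hf.add_left, h.singU u1 hu1 _ ((D 1).sub_mem hu hu1), show u - u1 = u + (-1 : F) • u1 by module,
        Unit.add_right hf, Unit.smul_right hf, hwu, hwu1, map_neg, map_one]
      simpa using hc0) 1 (by rw [one_smul, e]; exact hz)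
    rwa [one_smul, e] at h2
  · have h1 := full_add_smul hF hMI (hfullU u hu) (hfullW w hw) hwu 1 (by rwa [one_smul])
    rwa [one_smul] at h1

end CfsgLib.Geo.SUFour
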