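/-
The stabiliser of a non-degenerate line is maximal in the special unitary group of dimension four.
-/
import Cfsg.Agent.Geo.UnitRefl

set_option autoImplicit false

namespace CfsgLib.Geo.SUFour

open Matrix Cfsg Cfsg.Geo CfsgLib.Geo CfsgLib.Geo.UTv

variable {q : ℕ} {F : Type*} [Field F] [Finite F] (hF : Nat.card F = q ^ 2)

local notation "⟪" x ", " y "⟫" => Cfsg.hermForm 4 F q x y

include hF

/-- The stabiliser of a non-degenerate line is maximal. -/
theorem nondeg_maximal {W : Submodule F (Fin 4 → F)} (hW : IsNondegenerateOn (Cfsg.hermForm 4 F q) W)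
    (hW1 : Module.finrank F W = 1) :
    IsMaximalIn (suGL 4 F q) (subspaceStabilizer W ⊓ suGL 4 F q) := by
  classical
  have hf := isUnitaryForm hF (n := 4)
  obtain ⟨w, hwW, hw0⟩ := (Submodule.ne_bot_iff W).1 fun e => by rw [e, finrank_bot] at hW1; omega
  have hWe : F ∙ w = W :=
    Submodule.eq_of_le_of_finrank_le ((Submodule.span_singleton_le_iff_mem _ _).2 hwW)
      (by rw [hW1, finrank_span_singleton hw0])
  have hμ : ⟪w, w⟫ ≠ 0 := fun h0 => by
    obtain ⟨-, x, hx, hne⟩ := hW w hwW hw0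
    obtain ⟨a, rfl⟩ := Submodule.mem_span_singleton.1 (hWe.symm ▸ hx)
    exact hne (by rw [Unit.smul_right hf, h0, mul_zero])
  obtain ⟨z, x0, hz, hzx, hzw', hxw'⟩ := Unit.exists_isotropic_perp hf ![w] (by simp)
  have hzw : ⟪z, w⟫ = 0 := hzw' 0
  have hxw : ⟪x0, w⟫ = 0 := hxw' 0
  have hperp : ∀ x, x ∈ perp q W ↔ ⟪x, w⟫ = 0 := fun x => by
    refine ⟨fun h => h w hwW, fun h y hy => ?_⟩
    obtain ⟨a, rfl⟩ := Submodule.mem_span_singleton.1 (hWe.symm ▸ hy)
    rw [Unit.smul_right hf, h, mul_zero]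
  have hz0 : z ≠ 0 := fun e => hzx (by rw [e, (Unit.linLeft hf).zero_left])
  refine isMaximalIn_of_key (fun hle => ?_) fun M hM hMI hMX => ?_
  · have htop : IsNondegenerateOn (Cfsg.hermForm 4 F q) (⊤ : Submodule F (Fin 4 → F)) := fun v _ hv0 => by
      obtain ⟨⟨a, ha⟩, b, hb⟩ := hf.nondegenerate v hv0
      exact ⟨⟨a, trivial, ha⟩, b, trivial, hb⟩
    obtain ⟨g, hg, hdet, hgw⟩ := exists_map_vec hF htop (by simp) (w := w) (w' := w + z) trivial trivial
      (by simp [hf.add_left, Unit.add_right hf, hz, hzw, hf.herm w z]) hμ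
    have h1 := mem_subspaceStabilizer.1 (hle ⟨hg.1, mem_specialLinear.2 hdet⟩) w hwW
    rw [hgw] at h1
    have h2 := W.sub_mem h1 hwW
    rw [add_sub_cancel_left] at h2
    exact hz0 (eq_zero_of_mem_perp hF hW h2 ((hperp z).2 hzw))
  obtain ⟨g, hgM, hgW⟩ := SetLike.not_le_iff_exists.1 hMX
  have hWpnd : IsNondegenerateOn (Cfsg.hermForm 4 F q) (perp q W) := by
    intro v hv hv0
    obtain ⟨y, hy, -, hyv⟩ := exists_dual_perp hF hW hv ⊥ bot_le (by simpa using hv0)
    refine ⟨⟨y, hy, by rw [hyv]; exact one_ne_zero⟩, y, hy, ?_⟩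
    rw [hf.herm, hyv, map_one]; exact one_ne_zero
  have hdim : 2 ≤ Module.finrank F (perp q W) := by have := finrank_perp hF W; omega
  -- a mixed full centre
  obtain ⟨v, hvF, hvP⟩ : ∃ v, Full q M v ∧ v ∉ perp q W := by
    by_contra hcon
    push Not at hcon
    have h1 : perp q W ≤ (perp q W).comap (glEquiv g).toLinearMap :=
      Unit.mem_of_isotropic hf ((hperp z).2 hzw) ((hperp x0).2 hxw) hz hzx fun v hv hv0 => by
        simpa using hcon _ (full_conj hF hMI (full_of_stab hF hM hv0 (Or.inr hv)) hgM)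
    have hst : g ∈ subspaceStabilizer (perp q W) := mem_subspaceStabilizer.2 fun v hv => by simpa using h1 hv
    refine hgW (mem_subspaceStabilizer.2 fun x hx => mem_of_perp hF fun y hy => ?_)
    rw [← mulVec_inv_mulVec g y, herm_mulVec (hMI hgM)]
    exact herm_perp hF (mem_subspaceStabilizer.1 (Subgroup.inv_mem _ hst) y hy) hx
  obtain ⟨a, ha, hb⟩ := exists_split hF hW v
  obtain ⟨r, rfl⟩ := Submodule.mem_span_singleton.1 (hWe.symm ▸ ha)
  have hr : r ≠ 0 := fun e => hvP (by simpa [e] using hb)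
  set b := r⁻¹ • (v - r • w) with hbdef
  have hbP : b ∈ perp q W := (perp q W).smul_mem _ hb
  have hwb : Full q M (w + b) := by
    have := full_smul hF hvF r⁻¹
    rwa [show r⁻¹ • v = w + b by rw [hbdef, smul_sub, smul_smul, inv_mul_cancel₀ hr, one_smul]; abel] at this
  have hbn : ∀ b', b' ∈ perp q W → ⟪w + b', w + b'⟫ = 0 → ⟪b', b'⟫ = -⟪w, w⟫ := fun b' hb' h => by
    simp only [hf.add_left, Unit.add_right hf, herm_perp hF hb' hwW, hb' w hwW] at h
    linear_combination h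
  have hb0 : ⟪b, b⟫ ≠ 0 := by rw [hbn b hbP hwb.1]; exact neg_ne_zero.2 hμ
  refine suGL_le_of_full hF le_rfl fun y hy => ?_
  obtain ⟨a, ha, hyb⟩ := exists_split hF hW y
  obtain ⟨s, rfl⟩ := Submodule.mem_span_singleton.1 (hWe.symm ▸ ha)
  rcases eq_or_ne s 0 with rfl | hs
  · exact full_of_stab hF hM hy (Or.inr (by simpa using hyb))
  set b' := s⁻¹ • (y - s • w) with hb'def
  have hb'P : b' ∈ perp q W := (perp q W).smul_mem _ hyb
  have hy' : s⁻¹ • y = w + b' := by rw [hb'def, smul_sub, smul_smul, inv_mul_cancel₀ hs, one_smul]; abel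
  have hb'n : ⟪w + b', w + b'⟫ = 0 := by rw [← hy', hf.smul_left, Unit.smul_right hf, hy, mul_zero, mul_zero]
  obtain ⟨h, hh, hdet, hhb⟩ := exists_map_vec hF hWpnd hdim hbP hb'P
    (by rw [hbn b hbP hwb.1, hbn b' hb'P hb'n]) hb0
  have hhw : (h : Matrix (Fin 4) (Fin 4) F) *ᵥ w = w :=
    (hh.2 w).2 fun x hx => herm_perp hF hx hwW
  have hhM : h ∈ M := hM ⟨mem_subspaceStabilizer.2 fun x hx => by
    obtain ⟨c, rfl⟩ := Submodule.mem_span_singleton.1 (hWe.symm ▸ hx)
    rw [Matrix.mulVec_smul, hhw]; exact W.smul_mem c hwW, hh.1, mem_specialLinear.2 hdet⟩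
  have h3 := full_conj hF hMI hwb hhM
  rw [Matrix.mulVec_add, hhw, hhb, ← hy'] at h3
  have h4 := full_smul hF h3 s
  rwa [smul_smul, mul_inv_cancel₀ hs, one_smul] at h4

end CfsgLib.Geo.SUFour
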