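/-
An orthogonal structure on a unitary space of dimension four: rational orthogonal bases, pairs of reflections,
and the isometries of a plane generated by two full centres.
-/
import Cfsg.Agent.Geo.UnitOrthogonalSub
import Cfsg.Agent.Geo.UnitRefl

set_option autoImplicit false

namespace CfsgLib.Geo.SUFour

open Matrix Cfsg Cfsg.Geo CfsgLib.Geo CfsgLib.Geo.UTv

variable {n q : ℕ} {F : Type*} [Field F]

local notation "hh" => Cfsg.hermForm n F q

/-- A rational orthogonal basis. -/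
structure OBasis (q : ℕ) (P : GL (Fin n) F) (p₁ p₂ e₁ e₂ : Fin n → F) : Prop where
  p₁_mem : IsRV q P p₁
  p₂_mem : IsRV q P p₂
  e₁_mem : IsRV q P e₁
  e₂_mem : IsRV q P e₂
  p₁_ne : Cfsg.hermForm n F q p₁ p₁ ≠ 0
  p₂_ne : Cfsg.hermForm n F q p₂ p₂ ≠ 0
  e₁_ne : Cfsg.hermForm n F q e₁ e₁ ≠ 0
  e₂_ne : Cfsg.hermForm n F q e₂ e₂ ≠ 0
  p₂p₁ : Cfsg.hermForm n F q p₂ p₁ = 0
  e₁p₁ : Cfsg.hermForm n F q e₁ p₁ = 0
  e₁p₂ : Cfsg.hermForm n F q e₁ p₂ = 0
  e₂p₁ : Cfsg.hermForm n F q e₂ p₁ = 0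
  e₂p₂ : Cfsg.hermForm n F q e₂ p₂ = 0
  e₂e₁ : Cfsg.hermForm n F q e₂ e₁ = 0

variable [Finite F] (hF : Nat.card F = q ^ 2) {F₀ : Subfield F} {P : GL (Fin n) F}

include hF

lemma OBasis.li {p₁ p₂ e₁ e₂ : Fin n → F} (B : OBasis q P p₁ p₂ e₁ e₂) :
    LinearIndependent F ![p₁, p₂, e₁, e₂] := by
  have hf := isUnitaryForm hF (n := n)
  refine Fintype.linearIndependent_iff.2 fun c hc i => ?_
  have h0 : ∀ y, hh (0 : Fin n → F) y = 0 :=
    LinLeft.zero_left ⟨CfsgLib.Unitary.herm_add_left n, CfsgLib.Unitary.herm_smul_left n⟩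
  have a0 : hh p₁ p₂ = 0 := by rw [hf.herm, B.p₂p₁, map_zero]
  have a1 : hh p₁ e₁ = 0 := by rw [hf.herm, B.e₁p₁, map_zero]
  have a2 : hh p₂ e₁ = 0 := by rw [hf.herm, B.e₁p₂, map_zero]
  have a3 : hh p₁ e₂ = 0 := by rw [hf.herm, B.e₂p₁, map_zero]
  have a4 : hh p₂ e₂ = 0 := by rw [hf.herm, B.e₂p₂, map_zero]
  have a5 : hh e₁ e₂ = 0 := by rw [hf.herm, B.e₂e₁, map_zero]
  simp only [Fin.sum_univ_four, Matrix.cons_val_zero, Matrix.cons_val_one, Matrix.cons_val] at hc
  have e0 := congrArg (fun y => hh y p₁) hc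
  have e1 := congrArg (fun y => hh y p₂) hc
  have e2 := congrArg (fun y => hh y e₁) hc
  have e3 := congrArg (fun y => hh y e₂) hc
  simp only [hf.add_left, hf.smul_left, h0, B.p₂p₁, B.e₁p₁, B.e₁p₂, B.e₂p₁, B.e₂p₂, B.e₂e₁, a0, a1, a2, a3, a4,
    a5, mul_zero, add_zero, zero_add] at e0 e1 e2 e3
  fin_cases i
  · exact (mul_eq_zero.1 e0).resolve_right B.p₁_ne
  · exact (mul_eq_zero.1 e1).resolve_right B.p₂_ne
  · exact (mul_eq_zero.1 e2).resolve_right B.e₁_ne
  · exact (mul_eq_zero.1 e3).resolve_right B.e₂_ne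

/-- A vector orthogonal to a basis is zero. -/
lemma eq_zero_of_orth {b : Fin 4 → (Fin n → F)} (hn : n = 4) (hb : LinearIndependent F b) {d : Fin n → F}
    (hd : ∀ i, hh d (b i) = 0) : d = 0 := by
  have hf := isUnitaryForm hF (n := n)
  have htop : Submodule.span F (Set.range b) = ⊤ :=
    hb.span_eq_top_of_card_eq_finrank (by rw [Module.finrank_fin_fun, Fintype.card_fin, hn])
  have hall : ∀ y, hh y d = 0 := fun y => by
    have hy : y ∈ Submodule.span F (Set.range b) := htop ▸ Submodule.mem_top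
    induction hy using Submodule.span_induction with
    | mem z hz => obtain ⟨i, rfl⟩ := hz; rw [hf.herm, hd i, map_zero]
    | zero => exact LinLeft.zero_left ⟨CfsgLib.Unitary.herm_add_left n, CfsgLib.Unitary.herm_smul_left n⟩ _
    | add x y _ _ hx hy => rw [hf.add_left, hx, hy, add_zero]
    | smul c x _ hx => rw [hf.smul_left, hx, mul_zero]
  by_contra h0
  obtain ⟨⟨z, hz⟩, -⟩ := hf.nondegenerate d h0
  exact hz (hall z)

/-- The coordinates in a rational orthogonal basis. -/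
lemma OBasis.expand {p₁ p₂ e₁ e₂ : Fin n → F} (B : OBasis q P p₁ p₂ e₁ e₂) (hn : n = 4) (x : Fin n → F) :
    x = (hh x p₁ / hh p₁ p₁) • p₁ + (hh x p₂ / hh p₂ p₂) • p₂ + (hh x e₁ / hh e₁ e₁) • e₁ +
      (hh x e₂ / hh e₂ e₂) • e₂ := by
  have hf := isUnitaryForm hF (n := n)
  set r := (hh x p₁ / hh p₁ p₁) • p₁ + (hh x p₂ / hh p₂ p₂) • p₂ + (hh x e₁ / hh e₁ e₁) • e₁ +
      (hh x e₂ / hh e₂ e₂) • e₂ with hr
  have a0 : hh p₁ p₂ = 0 := by rw [hf.herm, B.p₂p₁, map_zero]
  have a1 : hh p₁ e₁ = 0 := by rw [hf.herm, B.e₁p₁, map_zero]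
  have a2 : hh p₂ e₁ = 0 := by rw [hf.herm, B.e₁p₂, map_zero]
  have a3 : hh p₁ e₂ = 0 := by rw [hf.herm, B.e₂p₁, map_zero]
  have a4 : hh p₂ e₂ = 0 := by rw [hf.herm, B.e₂p₂, map_zero]
  have a5 : hh e₁ e₂ = 0 := by rw [hf.herm, B.e₂e₁, map_zero]
  refine sub_eq_zero.1 (eq_zero_of_orth hF hn (B.li hF) fun i => ?_)
  have n1 := B.p₁_ne
  have n2 := B.p₂_ne
  have n3 := B.e₁_ne
  have n4 := B.e₂_ne
  fin_cases i <;>
    (rw [sub_eq_add_neg, ← neg_one_smul F r, hf.add_left, hf.smul_left, hr]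
     simp [hf.add_left, hf.smul_left, B.p₂p₁,
      B.e₁p₁, B.e₁p₂, B.e₂p₁, B.e₂p₂, B.e₂e₁, a0, a1, a2, a3, a4, a5, n1, n2, n3, n4])

variable (hO : OrthSub n q F F₀ P)
include hO

lemma fixed_of {x : F} (hx : x ∈ F₀) : frobEquiv hF x = x := by
  rw [frobEquiv_apply hF, hO.fixed _ hx]

lemma two_fixed : frobEquiv hF (2 : F) = 2 := map_ofNat _ 2

/-- A non-zero element of the small field with square different from one given value. -/
lemma exists_sq_ne (hq : 5 ≤ q) (c : F) : ∃ t : F, frobEquiv hF t = t ∧ t ≠ 0 ∧ c * (t * t) ≠ 1 := by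
  obtain ⟨δ, hδ0, hδ⟩ := exists_delta hF
  classical
  haveI := Fintype.ofFinite F
  have hcard : q ≤ (Finset.univ.filter fun x : F => frobEquiv hF x = x).card := by
    by_contra hlt
    push Not at hlt
    let S := Finset.univ.filter fun x : F => frobEquiv hF x = x
    have h2 := hO.two
    have hsurj : Set.SurjOn (fun p : F × F => p.1 + δ * p.2) ↑(S ×ˢ S) ↑(Finset.univ : Finset F) := fun x _ => by
      refine ⟨((x + frobEquiv hF x) / 2, (x - frobEquiv hF x) / (2 * δ)), ?_, ?_⟩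
      · simp only [S, Finset.coe_product, Set.mem_prod, Finset.coe_filter, Finset.mem_univ, true_and,
          Set.mem_setOf_eq]
        have hi := (isUnitaryForm hF (n := n)).involutive x
        constructor
        · rw [map_div₀, map_add, hi, map_ofNat, add_comm]
        · rw [map_div₀, map_sub, hi, map_mul, map_ofNat, hδ]
          field_simp
          ring
      · field_simp
        ring
    have h3 := Finset.card_le_card_of_surjOn _ hsurj
    rw [Finset.card_product, Finset.card_univ, ← Nat.card_eq_fintype_card, hF] at h3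
    have : S.card * S.card < q ^ 2 := by rw [sq]; exact Nat.mul_lt_mul'' hlt hlt
    omega
  by_contra hcon
  push Not at hcon
  have hsub : (Finset.univ.filter fun x : F => frobEquiv hF x = x) ⊆
      insert 0 (Polynomial.nthRoots 2 c⁻¹).toFinset := fun x hx => by
    rw [Finset.mem_insert, Multiset.mem_toFinset, Polynomial.mem_nthRoots (by omega)]
    rcases eq_or_ne x 0 with h | h
    · exact Or.inl h
    · exact Or.inr (by
        rw [pow_two]
        exact eq_inv_of_mul_eq_one_right (hcon x (Finset.mem_filter.1 hx).2 h))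
  have h3 := Finset.card_le_card hsub
  have h4 := Finset.card_insert_le (0 : F) (Polynomial.nthRoots 2 c⁻¹).toFinset
  have h5 := Multiset.toFinset_card_le (Polynomial.nthRoots 2 c⁻¹)
  have h6 := Polynomial.card_nthRoots 2 c⁻¹
  omega

/-- A pair of rational reflections. -/
lemma exists_refl_pair {e f : Fin n → F} (he : IsRV q P e) (hf' : IsRV q P f) (he0 : hh e e ≠ 0) (hf0 : hh f f ≠ 0) :
    ∃ k ∈ subfieldSubgroup F₀ P ⊓ suGL n F q, ∀ x, (k : Matrix (Fin n) (Fin n) F) *ᵥ x =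
      (x + (-2 / hh f f * hh x f) • f) + (-2 / hh e e * hh (x + (-2 / hh f f * hh x f) • f) e) • e := by
  have hm : (-1 : F) * (-1 : F) ^ q = 1 := by
    rw [← frobEquiv_apply hF, map_neg, map_one]; ring
  obtain ⟨R₁, hR₁, hd₁, hR₁e⟩ := exists_refl hF (W := ⊤) (u := e) trivial he0 hm
  obtain ⟨R₂, hR₂, hd₂, hR₂e⟩ := exists_refl hF (W := ⊤) (u := f) trivial hf0 hm
  have hform : ∀ x, ((R₁ * R₂ : GL (Fin n) F) : Matrix (Fin n) (Fin n) F) *ᵥ x =
      (x + (-2 / hh f f * hh x f) • f) + (-2 / hh e e * hh (x + (-2 / hh f f * hh x f) • f) e) • e := fun x => by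
    rw [mul_mulVec, hR₂e, hR₁e]
    norm_num
  refine ⟨R₁ * R₂, ⟨mem_subfield_of_scaled hO one_ne_zero fun x hx => ?_, mul_mem hR₁.1 hR₂.1,
    mem_specialLinear.2 (by rw [Units.val_mul, Matrix.det_mul, hd₁, hd₂]; ring)⟩, hform⟩
  rw [one_smul, hform]
  have hc : ∀ {y z : Fin n → F}, IsRV q P y → IsRV q P z →
      frobEquiv hF (-2 / hh z z * hh y z) = -2 / hh z z * hh y z := fun hy hz => by
    rw [map_mul, map_div₀, map_neg, map_ofNat, fixed_herm hF hO hz hz, fixed_herm hF hO hy hz]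
  have h1 := hx.add hF (hf'.smul hF (hc hx hf'))
  exact h1.add hF (he.smul hF (hc h1 he))

/-- Two orthogonal anisotropic rational vectors extend to a rational orthogonal basis. -/
lemma exists_basis (hn : n = 4) {p₁ p₂ : Fin n → F} (h₁ : IsRV q P p₁) (h₂ : IsRV q P p₂) (n₁ : hh p₁ p₁ ≠ 0)
    (n₂ : hh p₂ p₂ ≠ 0) (h21 : hh p₂ p₁ = 0) : ∃ e₁ e₂, OBasis q P p₁ p₂ e₁ e₂ := by
  have hf := isUnitaryForm hF (n := n)
  have h12 : hh p₁ p₂ = 0 := by rw [hf.herm, h21, map_zero]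
  have hp : ∀ j, IsRV q P (![p₁, p₂] j) := Fin.forall_fin_two.2 ⟨h₁, h₂⟩
  obtain ⟨e₁, he₁, ne₁, he₁u⟩ : ∃ e, IsRV q P e ∧ hh e e ≠ 0 ∧ ∀ j, hh e (![p₁, p₂] j) = 0 := by
    obtain ⟨e, he, he0, heu⟩ := exists_rv_ne_zero hF hO ![p₁, p₂] hp (by omega)
    by_cases hee : hh e e = 0
    · obtain ⟨f, hf', hef, hfu⟩ := exists_rv_dual hF hO ![p₁, p₂] hp he fun hc => he0 (by
        obtain ⟨c, hc⟩ := (Submodule.mem_span_range_iff_exists_fun F).1 hc
        simp only [Fin.sum_univ_two, Matrix.cons_val_zero, Matrix.cons_val_one] at hc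
        have a := congrArg (fun y => hh y p₁) hc
        have b := congrArg (fun y => hh y p₂) hc
        simp only [hf.add_left, hf.smul_left, h21, h12, mul_zero, add_zero, zero_add,
          show hh e p₁ = 0 by simpa using heu 0, show hh e p₂ = 0 by simpa using heu 1] at a b
        rw [← hc, (mul_eq_zero.1 a).resolve_right n₁, (mul_eq_zero.1 b).resolve_right n₂, zero_smul, zero_smul,
          add_zero])
      by_cases hff : hh f f = 0
      · refine ⟨e + f, he.add hF hf', ?_, fun j => by rw [hf.add_left, heu, hfu, add_zero]⟩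
        simp only [hf.add_left, Unit.add_right hf, hee, hff, hef, herm_swap_rv hF hO he hf', zero_add, add_zero]
        rw [one_add_one_eq_two]
        exact hO.two
      · exact ⟨f, hf', hff, hfu⟩
    · exact ⟨e, he, hee, heu⟩
  have a1 : hh e₁ p₁ = 0 := by simpa using he₁u 0
  have a2 : hh e₁ p₂ = 0 := by simpa using he₁u 1
  have a1' : hh p₁ e₁ = 0 := by rw [hf.herm, a1, map_zero]
  have a2' : hh p₂ e₁ = 0 := by rw [hf.herm, a2, map_zero]
  have hp3 : ∀ j, IsRV q P (![p₁, p₂, e₁] j) := Fin.forall_fin_succ.2 ⟨h₁, Fin.forall_fin_two.2 ⟨h₂, he₁⟩⟩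
  obtain ⟨e₂, he₂, he20, he₂u⟩ := exists_rv_ne_zero hF hO ![p₁, p₂, e₁] hp3 (by omega)
  have b1 : hh e₂ p₁ = 0 := by simpa using he₂u 0
  have b2 : hh e₂ p₂ = 0 := by simpa using he₂u 1
  have b3 : hh e₂ e₁ = 0 := by simpa using he₂u 2
  refine ⟨e₁, e₂, h₁, h₂, he₁, he₂, n₁, n₂, ne₁, fun hee => ?_, h21, a1, a2, b1, b2, b3⟩
  obtain ⟨f, -, hef, hfu⟩ := exists_rv_dual hF hO ![p₁, p₂, e₁] hp3 he₂ fun hc => he20 (by
    obtain ⟨c, hc⟩ := (Submodule.mem_span_range_iff_exists_fun F).1 hc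
    simp only [Fin.sum_univ_three, Matrix.cons_val_zero, Matrix.cons_val_one, Matrix.cons_val] at hc
    have a := congrArg (fun y => hh y p₁) hc
    have b := congrArg (fun y => hh y p₂) hc
    have d := congrArg (fun y => hh y e₁) hc
    simp only [hf.add_left, hf.smul_left, h21, h12, a1, a2, a1', a2', b1, b2, b3, mul_zero, add_zero,
      zero_add] at a b d
    rw [← hc, (mul_eq_zero.1 a).resolve_right n₁, (mul_eq_zero.1 b).resolve_right n₂,
      (mul_eq_zero.1 d).resolve_right ne₁, zero_smul, zero_smul, zero_smul, add_zero, add_zero])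
  have f1 : hh f p₁ = 0 := by simpa using hfu 0
  have f2 : hh f p₂ = 0 := by simpa using hfu 1
  have f3 : hh f e₁ = 0 := by simpa using hfu 2
  have hli : LinearIndependent F ![p₁, p₂, e₁, e₂, f] := Fintype.linearIndependent_iff.2 fun c hc i => by
    simp only [Fin.sum_univ_five, Matrix.cons_val_zero, Matrix.cons_val_one, Matrix.cons_val] at hc
    have h0 : ∀ y, hh (0 : Fin n → F) y = 0 :=
      LinLeft.zero_left ⟨CfsgLib.Unitary.herm_add_left n, CfsgLib.Unitary.herm_smul_left n⟩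
    have a := congrArg (fun y => hh y p₁) hc
    have b := congrArg (fun y => hh y p₂) hc
    have d := congrArg (fun y => hh y e₁) hc
    have g := congrArg (fun y => hh y e₂) hc
    have k := congrArg (fun y => hh y f) hc
    simp only [hf.add_left, hf.smul_left, h0, h21, h12, a1, a2, a1', a2', b1, b2, b3, f1, f2, f3, hee, hef,
      hf.herm p₁ e₂, hf.herm p₂ e₂, hf.herm e₁ e₂, hf.herm f e₂, hf.herm e₂ f, hf.herm p₁ f, hf.herm p₂ f,
      hf.herm e₁ f, map_zero, map_one, mul_zero, mul_one, add_zero, zero_add] at a b d g k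
    have c0 := (mul_eq_zero.1 a).resolve_right n₁
    have c1 := (mul_eq_zero.1 b).resolve_right n₂
    have c2 := (mul_eq_zero.1 d).resolve_right ne₁
    have c4 : c 4 = 0 := g
    have c3 : c 3 = 0 := by simpa [c4] using k
    fin_cases i <;> assumption
  have := hli.fintype_card_le_finrank
  rw [Fintype.card_fin, Module.finrank_fin_fun, hn] at this
  omega

omit hO in
/-- Rotating one plane: two full centres not orthogonal move any vector of non-zero length in their plane. -/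
lemma plane_move {M : Subgroup (GL (Fin n) F)} {a b : Fin n → F} (ha : Full q M a) (hb' : Full q M b)
    (hab : hh a b ≠ 0) {z₁ z₂ w₁ w₂ : F} (he : hh (z₁ • a + z₂ • b) (z₁ • a + z₂ • b) = hh (w₁ • a + w₂ • b) (w₁ • a + w₂ • b))
    (h0 : hh (w₁ • a + w₂ • b) (w₁ • a + w₂ • b) ≠ 0) :
    ∃ d ∈ M, (d : Matrix (Fin n) (Fin n) F) *ᵥ (z₁ • a + z₂ • b) = w₁ • a + w₂ • b ∧
      ∀ x, hh x a = 0 → hh x b = 0 → (d : Matrix (Fin n) (Fin n) F) *ᵥ x = x := by
  have hf := isUnitaryForm hF (n := n)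
  -- normalise the pairing
  obtain ⟨l, hl⟩ : ∃ l, frobEquiv hF l = (hh a b)⁻¹ := (frobEquiv hF).surjective _
  have hl0 : l ≠ 0 := fun e => by rw [e, map_zero] at hl; exact inv_ne_zero hab hl.symm
  set b' := l • b with hb'def
  have hfb : Full q M b' := full_smul hF hb' l
  have hab' : hh a b' = 1 := by rw [hb'def, Unit.smul_right hf, hl, inv_mul_cancel₀ hab]
  have hba' : hh b' a = 1 := by rw [hf.herm, hab', map_one]
  have hcoord : ∀ x y : F, x • a + y • b = x • a + (y / l) • b' := fun x y => by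
    rw [hb'def, smul_smul, div_mul_cancel₀ _ hl0]
  have hnorm : ∀ x y : F, hh (x • a + y • b') (x • a + y • b') = x * frobEquiv hF y + y * frobEquiv hF x := fun x y => by
    simp only [hf.add_left, Unit.add_right hf, hf.smul_left, Unit.smul_right hf, ha.1, hfb.1, hab', hba']
    ring
  rw [hcoord z₁ z₂, hcoord w₁ w₂, hnorm, hnorm] at he
  rw [hcoord w₁ w₂, hnorm] at h0
  simp only [hcoord]
  have stepA : ∀ c : F, c + frobEquiv hF c = 0 → ∃ d ∈ M, (∀ x, hh x a = 0 → hh x b = 0 →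
      (d : Matrix (Fin n) (Fin n) F) *ᵥ x = x) ∧
      ∀ x y : F, (d : Matrix (Fin n) (Fin n) F) *ᵥ (x • a + y • b') = (x + c * y) • a + y • b' := fun c hc => by
    obtain ⟨hdot, hd⟩ := ha.2 c (by rw [← frobEquiv_apply hF]; exact hc)
    refine ⟨_, hd, fun x hxa _ => by rw [utv_mulVec hF ha.1, hxa, mul_zero, zero_smul, add_zero], fun x y => ?_⟩
    rw [utv_mulVec hF ha.1, hf.add_left, hf.smul_left, hf.smul_left, ha.1, hba']
    module
  have stepB : ∀ c : F, c + frobEquiv hF c = 0 → ∃ d ∈ M, (∀ x, hh x a = 0 → hh x b = 0 →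
      (d : Matrix (Fin n) (Fin n) F) *ᵥ x = x) ∧
      ∀ x y : F, (d : Matrix (Fin n) (Fin n) F) *ᵥ (x • a + y • b') = x • a + (y + c * x) • b' := fun c hc => by
    obtain ⟨hdot, hd⟩ := hfb.2 c (by rw [← frobEquiv_apply hF]; exact hc)
    refine ⟨_, hd, fun x _ hxb => by
      rw [utv_mulVec hF hfb.1, hb'def, Unit.smul_right hf, hxb, mul_zero, mul_zero, zero_smul, add_zero],
      fun x y => ?_⟩
    rw [utv_mulVec hF hfb.1, hf.add_left, hf.smul_left, hf.smul_left, hfb.1, hab']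
    module
  set w := w₂ / l
  have hw1 : w₁ ≠ 0 := fun e => h0 (by rw [e, map_zero]; ring)
  have generic : ∀ z₁ z : F, z₁ * frobEquiv hF z + z * frobEquiv hF z₁ = w₁ * frobEquiv hF w + w * frobEquiv hF w₁ →
      frobEquiv hF w₁ * z₁ - w₁ * frobEquiv hF z₁ ≠ 0 →
      ∃ d ∈ M, (d : Matrix (Fin n) (Fin n) F) *ᵥ (z₁ • a + z • b') = w₁ • a + w • b' ∧
        ∀ x, hh x a = 0 → hh x b = 0 → (d : Matrix (Fin n) (Fin n) F) *ᵥ x = x := by
    intro z₁ z he hK
    set σ := frobEquiv hF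
    have hσ : ∀ x, σ (σ x) = x := (isUnitaryForm hF (n := n)).involutive
    set K := σ w₁ * z₁ - w₁ * σ z₁
    set R := (w₁ - z₁) * σ z + σ (w₁ - z₁) * z
    set c₁ := -R / K with hc₁
    have hσR : σ R = R := by simp only [R, map_add, map_mul, map_sub, hσ]; ring
    have hσK : σ K = -K := by simp only [K, map_sub, map_mul, hσ]; ring
    have hs₁ : c₁ + σ c₁ = 0 := by rw [hc₁, map_div₀, map_neg, hσR, hσK, neg_div_neg_eq, neg_div, neg_add_cancel]
    have hcK : c₁ * K = -R := div_mul_cancel₀ _ hK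
    set z' := z + c₁ * z₁
    have hσc₁ : σ c₁ = -c₁ := by linear_combination hs₁
    have he' : z₁ * σ z' + z' * σ z₁ = w₁ * σ w + w * σ w₁ := by
      simp only [z', map_add, map_mul]
      linear_combination he + z₁ * σ z₁ * hs₁
    have hz' : z' ≠ 0 := fun e => h0 (by rw [← he', e, map_zero]; ring)
    set c₂ := (w₁ - z₁) / z'
    have hs₂ : c₂ + σ c₂ = 0 := by
      have hz'' : σ z' ≠ 0 := (map_ne_zero _).2 hz'
      simp only [c₂, map_div₀]
      field_simp
      simp only [z', map_add, map_mul, hσc₁, R, K] at hcK ⊢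
      simp only [map_sub] at hcK ⊢
      linear_combination hcK
    set c₃ := (w - z') / w₁
    have hs₃ : c₃ + σ c₃ = 0 := by
      have hw' : σ w₁ ≠ 0 := (map_ne_zero _).2 hw1
      have hkeep : w₁ * σ z' + z' * σ w₁ = w₁ * σ w + w * σ w₁ := by
        have e1 : c₂ * z' = w₁ - z₁ := div_mul_cancel₀ _ hz'
        have e2 : σ c₂ * σ z' = σ w₁ - σ z₁ := by rw [← map_mul, e1, map_sub]
        linear_combination he' + z' * σ z' * hs₂ - σ z' * e1 - z' * e2
      simp only [c₃, map_div₀, map_sub]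
      field_simp
      linear_combination -hkeep
    obtain ⟨d₁, hd₁, f₁, e₁⟩ := stepB c₁ hs₁
    obtain ⟨d₂, hd₂, f₂, e₂⟩ := stepA c₂ hs₂
    obtain ⟨d₃, hd₃, f₃, e₃⟩ := stepB c₃ hs₃
    refine ⟨d₃ * d₂ * d₁, M.mul_mem (M.mul_mem hd₃ hd₂) hd₁, ?_, fun x hxa hxb => by
      rw [mul_mulVec, mul_mulVec, f₁ x hxa hxb, f₂ x hxa hxb, f₃ x hxa hxb]⟩
    rw [mul_mulVec, mul_mulVec, e₁, e₂, e₃]
    simp only [c₂, c₃, z', c₁] at *
    rw [show z₁ + (w₁ - z₁) / (z + -R / K * z₁) * (z + -R / K * z₁) = w₁ by rw [div_mul_cancel₀ _ hz']; ring,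
      div_mul_cancel₀ _ hw1, add_sub_cancel]
  by_cases hK : frobEquiv hF w₁ * z₁ - w₁ * frobEquiv hF z₁ = 0
  · obtain ⟨δ, hδ0, hδ⟩ := exists_delta hF
    obtain ⟨d₀, hd₀, f₀, e₀⟩ := stepA δ (by rw [hδ]; ring)
    set z := z₂ / l
    have he2 : (z₁ + δ * z) * frobEquiv hF z + z * frobEquiv hF (z₁ + δ * z) =
        w₁ * frobEquiv hF w + w * frobEquiv hF w₁ := by
      rw [map_add, map_mul, hδ]; linear_combination he
    obtain ⟨d, hd, e, f⟩ := generic _ z he2 fun hK' => by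
      rw [map_add, map_mul, hδ] at hK'
      have h1 : δ * (frobEquiv hF w₁ * z + w₁ * frobEquiv hF z) = 0 := by linear_combination hK' - hK
      have h2 := (mul_eq_zero.1 h1).resolve_left hδ0
      rcases eq_or_ne z₁ 0 with h | h
      · rw [h, map_zero] at he; exact h0 (by rw [← he]; ring)
      · refine h0 ?_
        have h3 : z₁ * (w₁ * frobEquiv hF w + w * frobEquiv hF w₁) * frobEquiv hF w₁ = 0 := by
          linear_combination (-(z₁ * frobEquiv hF w₁)) * he + frobEquiv hF z₁ * z₁ * h2 +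
            z₁ * frobEquiv hF z * hK
        rcases mul_eq_zero.1 h3 with h4 | h4
        · exact (mul_eq_zero.1 h4).resolve_left h
        · exact absurd h4 ((map_ne_zero _).2 hw1)
    exact ⟨d * d₀, M.mul_mem hd hd₀, by rw [mul_mulVec, e₀, e], fun x hxa hxb => by
      rw [mul_mulVec, f₀ x hxa hxb, f x hxa hxb]⟩
  · exact generic _ _ he hK

end CfsgLib.Geo.SUFour
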