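/-
An orthogonal structure on a unitary space of dimension four: one full transvection centre with a non-degenerate
rational plane gives the whole special unitary group.
-/
import Cfsg.Agent.Geo.SUFour.OrthPlane

set_option autoImplicit false

namespace CfsgLib.Geo.SUFour

open Matrix Cfsg Cfsg.Geo CfsgLib.Geo CfsgLib.Geo.UTv

variable {n q : ℕ} {F : Type*} [Field F] [Finite F] (hF : Nat.card F = q ^ 2) {F₀ : Subfield F}
  {P : GL (Fin n) F} (hO : OrthSub n q F F₀ P) {M : Subgroup (GL (Fin n) F)}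

local notation "hh" => Cfsg.hermForm n F q

include hF hO

lemma fixed_real (X : F₀) : frobEquiv hF (X : F) = X := fixed_of hF hO X.2

/-- Every value of the small field is a length in a plane. -/
lemma exists_value {e f : Fin n → F} (he : IsRV q P e) (hf' : IsRV q P f) (he0 : hh e e ≠ 0) (hf0 : hh f f ≠ 0)
    (hfe : hh f e = 0) {c : F} (hc : frobEquiv hF c = c) :
    ∃ X Y : F, frobEquiv hF X = X ∧ frobEquiv hF Y = Y ∧ IsRV q P (X • e + Y • f) ∧
      hh (X • e + Y • f) (X • e + Y • f) = c := by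
  have hf := isUnitaryForm hF (n := n)
  have hef : hh e f = 0 := by rw [hf.herm, hfe, map_zero]
  obtain ⟨X, Y, hXY⟩ := CfsgLib.Forms.exists_binary (F := F₀)
    (fun e => hO.two (by have := congrArg F₀.subtype e; rwa [map_ofNat, map_zero] at this))
    (a := ⟨_, hO.mem_of_fixed _ (herm_fixed hO he he)⟩) (b := ⟨_, hO.mem_of_fixed _ (herm_fixed hO hf' hf')⟩)
    (fun e => he0 (congrArg Subtype.val e)) (fun e => hf0 (congrArg Subtype.val e))
    ⟨c, hO.mem_of_fixed _ (by rw [← frobEquiv_apply hF]; exact hc)⟩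
  have hXY' := congrArg Subtype.val hXY
  push_cast at hXY'
  have hX := fixed_real hF hO X
  have hY := fixed_real hF hO Y
  refine ⟨X, Y, hX, hY, (he.smul hF hX).add hF (hf'.smul hF hY), ?_⟩
  simp only [hf.add_left, Unit.add_right hf, hf.smul_left, Unit.smul_right hf, hX, hY, hef, hfe]
  linear_combination hXY'

/-- A full rational centre makes all rational isotropic vectors off its orthogonal full. -/
lemma full_off (hn : n = 4) (hM : subfieldSubgroup F₀ P ⊓ suGL n F q ≤ M) (hMI : M ≤ suGL n F q) {v w : Fin n → F}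
    (hv : IsRV q P v) (hvF : Full q M v) (hw : IsRV q P w) (hww : hh w w = 0) (hwv : hh w v ≠ 0) : Full q M w := by
  have hf := isUnitaryForm hF (n := n)
  have h2 := hO.two
  set l := (hh w v)⁻¹
  have hlf : frobEquiv hF l = l := by rw [map_inv₀, fixed_herm hF hO hw hv]
  set w' := l • w
  have hw' : IsRV q P w' := hw.smul hF hlf
  have h1 : hh w' v = 1 := by rw [hf.smul_left, inv_mul_cancel₀ hwv]
  have h1' : hh v w' = 1 := by rw [hf.herm, h1, map_one]
  have h0 : hh w' w' = 0 := by rw [hf.smul_left, Unit.smul_right hf, hww, mul_zero, mul_zero]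
  have hp : IsRV q P (v + w') := hv.add hF hw'
  have hm : IsRV q P (v + (-1 : F) • w') := hv.add hF (hw'.smul hF (by rw [map_neg, map_one]))
  have np : hh (v + w') (v + w') = 2 := by
    simp only [hf.add_left, Unit.add_right hf, hvF.1, h0, h1, h1']; ring
  have nm : hh (v + (-1 : F) • w') (v + (-1 : F) • w') = -2 := by
    simp only [hf.add_left, Unit.add_right hf, hf.smul_left, Unit.smul_right hf, map_neg, map_one, hvF.1, h0, h1, h1']
    ring
  have hmp : hh (v + (-1 : F) • w') (v + w') = 0 := by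
    simp only [hf.add_left, Unit.add_right hf, hf.smul_left, hvF.1, h0, h1, h1']; ring
  obtain ⟨e₁, e₂, B⟩ := exists_basis hF hO hn hp hm (by rw [np]; exact h2) (by rw [nm]; exact neg_ne_zero.2 h2) hmp
  obtain ⟨k, hk, hke⟩ := exists_refl_pair hF hO B.e₁_mem hm B.e₁_ne B.p₂_ne
  have hvm : hh v (v + (-1 : F) • w') = -1 := by
    simp only [Unit.add_right hf, Unit.smul_right hf, map_neg, map_one, hvF.1, h1']; ring
  have hve : hh v e₁ = 0 := by
    have e : v = (2 : F)⁻¹ • (v + w') + (2 : F)⁻¹ • (v + (-1 : F) • w') := by match_scalars <;> field_simp <;> ring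
    have e' := congrArg (fun y => hh y e₁) e
    beta_reduce at e'
    rw [e', hf.add_left, hf.smul_left, hf.smul_left, hf.herm (v + w') e₁, B.e₁p₁,
      hf.herm (v + (-1 : F) • w') e₁, B.e₁p₂, map_zero, mul_zero, add_zero]
  have hwe : hh w' e₁ = 0 := by
    have e : w' = (2 : F)⁻¹ • (v + w') + (-(2 : F)⁻¹) • (v + (-1 : F) • w') := by
      match_scalars <;> field_simp <;> ring
    have e' := congrArg (fun y => hh y e₁) e
    beta_reduce at e'
    rw [e', hf.add_left, hf.smul_left, hf.smul_left, hf.herm (v + w') e₁, B.e₁p₁,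
      hf.herm (v + (-1 : F) • w') e₁, B.e₁p₂, map_zero, mul_zero, mul_zero, add_zero]
  have hkv : (k : Matrix (Fin n) (Fin n) F) *ᵥ v = w' := by
    rw [hke, hvm, nm, show v + (-2 / -2 * -1 : F) • (v + (-1 : F) • w') = w' by
      rw [neg_div_neg_eq, div_self h2]; module, hwe, mul_zero, zero_smul, add_zero]
  have := full_conj hF hMI hvF (hM hk)
  rw [hkv] at this
  have := full_smul hF this l⁻¹
  rwa [smul_smul, inv_mul_cancel₀ (inv_ne_zero hwv), one_smul] at this

/-- A full rational centre gives everything. -/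
theorem suGL_le_of_rat_full (hn : n = 4) (hq : 5 ≤ q) (hM : subfieldSubgroup F₀ P ⊓ suGL n F q ≤ M)
    (hMI : M ≤ suGL n F q) {v : Fin n → F} (hv : IsRV q P v) (hv0 : v ≠ 0) (hvF : Full q M v) :
    suGL n F q ≤ M := by
  have hf := isUnitaryForm hF (n := n)
  have h2 := hO.two
  have hvv := hvF.1
  obtain ⟨w0, hw0, hvw0, -⟩ := exists_rv_dual hF hO (Fin.elim0 : Fin 0 → (Fin n → F)) (fun j => j.elim0) hv
    (by simpa using hv0)
  obtain ⟨w, hw, hww, hwv, hvw⟩ : ∃ w, IsRV q P w ∧ hh w w = 0 ∧ hh w v = 1 ∧ hh v w = 1 := by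
    have hs : frobEquiv hF (-hh w0 w0 / 2) = -hh w0 w0 / 2 := by
      rw [map_div₀, map_neg, map_ofNat, fixed_herm hF hO hw0 hw0]
    have hwv0 : hh w0 v = 1 := by rw [herm_swap_rv hF hO hv hw0, hvw0]
    refine ⟨w0 + (-hh w0 w0 / 2) • v, hw0.add hF (hv.smul hF hs), ?_, ?_, ?_⟩ <;>
      simp only [hf.add_left, Unit.add_right hf, hf.smul_left, Unit.smul_right hf, hs, hvv, hvw0, hwv0]
    · field_simp
      ring
    · ring
    · ring
  have hwF := full_off hF hO hn hM hMI hv hvF hw hww (by rw [hwv]; exact one_ne_zero)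
  have hhalf : frobEquiv hF (2 : F)⁻¹ = (2 : F)⁻¹ := by rw [map_inv₀, map_ofNat]
  set f₁ := v + (2 : F)⁻¹ • w
  set f₂ := v + (-(2 : F)⁻¹) • w
  have hf₁ : IsRV q P f₁ := hv.add hF (hw.smul hF hhalf)
  have hf₂ : IsRV q P f₂ := hv.add hF (hw.smul hF (by rw [map_neg, hhalf]))
  have n₁ : hh f₁ f₁ = 1 := by
    simp only [f₁, hf.add_left, Unit.add_right hf, hf.smul_left, Unit.smul_right hf, hhalf, hvv, hww, hvw, hwv]
    field_simp; ring
  have n₂ : hh f₂ f₂ = -1 := by
    simp only [f₂, hf.add_left, Unit.add_right hf, hf.smul_left, Unit.smul_right hf, map_neg, hhalf, hvv, hww, hvw,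
      hwv]
    field_simp; ring
  have h21 : hh f₂ f₁ = 0 := by
    simp only [f₁, f₂, hf.add_left, Unit.add_right hf, hf.smul_left, Unit.smul_right hf, hhalf, hvv, hww, hvw, hwv]
    ring
  obtain ⟨e₁, e₂, B⟩ := exists_basis hF hO hn hf₁ hf₂ (by rw [n₁]; exact one_ne_zero)
    (by rw [n₂]; exact neg_ne_zero.2 one_ne_zero) h21
  have hev : ∀ x, hh x f₁ = 0 → hh x f₂ = 0 → hh x v = 0 ∧ hh x w = 0 := fun x h₁ h₃ => by
    simp only [f₁, f₂, Unit.add_right hf, Unit.smul_right hf, hhalf, map_neg] at h₁ h₃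
    have hxv : hh x v = 0 := (mul_eq_zero.1 (show (2 : F) * hh x v = 0 by linear_combination h₁ + h₃)).resolve_left h2
    rw [hxv, zero_add] at h₁
    exact ⟨hxv, (mul_eq_zero.1 h₁).resolve_left (inv_ne_zero h2)⟩
  -- two vectors of length `-1` in the orthogonal plane
  obtain ⟨X, Y, hX, hY, hp, hpp⟩ := exists_value hF hO B.e₁_mem B.e₂_mem B.e₁_ne B.e₂_ne B.e₂e₁ (c := -1)
    (by rw [map_neg, map_one])
  set p := X • e₁ + Y • e₂ with hpdef
  set r0 := (-(Y * hh e₂ e₂)) • e₁ + (X * hh e₁ e₁) • e₂ with hr0def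
  have he12 : hh e₁ e₂ = 0 := by rw [hf.herm, B.e₂e₁, map_zero]
  have hr0 : IsRV q P r0 := (B.e₁_mem.smul hF (by
      rw [map_neg, map_mul, hY, fixed_herm hF hO B.e₂_mem B.e₂_mem])).add hF
    (B.e₂_mem.smul hF (by rw [map_mul, hX, fixed_herm hF hO B.e₁_mem B.e₁_mem]))
  have hpr0 : hh p r0 = 0 := by
    simp only [hpdef, hr0def, hf.add_left, Unit.add_right hf, hf.smul_left, Unit.smul_right hf, map_neg, map_mul, hX,
      hY, fixed_herm hF hO B.e₂_mem B.e₂_mem, fixed_herm hF hO B.e₁_mem B.e₁_mem, he12, B.e₂e₁]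
    ring
  have hr0p : hh r0 p = 0 := by rw [hf.herm, hpr0, map_zero]
  have hnU : hh r0 r0 = -(hh e₁ e₁ * hh e₂ e₂) := by
    simp only [hpdef, hf.add_left, Unit.add_right hf, hf.smul_left, Unit.smul_right hf, hX, hY, he12, B.e₂e₁] at hpp
    simp only [hr0def, hf.add_left, Unit.add_right hf, hf.smul_left, Unit.smul_right hf, map_neg, map_mul, hX, hY,
      fixed_herm hF hO B.e₂_mem B.e₂_mem, fixed_herm hF hO B.e₁_mem B.e₁_mem, he12, B.e₂e₁]
    linear_combination hh e₁ e₁ * hh e₂ e₂ * hpp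
  have hnU0 : hh r0 r0 ≠ 0 := by rw [hnU]; exact neg_ne_zero.2 (mul_ne_zero B.e₁_ne B.e₂_ne)
  obtain ⟨t, ht, ht0, ht1⟩ := exists_sq_ne hF hO hq (hh r0 r0)
  set m := hh r0 r0 * (t * t)
  have hmf : frobEquiv hF m = m := by rw [map_mul, map_mul, ht, fixed_herm hF hO hr0 hr0]
  have h1m : 1 - m ≠ 0 := sub_ne_zero.2 (Ne.symm ht1)
  set x := (1 + m) / (1 - m) with hx
  set y := 2 * t / (1 - m) with hy
  have hxf : frobEquiv hF x = x := by rw [map_div₀, map_add, map_sub, map_one, hmf]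
  have hyf : frobEquiv hF y = y := by rw [map_div₀, map_mul, map_ofNat, ht, map_sub, map_one, hmf]
  set r := x • p + y • r0 with hrdef
  have hr : IsRV q P r := (hp.smul hF hxf).add hF (hr0.smul hF hyf)
  have hrr : hh r r = -1 := by
    simp only [hrdef, hf.add_left, Unit.add_right hf, hf.smul_left, Unit.smul_right hf, hxf, hyf, hpp, hpr0, hr0p]
    simp only [hx, hy]
    field_simp
    simp only [m]
    ring
  have hx1 : x * x - 1 ≠ 0 := by
    intro h
    have h4 : 4 * m = 0 := by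
      rw [hx] at h; field_simp at h; linear_combination h
    rcases mul_eq_zero.1 h4 with h5 | h5
    · exact mul_ne_zero h2 h2 (by linear_combination h5)
    · exact mul_ne_zero hnU0 (mul_ne_zero ht0 ht0) h5
  have hpr : hh p r = -x := by
    simp only [hrdef, Unit.add_right hf, Unit.smul_right hf, hxf, hyf, hpp, hpr0]; ring
  -- orthogonality to the hyperbolic pair
  have hf12 : hh f₁ f₂ = 0 := by rw [hf.herm, h21, map_zero]
  have hcomb : ∀ a b : F, hh (a • e₁ + b • e₂) f₁ = 0 ∧ hh (a • e₁ + b • e₂) f₂ = 0 := fun a b =>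
    ⟨by rw [hf.add_left, hf.smul_left, hf.smul_left, B.e₁p₁, B.e₂p₁, mul_zero, mul_zero, add_zero],
     by rw [hf.add_left, hf.smul_left, hf.smul_left, B.e₁p₂, B.e₂p₂, mul_zero, mul_zero, add_zero]⟩
  obtain ⟨hpf₁, hpf₂⟩ := hcomb X Y
  obtain ⟨hr0f₁, hr0f₂⟩ := hcomb (-(Y * hh e₂ e₂)) (X * hh e₁ e₁)
  rw [← hpdef] at hpf₁ hpf₂
  rw [← hr0def] at hr0f₁ hr0f₂
  have hrf₁ : hh r f₁ = 0 := by rw [hrdef, hf.add_left, hf.smul_left, hf.smul_left, hpf₁, hr0f₁]; ring
  have hf₁r : hh f₁ r = 0 := by rw [hf.herm, hrf₁, map_zero]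
  have hf₁p : hh f₁ p = 0 := by rw [hf.herm, hpf₁, map_zero]
  have hrf₂ : hh r f₂ = 0 := by rw [hrdef, hf.add_left, hf.smul_left, hf.smul_left, hpf₂, hr0f₂]; ring
  have hf₁v : hh f₁ v ≠ 0 := by
    simp only [f₁, hf.add_left, hf.smul_left, hvv, hwv]; simpa using inv_ne_zero h2
  have hfull1 : ∀ z, IsRV q P z → hh z z = -1 → hh z f₁ = 0 → hh z f₂ = 0 → Full q M (f₁ + z) := by
    intro z hz hzz h1 h3
    refine full_off hF hO hn hM hMI hv hvF (hf₁.add hF hz) ?_ ?_
    · simp only [hf.add_left, Unit.add_right hf, n₁, hzz, h1, hf.herm f₁ z, map_zero]; ring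
    · rw [hf.add_left, (hev z h1 h3).1, add_zero]; exact hf₁v
  have hA := hfull1 p hp hpp hpf₁ hpf₂
  have hR := hfull1 r hr hrr hrf₁ hrf₂
  have hR' : Full q M (f₁ + (-1 : F) • r) := by
    refine hfull1 _ (hr.smul hF (by rw [map_neg, map_one])) ?_ ?_ ?_
    · rw [hf.smul_left, Unit.smul_right hf, hrr, map_neg, map_one]; ring
    · rw [hf.smul_left, hrf₁, mul_zero]
    · rw [hf.smul_left, hrf₂, mul_zero]
  have hRR : hh (f₁ + r) (f₁ + (-1 : F) • r) ≠ 0 := by
    simp only [hf.add_left, Unit.add_right hf, Unit.smul_right hf, n₁, hrr, hrf₁, hf₁r, map_neg, map_one]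
    rw [show (1 : F) + -1 * 0 + (0 + -1 * -1) = 2 by ring]
    exact h2
  set q₀ := p + (-x) • r
  have hq₀r : hh q₀ r = 0 := by
    simp only [q₀, hf.add_left, hf.smul_left, hpr, hrr]; ring
  have hq₀f : hh q₀ f₁ = 0 := by simp only [q₀, hf.add_left, hf.smul_left, hpf₁, hrf₁]; ring
  -- isotropic full centres in the orthogonal plane
  have hcentre : ∀ μ : F, μ * frobEquiv hF μ = x * x - 1 → Full q M (μ • r + q₀) := by
    intro μ hμ
    have e1 : ((1 + x) / 2) • (f₁ + r) + ((1 - x) / 2) • (f₁ + (-1 : F) • r) = f₁ + x • r := by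
      match_scalars <;> field_simp <;> ring
    have e2 : (μ / 2) • (f₁ + r) + (-(μ / 2)) • (f₁ + (-1 : F) • r) = μ • r := by
      match_scalars <;> field_simp <;> ring
    have hn2 : hh (μ • r) (μ • r) = 1 - x * x := by
      rw [hf.smul_left, Unit.smul_right hf, hrr]; linear_combination -hμ
    obtain ⟨d, hd, hdz, hdfix⟩ := plane_move hF hR hR' hRR (z₁ := (1 + x) / 2) (z₂ := (1 - x) / 2) (w₁ := μ / 2)
      (w₂ := -(μ / 2))
      (by
        rw [e1, e2, hn2]
        simp only [hf.add_left, Unit.add_right hf, hf.smul_left, Unit.smul_right hf, hxf, n₁, hrr, hrf₁, hf₁r]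
        ring)
      (by rw [e2, hn2]; exact fun h => hx1 (by linear_combination -h))
    rw [e1, e2] at hdz
    have h1 := full_conj hF hMI hA hd
    rwa [show f₁ + p = (f₁ + x • r) + q₀ by simp only [q₀]; module, Matrix.mulVec_add, hdz, hdfix q₀
      (by rw [Unit.add_right hf, hq₀f, hq₀r, add_zero])
      (by rw [Unit.add_right hf, Unit.smul_right hf, hq₀f, hq₀r, mul_zero, add_zero])] at h1
  obtain ⟨μ, hμ⟩ := Unit.exists_norm_eq hf.ne_refl hf.involutive (t := x * x - 1)
    (by rw [map_sub, map_mul, hxf, map_one])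
  obtain ⟨l, hl, hl'⟩ := exists_norm_one hF
  have hl1 : l ≠ 1 := fun e => hl' (by rw [e, one_pow])
  have hμ' : l * μ * frobEquiv hF (l * μ) = x * x - 1 := by
    rw [map_mul, frobEquiv_apply hF l]; linear_combination (μ * frobEquiv hF μ) * hl + hμ
  set a := μ • r + q₀
  set b := (l * μ) • r + q₀
  have haF : Full q M a := hcentre μ hμ
  have hbF : Full q M b := hcentre _ hμ'
  have hσq : hh r q₀ = 0 := by rw [hf.herm, hq₀r, map_zero]
  have hqq : hh q₀ q₀ = x * x - 1 := by
    simp only [q₀, hf.add_left, Unit.add_right hf, hf.smul_left, Unit.smul_right hf, map_neg, hxf, hpp, hrr, hpr,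
      herm_swap_rv hF hO hp hr]
    ring
  have hab : hh a b ≠ 0 := by
    simp only [a, b, hf.add_left, Unit.add_right hf, hf.smul_left, Unit.smul_right hf, hrr, hσq, hq₀r, hqq, map_mul]
    intro h
    have h3 : (x * x - 1) * (1 - frobEquiv hF l) = 0 := by linear_combination h + frobEquiv hF l * hμ
    refine hl1 ((frobEquiv hF).injective ?_)
    rw [map_one]
    exact (sub_eq_zero.1 ((mul_eq_zero.1 h3).resolve_left hx1)).symm
  obtain ⟨hq₀v, hq₀w⟩ : hh q₀ v = 0 ∧ hh q₀ w = 0 :=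
    hev q₀ hq₀f (by simp only [q₀, hf.add_left, hf.smul_left, hpf₂, hrf₂]; ring)
  obtain ⟨hrv, hrw⟩ := hev r hrf₁ hrf₂
  have hav : hh a v = 0 := by simp only [a, hf.add_left, hf.smul_left, hq₀v, hrv]; ring
  have haw : hh a w = 0 := by simp only [a, hf.add_left, hf.smul_left, hq₀w, hrw]; ring
  have hbv : hh b v = 0 := by simp only [b, hf.add_left, hf.smul_left, hq₀v, hrv]; ring
  have hbw : hh b w = 0 := by simp only [b, hf.add_left, hf.smul_left, hq₀w, hrw]; ring
  -- coordinates in the orthogonal plane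
  have hli : LinearIndependent F ![v, w, a, b] := Fintype.linearIndependent_iff.2 fun c hc i => by
    simp only [Fin.sum_univ_four, Matrix.cons_val_zero, Matrix.cons_val_one, Matrix.cons_val] at hc
    have h0 : ∀ z, hh (0 : Fin n → F) z = 0 :=
      LinLeft.zero_left ⟨CfsgLib.Unitary.herm_add_left n, CfsgLib.Unitary.herm_smul_left n⟩
    have g0 := congrArg (fun z => hh z w) hc
    have g1 := congrArg (fun z => hh z v) hc
    have g2 := congrArg (fun z => hh z b) hc
    have g3 := congrArg (fun z => hh z a) hc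
    simp only [hf.add_left, hf.smul_left, h0, hvv, hww, hvw, hwv, hav, haw, hbv, hbw, haF.1, hbF.1, hf.herm v a,
      hf.herm w a, hf.herm v b, hf.herm w b, map_zero, mul_zero, mul_one, add_zero, zero_add]
      at g0 g1 g2 g3
    have c2 := (mul_eq_zero.1 g2).resolve_right hab
    have c3 := (mul_eq_zero.1 g3).resolve_right (fun e => hab (by rw [hf.herm, e, map_zero]))
    fin_cases i <;> assumption
  have hspan : ∀ z, hh z v = 0 →
      z = hh z w • v + ((hh z b / hh a b) • a + (hh z a / hh b a) • b) := fun z hz => by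
    have hba : hh b a ≠ 0 := by rw [hf.herm, map_ne_zero]; exact hab
    refine sub_eq_zero.1 (eq_zero_of_orth hF hn hli fun i => ?_)
    rw [sub_eq_add_neg, ← neg_one_smul F (hh z w • v + _), hf.add_left, hf.smul_left]
    have hva : hh v a = 0 := by rw [hf.herm, hav, map_zero]
    have hwa : hh w a = 0 := by rw [hf.herm, haw, map_zero]
    have hvb : hh v b = 0 := by rw [hf.herm, hbv, map_zero]
    have hwb : hh w b = 0 := by rw [hf.herm, hbw, map_zero]
    fin_cases i <;>
      simp [hf.add_left, hf.smul_left, hz, hvv, hvw, hav, haw, hbv, hbw, haF.1, hbF.1, hva, hvb, hwa, hwb, hab, hba]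
  -- anisotropic vector parts
  have hrat : ∀ z, IsRV q P z → hh z v = 0 → VP q M v z := fun z hz hzv => by
    obtain ⟨A, hA, hE⟩ := exists_rat_eich hF hO hv hz hvv hzv
    exact ⟨hzv, A, hM hA, _, hE⟩
  have haniso : ∀ z, hh z v = 0 → hh z w = 0 → hh z z ≠ 0 → VP q M v z := by
    intro z hzv hzw hzz
    obtain ⟨X', Y', -, -, hs, hss⟩ := exists_value hF hO B.e₁_mem B.e₂_mem B.e₁_ne B.e₂_ne B.e₂e₁ (c := hh z z)
      (by rw [frobEquiv_apply hF]; exact herm_self_pow hF z)
    obtain ⟨hsv, hsw⟩ := hev _ (hcomb X' Y').1 (hcomb X' Y').2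
    have ez := hspan z hzv
    rw [hzw, zero_smul, zero_add] at ez
    have es := hspan _ hsv
    rw [hsw, zero_smul, zero_add] at es
    obtain ⟨d, hd, hdz, hdfix⟩ := plane_move hF haF hbF hab (z₁ := hh (X' • e₁ + Y' • e₂) b / hh a b)
      (z₂ := hh (X' • e₁ + Y' • e₂) a / hh b a) (w₁ := hh z b / hh a b) (w₂ := hh z a / hh b a)
      (by rw [← es, ← ez]; exact hss) (by rw [← ez]; exact hzz)
    rw [← es, ← ez] at hdz
    have h1 := (hrat _ hs hsv).conj hMI hd
    rwa [hdfix v (by rw [hf.herm, hav, map_zero]) (by rw [hf.herm, hbv, map_zero]), hdz] at h1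
  have hU : ∀ z, hh z v = 0 → hh z w = 0 → VP q M v z := by
    intro z hzv hzw
    by_cases hzz : hh z z = 0
    · obtain ⟨hev1, hew1⟩ := hev e₁ B.e₁p₁ B.e₁p₂
      have hs : ∀ s : F, s * s = 1 → frobEquiv hF s = s → hh (z + s • e₁) (z + s • e₁) ≠ 0 → VP q M v z := by
        intro s hs1 hsf hne
        have h1 := haniso (z + s • e₁) (by rw [hf.add_left, hf.smul_left, hzv, hev1, mul_zero, add_zero])
          (by rw [hf.add_left, hf.smul_left, hzw, hew1, mul_zero, add_zero]) hne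
        have h3 := hrat _ (B.e₁_mem.smul hF (show frobEquiv hF (-s) = -s by rw [map_neg, hsf]))
          (by rw [hf.smul_left, hev1, mul_zero])
        have h4 := h1.add hF hvv h3
        rwa [show z + s • e₁ + (-s) • e₁ = z by module] at h4
      by_cases h1 : hh (z + (1 : F) • e₁) (z + (1 : F) • e₁) = 0
      · refine hs (-1) (by ring) (by rw [map_neg, map_one]) fun h3 => B.e₁_ne ?_
        simp only [hf.add_left, Unit.add_right hf, hf.smul_left, Unit.smul_right hf, map_neg, map_one, hzz] at h1 h3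
        exact (mul_eq_zero.1 (show (2 : F) * hh e₁ e₁ = 0 by linear_combination h1 + h3)).resolve_left h2
      · exact hs 1 (one_mul 1) (map_one _) h1
    · exact haniso z hzv hzw hzz
  refine suGL_le_of_vp hF (by omega) hMI hvF hwF (by rw [hwv]; exact one_ne_zero) fun z hz => ?_
  rw [hspan z hz]
  refine (VP.centre hF hvv _).add hF hvv (hU _ ?_ ?_)
  · rw [hf.add_left, hf.smul_left, hf.smul_left, hav, hbv]; ring
  · rw [hf.add_left, hf.smul_left, hf.smul_left, haw, hbw]; ring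

/-- An isotropic vector off a rational plane in an orthogonal basis of its plane. -/
lemma exists_plane {a : Fin n → F} (haa : hh a a = 0) (hβ : hh a (kap q P a) ≠ 0) :
    ∃ p₁ p₂ m m', IsRV q P p₁ ∧ IsRV q P p₂ ∧ hh p₁ p₁ ≠ 0 ∧ hh p₂ p₂ ≠ 0 ∧ hh p₂ p₁ = 0 ∧
      m ≠ 0 ∧ m' ≠ 0 ∧ a = m • p₁ + m' • p₂ ∧ kap q P a = frobEquiv hF m • p₁ + frobEquiv hF m' • p₂ := by
  have hf := isUnitaryForm hF (n := n)
  have h2 := hO.two
  obtain ⟨δ, hδ0, hδ⟩ := exists_delta hF
  obtain ⟨a₁, a₂, ha₁, ha₂, ea, eka, -, -⟩ := exists_parts hF hO hδ0 hδ a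
  have f11 := fixed_herm hF hO ha₁ ha₁
  have f12 := fixed_herm hF hO ha₁ ha₂
  have hsw := herm_swap_rv hF hO ha₁ ha₂
  have hA := haa
  have hB := hβ
  rw [eka, ea] at hB
  rw [ea] at hA
  simp only [sub_eq_add_neg, ← neg_smul, hf.add_left, Unit.add_right hf, hf.smul_left, Unit.smul_right hf, map_neg,
    hδ, neg_neg, hsw] at hA hB
  set h11 := hh a₁ a₁
  set h12 := hh a₁ a₂
  set h22 := hh a₂ a₂
  have hN : h11 * h22 - h12 * h12 ≠ 0 := by
    intro hN
    apply hB
    have e : (h11 + δ * h12) * (h11 - δ * h12) = 0 := by linear_combination h11 * hA + δ * δ * hN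
    rcases mul_eq_zero.1 e with e' | e'
    · linear_combination 2 * e' - hA
    · have := congrArg (frobEquiv hF) e'
      rw [map_sub, map_mul, hδ, f11, f12, map_zero] at this
      linear_combination 2 * this - hA
  by_cases h11z : h11 = 0
  · have h22z : h22 = 0 := by
      rw [h11z] at hA
      exact (mul_eq_zero.1 (show δ * δ * h22 = 0 by linear_combination -hA)).resolve_left (mul_ne_zero hδ0 hδ0)
    have h12n : h12 ≠ 0 := fun e => hN (by rw [h11z, e]; ring)
    have hm : ∀ s : F, s * s = 1 → (1 + s * δ) / 2 ≠ 0 := fun s hs h => by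
      rw [div_eq_zero_iff] at h
      have h' := h.resolve_right h2
      have h'' := congrArg (frobEquiv hF) h'
      rw [map_add, map_mul, map_one, hδ, map_zero] at h''
      rcases mul_self_eq_one_iff.1 hs with rfl | rfl
      · rw [map_one] at h''; exact h2 (by linear_combination h' + h'')
      · rw [map_neg, map_one] at h''; exact h2 (by linear_combination h' + h'')
    refine ⟨a₁ + a₂, a₁ - a₂, (1 + 1 * δ) / 2, (1 + -1 * δ) / 2, ha₁.add hF ha₂, ha₁.sub hF ha₂, ?_, ?_, ?_,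
      hm 1 (one_mul 1), hm (-1) (by ring), ?_, ?_⟩
    · simp only [hf.add_left, Unit.add_right hf, hsw]
      rw [show h11 + h12 + (h12 + h22) = 2 * h12 by rw [h11z, h22z]; ring]
      exact mul_ne_zero h2 h12n
    · simp only [sub_eq_add_neg, ← neg_one_smul F a₂, hf.add_left, Unit.add_right hf, hf.smul_left,
        Unit.smul_right hf, map_neg, map_one, hsw]
      rw [show h11 + -1 * h12 + (-1 * h12 + -1 * (-1 * h22)) = -(2 * h12) by rw [h11z, h22z]; ring]
      exact neg_ne_zero.2 (mul_ne_zero h2 h12n)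
    · simp only [sub_eq_add_neg, ← neg_one_smul F a₂, hf.add_left, Unit.add_right hf, hf.smul_left, hsw]
      linear_combination h11z - h22z
    · rw [ea]; match_scalars <;> field_simp <;> ring
    · rw [eka, map_div₀, map_div₀, map_add, map_add, map_mul, map_mul, map_one, map_neg, map_one, map_ofNat, hδ]
      match_scalars <;> field_simp <;> ring
  · set c := h12 / h11
    have hcf : frobEquiv hF (-c) = -c := by rw [map_neg, map_div₀, f11, f12]
    refine ⟨a₁, a₂ + (-c) • a₁, 1 + δ * c, δ, ha₁, ha₂.add hF (ha₁.smul hF hcf), h11z, ?_, ?_, ?_, hδ0, ?_, ?_⟩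
    · simp only [hf.add_left, Unit.add_right hf, hf.smul_left, Unit.smul_right hf, hcf, hsw]
      intro h
      refine hN ?_
      have hc : c * h11 = h12 := div_mul_cancel₀ _ h11z
      linear_combination h11 * h + (h12 - c * h11) * hc
    · simp only [hf.add_left, hf.smul_left, hsw]
      rw [neg_mul, show c * h11 = h12 from div_mul_cancel₀ _ h11z]; ring
    · intro h
      have h' := congrArg (frobEquiv hF) h
      rw [map_add, map_mul, map_one, hδ, show frobEquiv hF c = c by rw [map_div₀, f11, f12], map_zero] at h'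
      exact h2 (by linear_combination h + h')
    · rw [ea]; module
    · rw [eka, map_add, map_mul, map_one, hδ, show frobEquiv hF c = c by rw [map_div₀, f11, f12]]; module

/-- A full centre spanning a non-degenerate rational plane gives everything. -/
theorem suGL_le_of_full_off (hn : n = 4) (hq : 5 ≤ q) (hM : subfieldSubgroup F₀ P ⊓ suGL n F q ≤ M)
    (hMI : M ≤ suGL n F q) {a : Fin n → F} (ha : Full q M a) (hβ : hh a (kap q P a) ≠ 0) : suGL n F q ≤ M := by
  have hf := isUnitaryForm hF (n := n)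
  have h2 := hO.two
  obtain ⟨p₁, p₂, m, m', h₁, h₃, n₁, n₂, h21, hm, hm', ea, -⟩ := exists_plane hF hO ha.1 hβ
  obtain ⟨e₁, e₂, B⟩ := exists_basis hF hO hn h₁ h₃ n₁ n₂ h21
  have h12 : hh p₁ p₂ = 0 := by rw [hf.herm, h21, map_zero]
  have he12 : hh e₁ e₂ = 0 := by rw [hf.herm, B.e₂e₁, map_zero]
  have hm2 : m * frobEquiv hF m * hh p₁ p₁ + m' * frobEquiv hF m' * hh p₂ p₂ = 0 := by
    have := ha.1
    rw [ea] at this
    simp only [hf.add_left, Unit.add_right hf, hf.smul_left, Unit.smul_right hf, h21, h12] at this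
    linear_combination this
  obtain ⟨X, Y, hX, hY, he, hee⟩ := exists_value hF hO B.e₁_mem B.e₂_mem B.e₁_ne B.e₂_ne B.e₂e₁ (c := hh p₂ p₂)
    (fixed_herm hF hO h₃ h₃)
  set e := X • e₁ + Y • e₂ with hedef
  set e' := (-(Y * hh e₂ e₂)) • e₁ + (X * hh e₁ e₁) • e₂ with he'def
  have he' : IsRV q P e' := (B.e₁_mem.smul hF (by
      rw [map_neg, map_mul, hY, fixed_herm hF hO B.e₂_mem B.e₂_mem])).add hF
    (B.e₂_mem.smul hF (by rw [map_mul, hX, fixed_herm hF hO B.e₁_mem B.e₁_mem]))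
  have hee' : hh e e' = 0 := by
    simp only [hedef, he'def, hf.add_left, Unit.add_right hf, hf.smul_left, Unit.smul_right hf, map_neg, map_mul, hX,
      hY, fixed_herm hF hO B.e₂_mem B.e₂_mem, fixed_herm hF hO B.e₁_mem B.e₁_mem, he12, B.e₂e₁]
    ring
  have he'0 : hh e' e' = hh p₂ p₂ * (hh e₁ e₁ * hh e₂ e₂) := by
    simp only [hedef, hf.add_left, Unit.add_right hf, hf.smul_left, Unit.smul_right hf, hX, hY, he12, B.e₂e₁] at hee
    simp only [he'def, hf.add_left, Unit.add_right hf, hf.smul_left, Unit.smul_right hf, map_neg, map_mul, hX, hY,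
      fixed_herm hF hO B.e₂_mem B.e₂_mem, fixed_herm hF hO B.e₁_mem B.e₁_mem, he12, B.e₂e₁]
    linear_combination hh e₁ e₁ * hh e₂ e₂ * hee
  have hU : ∀ a b : F, hh (a • e₁ + b • e₂) p₁ = 0 ∧ hh (a • e₁ + b • e₂) p₂ = 0 := fun a b =>
    ⟨by rw [hf.add_left, hf.smul_left, hf.smul_left, B.e₁p₁, B.e₂p₁, mul_zero, mul_zero, add_zero],
     by rw [hf.add_left, hf.smul_left, hf.smul_left, B.e₁p₂, B.e₂p₂, mul_zero, mul_zero, add_zero]⟩
  obtain ⟨hep₁, hep₂⟩ := hU X Y
  obtain ⟨he'p₁, he'p₂⟩ := hU (-(Y * hh e₂ e₂)) (X * hh e₁ e₁)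
  rw [← hedef] at hep₁ hep₂
  rw [← he'def] at he'p₁ he'p₂
  have hp₁e : hh p₁ e = 0 := by rw [hf.herm, hep₁, map_zero]
  have hp₂e : hh p₂ e = 0 := by rw [hf.herm, hep₂, map_zero]
  have hp₁e' : hh p₁ e' = 0 := by rw [hf.herm, he'p₁, map_zero]
  have hp₂e' : hh p₂ e' = 0 := by rw [hf.herm, he'p₂, map_zero]
  -- exchanging `p₂` and `e`
  have hd0 : hh (p₂ + (-1 : F) • e) (p₂ + (-1 : F) • e) = 2 * hh p₂ p₂ := by
    simp only [hf.add_left, Unit.add_right hf, hf.smul_left, Unit.smul_right hf, map_neg, map_one, hee, hep₂, hp₂e]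
    ring
  obtain ⟨x, hx, hxe⟩ := exists_refl_pair hF hO he' (h₃.add hF (he.smul hF (by rw [map_neg, map_one])))
    (by rw [he'0]; exact mul_ne_zero n₂ (mul_ne_zero B.e₁_ne B.e₂_ne)) (by rw [hd0]; exact mul_ne_zero h2 n₂)
  have hx₁ : (x : Matrix (Fin n) (Fin n) F) *ᵥ p₁ = p₁ := by
    have e1 : hh p₁ (p₂ + (-1 : F) • e) = 0 := by
      rw [Unit.add_right hf, Unit.smul_right hf, h12, hp₁e]; ring
    rw [hxe, e1, mul_zero, zero_smul, add_zero, hp₁e', mul_zero, zero_smul, add_zero]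
  have hx₂ : (x : Matrix (Fin n) (Fin n) F) *ᵥ p₂ = e := by
    have e1 : hh p₂ (p₂ + (-1 : F) • e) = hh p₂ p₂ := by
      rw [Unit.add_right hf, Unit.smul_right hf, hp₂e]; ring
    have e2 : p₂ + (-2 / (2 * hh p₂ p₂) * hh p₂ p₂) • (p₂ + (-1 : F) • e) = e := by
      rw [show -2 / (2 * hh p₂ p₂) * hh p₂ p₂ = -1 by field_simp]; module
    rw [hxe, hd0, e1, e2, hee', mul_zero, zero_smul, add_zero]
  have hb' := full_conj hF hMI ha (hM hx)
  rw [ea, Matrix.mulVec_add, Matrix.mulVec_smul, Matrix.mulVec_smul, hx₁, hx₂] at hb'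
  -- the second centre of the plane
  obtain ⟨y, hy, hye⟩ := exists_refl_pair hF hO B.e₁_mem h₁ B.e₁_ne n₁
  have hy₁ : (y : Matrix (Fin n) (Fin n) F) *ᵥ p₁ = (-1 : F) • p₁ := by
    have e1 : p₁ + (-2 / hh p₁ p₁ * hh p₁ p₁) • p₁ = (-1 : F) • p₁ := by
      rw [div_mul_cancel₀ _ n₁]; module
    rw [hye, e1, hf.smul_left, show hh p₁ e₁ = 0 by rw [hf.herm, B.e₁p₁, map_zero], mul_zero, mul_zero, zero_smul,
      add_zero]
  have hy₂ : (y : Matrix (Fin n) (Fin n) F) *ᵥ p₂ = p₂ := by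
    rw [hye, h21, mul_zero, zero_smul, add_zero, show hh p₂ e₁ = 0 by rw [hf.herm, B.e₁p₂, map_zero], mul_zero,
      zero_smul, add_zero]
  have hb := full_conj hF hMI ha (hM hy)
  rw [ea, Matrix.mulVec_add, Matrix.mulVec_smul, Matrix.mulVec_smul, hy₁, hy₂] at hb
  set b := m • ((-1 : F) • p₁) + m' • p₂
  have hab : hh a b ≠ 0 := by
    rw [ea]
    simp only [b, hf.add_left, Unit.add_right hf, hf.smul_left, Unit.smul_right hf, h21, h12, map_neg, map_one]
    intro h
    have : 2 * (m' * frobEquiv hF m' * hh p₂ p₂) = 0 := by linear_combination h + hm2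
    exact mul_ne_zero h2 (mul_ne_zero (mul_ne_zero hm' ((map_ne_zero _).2 hm')) n₂) this
  obtain ⟨X', Y', -, -, hr, hrr⟩ := exists_value hF hO h₁ h₃ n₁ n₂ h21 (c := -hh p₂ p₂)
    (by rw [map_neg, fixed_herm hF hO h₃ h₃])
  set r := X' • p₁ + Y' • p₂
  have ew : (m' / m * X' / (2 * m) + m' / m * Y' / (2 * m')) • a + (m' / m * Y' / (2 * m') - m' / m * X' / (2 * m)) • b =
      (m' / m) • r := by
    simp only [b, r, ea]
    match_scalars <;> field_simp <;> ring
  have ez : (1 / (2 * m)) • a + (-(1 / (2 * m))) • b = p₁ := by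
    simp only [b, ea]
    match_scalars <;> field_simp <;> ring
  have hnw : hh ((m' / m) • r) ((m' / m) • r) = hh p₁ p₁ := by
    have hσm := (map_ne_zero (frobEquiv hF)).2 hm
    rw [hf.smul_left, Unit.smul_right hf, hrr, map_div₀]
    field_simp
    linear_combination -hm2
  obtain ⟨d, hd, hdz, hdfix⟩ := plane_move hF ha hb hab (z₁ := 1 / (2 * m)) (z₂ := -(1 / (2 * m)))
    (w₁ := m' / m * X' / (2 * m) + m' / m * Y' / (2 * m'))
    (w₂ := m' / m * Y' / (2 * m') - m' / m * X' / (2 * m))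
    (by rw [ew, ez, hnw]) (by rw [ew, hnw]; exact n₁)
  rw [ew, ez] at hdz
  have hde : (d : Matrix (Fin n) (Fin n) F) *ᵥ e = e := hdfix e
    (by rw [ea, Unit.add_right hf, Unit.smul_right hf, Unit.smul_right hf, hep₁, hep₂]; ring)
    (by simp only [b, Unit.add_right hf, Unit.smul_right hf, hep₁, hep₂]; ring)
  have hfin := full_smul hF (full_conj hF hMI hb' hd) m'⁻¹
  rw [Matrix.mulVec_add, Matrix.mulVec_smul, Matrix.mulVec_smul, hdz, hde, smul_smul, mul_div_cancel₀ _ hm, smul_add,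
    smul_smul, smul_smul, inv_mul_cancel₀ hm', one_smul, one_smul] at hfin
  refine suGL_le_of_rat_full hF hO hn hq hM hMI (hr.add hF he) (fun h => n₂ ?_) hfin
  have h3 := congrArg (fun z => hh z e) h
  simp only [r, hf.add_left, hf.smul_left, hp₁e, hp₂e, hee, mul_zero, add_zero, zero_add,
    LinLeft.zero_left ⟨CfsgLib.Unitary.herm_add_left n, CfsgLib.Unitary.herm_smul_left n⟩] at h3
  exact h3

end CfsgLib.Geo.SUFour
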