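/-
Rational hyperbolic frames of an odd-degree subfield structure on a unitary space of dimension four.
-/
import Cfsg.Agent.Geo.UnitSubfieldParabolic

set_option autoImplicit false

namespace CfsgLib.Geo.SUFour

open Matrix Cfsg Cfsg.Geo CfsgLib.Geo CfsgLib.Geo.UTv

variable {n q : ℕ} {F : Type*} [Field F] {F₀ : Subfield F} {P : GL (Fin n) F}

local notation "hh" => Cfsg.hermForm n F q

/-- Two orthogonal rational hyperbolic pairs. -/
structure RFrame (q : ℕ) (F₀ : Subfield F) (P : GL (Fin n) F) (v v' u u' : Fin n → F) : Prop where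
  v_mem : InRS F₀ P v
  v'_mem : InRS F₀ P v'
  u_mem : InRS F₀ P u
  u'_mem : InRS F₀ P u'
  vv : Cfsg.hermForm n F q v v = 0
  v'v' : Cfsg.hermForm n F q v' v' = 0
  uu : Cfsg.hermForm n F q u u = 0
  u'u' : Cfsg.hermForm n F q u' u' = 0
  vv' : Cfsg.hermForm n F q v v' = 1
  uu' : Cfsg.hermForm n F q u u' = 1
  uv : Cfsg.hermForm n F q u v = 0
  uv' : Cfsg.hermForm n F q u v' = 0
  u'v : Cfsg.hermForm n F q u' v = 0
  u'v' : Cfsg.hermForm n F q u' v' = 0

variable [Finite F] (hF : Nat.card F = q ^ 2) (hS : UnitSub n q F F₀ P) {v v' u u' : Fin n → F}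
  (fr : RFrame q F₀ P v v' u u')

include hF

section
include fr

lemma RFrame.v'v : hh v' v = 1 := by rw [(isUnitaryForm hF).herm, fr.vv', map_one]
lemma RFrame.u'u : hh u' u = 1 := by rw [(isUnitaryForm hF).herm, fr.uu', map_one]
lemma RFrame.vu : hh v u = 0 := by rw [(isUnitaryForm hF).herm, fr.uv, map_zero]
lemma RFrame.v'u : hh v' u = 0 := by rw [(isUnitaryForm hF).herm, fr.uv', map_zero]
lemma RFrame.vu' : hh v u' = 0 := by rw [(isUnitaryForm hF).herm, fr.u'v, map_zero]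
lemma RFrame.v'u' : hh v' u' = 0 := by rw [(isUnitaryForm hF).herm, fr.u'v', map_zero]

lemma RFrame.swap : RFrame q F₀ P v v' u' u :=
  ⟨fr.v_mem, fr.v'_mem, fr.u'_mem, fr.u_mem, fr.vv, fr.v'v', fr.u'u', fr.uu, fr.vv', fr.u'u hF, fr.u'v, fr.u'v',
    fr.uv, fr.uv'⟩

lemma RFrame.flip : RFrame q F₀ P u u' v v' :=
  ⟨fr.u_mem, fr.u'_mem, fr.v_mem, fr.v'_mem, fr.uu, fr.u'u', fr.vv, fr.v'v', fr.uu', fr.vv', fr.vu hF, fr.vu' hF,
    fr.v'u hF, fr.v'u' hF⟩

/-- The coordinates in a frame. -/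
lemma RFrame.expand (hn : n = 4) (x : Fin n → F) :
    x = hh x v' • v + hh x v • v' + hh x u' • u + hh x u • u' := by
  have hf := isUnitaryForm hF (n := n)
  have hli : LinearIndependent F ![v, v', u, u'] := Fintype.linearIndependent_iff.2 fun c hc i => by
    simp only [Fin.sum_univ_four, Matrix.cons_val_zero, Matrix.cons_val_one, Matrix.cons_val] at hc
    have h0 : ∀ y, hh (0 : Fin n → F) y = 0 :=
      LinLeft.zero_left ⟨CfsgLib.Unitary.herm_add_left n, CfsgLib.Unitary.herm_smul_left n⟩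
    have e0 := congrArg (fun y => hh y v') hc
    have e1 := congrArg (fun y => hh y v) hc
    have e2 := congrArg (fun y => hh y u') hc
    have e3 := congrArg (fun y => hh y u) hc
    simp only [hf.add_left, hf.smul_left, h0, fr.vv, fr.v'v', fr.uu, fr.u'u', fr.vv', fr.uu', fr.uv, fr.uv', fr.u'v,
      fr.u'v', fr.v'v hF, fr.u'u hF, fr.vu hF, fr.v'u hF, fr.vu' hF, fr.v'u' hF, mul_zero, mul_one, add_zero,
      zero_add] at e0 e1 e2 e3
    fin_cases i <;> assumption
  have htop : Submodule.span F (Set.range ![v, v', u, u']) = ⊤ :=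
    hli.span_eq_top_of_card_eq_finrank (by rw [Module.finrank_fin_fun, Fintype.card_fin, hn])
  obtain ⟨c, hc⟩ := (Submodule.mem_span_range_iff_exists_fun F).1 (htop ▸ Submodule.mem_top : x ∈ _)
  simp only [Fin.sum_univ_four, Matrix.cons_val_zero, Matrix.cons_val_one, Matrix.cons_val] at hc
  have e0 := congrArg (fun y => hh y v') hc
  have e1 := congrArg (fun y => hh y v) hc
  have e2 := congrArg (fun y => hh y u') hc
  have e3 := congrArg (fun y => hh y u) hc
  simp only [hf.add_left, hf.smul_left, fr.vv, fr.v'v', fr.uu, fr.u'u', fr.vv', fr.uu', fr.uv, fr.uv', fr.u'v,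
    fr.u'v', fr.v'v hF, fr.u'u hF, fr.vu hF, fr.v'u hF, fr.vu' hF, fr.v'u' hF, mul_zero, mul_one, add_zero,
    zero_add] at e0 e1 e2 e3
  rw [← e0, ← e1, ← e2, ← e3, hc]

end

omit hF [Finite F] in
/-- A rational vector outside a proper subspace. -/
lemma exists_rs_outside (P : GL (Fin n) F) (F₀ : Subfield F) {S : Submodule F (Fin n → F)}
    (hd : Module.finrank F S < n) : ∃ e, InRS F₀ P e ∧ e ∉ S := by
  by_contra hcon
  push Not at hcon
  have htop : S = ⊤ := eq_top_iff.2 fun x _ => by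
    rw [eq_sum_cols (P := P) x]
    exact Submodule.sum_mem _ fun i _ => S.smul_mem _ (hcon _ (inRS_col i))
  rw [htop, finrank_top, Module.finrank_fin_fun] at hd
  exact lt_irrefl _ hd

include hS

/-- A rational hyperbolic pair orthogonal to a given one. -/
lemma exists_perp_pair (hn : 4 ≤ n) (hv : InRS F₀ P v) (hv' : InRS F₀ P v') (hvv : hh v v = 0) (hv'v' : hh v' v' = 0)
    (hvv' : hh v v' = 1) : ∃ u u', RFrame q F₀ P v v' u u' := by
  classical
  have hf := isUnitaryForm hF (n := n)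
  have hv'v : hh v' v = 1 := by rw [hf.herm, hvv', map_one]
  let pr : (Fin n → F) → (Fin n → F) := fun e => e + (-hh e v') • v + (-hh e v) • v'
  have hpr : ∀ e, InRS F₀ P e → InRS F₀ P (pr e) ∧ hh (pr e) v = 0 ∧ hh (pr e) v' = 0 := fun e he =>
    ⟨(he.add (hv.smul (F₀.neg_mem (herm_mem hS he hv')))).add (hv'.smul (F₀.neg_mem (herm_mem hS he hv))),
      by simp [pr, -neg_smul, hf.add_left, hf.smul_left, hvv, hv'v], by simp [pr, -neg_smul, hf.add_left, hf.smul_left, hvv', hv'v']⟩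
  have hback : ∀ e, e = pr e + hh e v' • v + hh e v • v' := fun e => by simp only [pr]; module
  have hcard : ∀ {k : ℕ} (us : Fin k → (Fin n → F)), k < n → Module.finrank F (Submodule.span F (Set.range us)) < n :=
    fun {k} us hk => lt_of_le_of_lt (finrank_range_le_card us) (by rwa [Fintype.card_fin])
  obtain ⟨e₁, he₁, hne₁⟩ := exists_rs_outside P F₀ (hcard ![v, v'] (by omega))
  obtain ⟨h1, h1v, h1v'⟩ := hpr e₁ he₁
  have h10 : pr e₁ ≠ 0 := fun e => hne₁ (by
    rw [hback e₁, e, zero_add]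
    exact Submodule.add_mem _ (Submodule.smul_mem _ _ (Submodule.subset_span ⟨0, rfl⟩))
      (Submodule.smul_mem _ _ (Submodule.subset_span ⟨1, rfl⟩)))
  obtain ⟨e₂, he₂, hne₂⟩ := exists_rs_outside P F₀ (hcard ![v, v', pr e₁] (by omega))
  obtain ⟨h2, h2v, h2v'⟩ := hpr e₂ he₂
  obtain ⟨a, b, hu, hu0, huu⟩ := exists_rs_isotropic hF hS h1 h2 h10 fun h => hne₂ (by
    obtain ⟨c, hc⟩ := Submodule.mem_span_singleton.1 h
    rw [hback e₂, ← hc]
    exact Submodule.add_mem _ (Submodule.add_mem _ (Submodule.smul_mem _ _ (Submodule.subset_span ⟨2, rfl⟩))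
      (Submodule.smul_mem _ _ (Submodule.subset_span ⟨0, rfl⟩))) (Submodule.smul_mem _ _ (Submodule.subset_span ⟨1, rfl⟩)))
  set u := a • pr e₁ + b • pr e₂
  have huv : hh u v = 0 := by simp [u, hf.add_left, hf.smul_left, h1v, h2v]
  have huv' : hh u v' = 0 := by simp [u, hf.add_left, hf.smul_left, h1v', h2v']
  obtain ⟨u', hu', hu'u', huu', -, hu'v⟩ := exists_iso_dual hF hS ![v, v'] (Fin.forall_fin_two.2 ⟨hv, hv'⟩) hu huu
    (Fin.forall_fin_two.2 ⟨huv, huv'⟩) (fun h => by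
      obtain ⟨c, hc⟩ := (Submodule.mem_span_range_iff_exists_fun F).1 h
      simp only [Fin.sum_univ_two, Matrix.cons_val_zero, Matrix.cons_val_one] at hc
      have e0 := congrArg (fun y => hh y v') hc
      have e1 := congrArg (fun y => hh y v) hc
      simp only [hf.add_left, hf.smul_left, hvv, hvv', hv'v, hv'v', huv, huv', mul_zero, mul_one, add_zero,
        zero_add] at e0 e1
      exact hu0 (by rw [← hc, e0, e1, zero_smul, zero_smul, add_zero]))
  exact ⟨u, u', hv, hv', hu, hu', hvv, hv'v', huu, hu'u', hvv', huu', huv, huv', by simpa using hu'v 0,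
    by simpa using hu'v 1⟩

/-- A rational isotropic vector is part of a frame. -/
lemma exists_frame (hn : 4 ≤ n) (hv : InRS F₀ P v) (hvv : hh v v = 0) (hv0 : v ≠ 0) :
    ∃ v' u u', RFrame q F₀ P v v' u u' := by
  obtain ⟨v', hv', hv'v', hvv', -, -⟩ := exists_iso_dual hF hS (Fin.elim0 : Fin 0 → (Fin n → F))
    (fun j => j.elim0) hv hvv (fun j => j.elim0) (by simpa using hv0)
  obtain ⟨u, u', fr⟩ := exists_perp_pair hF hS hn hv hv' hvv hv'v' hvv'
  exact ⟨v', u, u', fr⟩

/-- Two rational isotropic vectors have a common orthogonal one. -/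
lemma exists_iso_perp_two (hn : 4 ≤ n) {x y : Fin n → F} (hx : InRS F₀ P x) (hxx : hh x x = 0) (hx0 : x ≠ 0)
    (hy : InRS F₀ P y) (hyy : hh y y = 0) :
    ∃ w, InRS F₀ P w ∧ hh w w = 0 ∧ w ≠ 0 ∧ hh w x = 0 ∧ hh w y = 0 := by
  have hf := isUnitaryForm hF (n := n)
  by_cases hxy : hh x y = 0
  · exact ⟨x, hx, hxx, hx0, hxx, hxy⟩
  obtain ⟨l, hl⟩ : ∃ l, l ∈ F₀ ∧ frobEquiv hF l = (hh x y)⁻¹ := by
    refine ⟨frobEquiv hF (hh x y)⁻¹, ?_, (isUnitaryForm hF (n := n)).involutive _⟩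
    rw [frobEquiv_apply hF]
    exact pow_mem (F₀.inv_mem (herm_mem hS hx hy)) q
  obtain ⟨u, u', fr⟩ := exists_perp_pair hF hS hn hx (hy.smul hl.1) hxx
    (by rw [hf.smul_left, Unit.smul_right hf, hyy, mul_zero, mul_zero])
    (by rw [Unit.smul_right hf, hl.2, inv_mul_cancel₀ hxy])
  have hl0 : frobEquiv hF l ≠ 0 := by rw [hl.2]; exact inv_ne_zero hxy
  refine ⟨u, fr.u_mem, fr.uu, fun e => ?_, fr.uv, ?_⟩
  · have := fr.uu'
    rw [e, LinLeft.zero_left ⟨CfsgLib.Unitary.herm_add_left n, CfsgLib.Unitary.herm_smul_left n⟩] at this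
    exact zero_ne_one this
  · have := fr.uv'
    rw [Unit.smul_right hf] at this
    exact (mul_eq_zero.1 this).resolve_left hl0

end CfsgLib.Geo.SUFour
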