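/-
Odd-degree subfield overgroups in SU of dimension four: an irrational root element gives the whole group.
-/
import Cfsg.Agent.Geo.SUFour.RatFrame

set_option autoImplicit false

namespace CfsgLib.Geo.SUFour

open Matrix Cfsg Cfsg.Geo CfsgLib.Geo CfsgLib.Geo.UTv

variable {n q : ℕ} {F : Type*} [Field F] [Finite F] (hF : Nat.card F = q ^ 2) {F₀ : Subfield F}
  {P : GL (Fin n) F} (hS : UnitSub n q F F₀ P) {M : Subgroup (GL (Fin n) F)}

local notation "hh" => Cfsg.hermForm n F q

include hF hS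

omit hS in
/-- The commutator of two Eichler transformations is a transvection. -/
lemma comm_mem {v x x' : Fin n → F} (hv : hh v v = 0) (h : VP q M v x) (h' : VP q M v x') {c : F}
    (hc : c = hh x x' - hh x' x) : tvec v (uax q v c) (uax_dot_self hv c) ∈ M := by
  have hf := isUnitaryForm hF (n := n)
  obtain ⟨hxv, A, hA, s, hs⟩ := h
  obtain ⟨hx'v, A', hA', s', hs'⟩ := h'
  have h1 := hs.mul hF hv hx'v hxv hs'
  have h3 := hs'.mul hF hv hxv hx'v hs
  have hm := M.mul_mem (M.mul_mem hA hA') (M.inv_mem (M.mul_mem hA' hA))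
  suffices A * A' * (A' * A)⁻¹ = tvec v (uax q v c) (uax_dot_self hv c) by rwa [this] at hm
  rw [mul_inv_eq_iff_eq_mul]
  refine gl_ext_mulVec fun y => ?_
  rw [h1, mul_mulVec (tvec v _ _), utv_mulVec hF hv, h3, hc]
  simp only [hf.add_left, hf.smul_left, hv, hxv, hx'v, mul_zero, add_zero, Unit.add_right hf]
  module

/-- Rational vectors are vector parts. -/
lemma rat_vp (hM : subfieldSubgroup F₀ P ⊓ suGL n F q ≤ M) {v x : Fin n → F} (hv : InRS F₀ P v) (hvv : hh v v = 0)
    (hx : InRS F₀ P x) (hxv : hh x v = 0) : VP q M v x := by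
  obtain ⟨s, hs0, hs⟩ := exists_trace0 hF hS hx
  obtain ⟨A, hA, hE⟩ := rat_eich_mem hF hS hv hx hvv hxv hs0 hs
  exact ⟨hxv, A, hM hA, s, hE⟩

variable {v v' u u' : Fin n → F}

/-- An irrational multiple of a rational frame vector as vector part gives everything. -/
theorem suGL_le_of_part (hn : n = 4) {r : ℕ} (hr : r.Prime) (hcard : Nat.card F = Nat.card F₀ ^ r)
    (hM : subfieldSubgroup F₀ P ⊓ suGL n F q ≤ M) (hMI : M ≤ suGL n F q) (fr : RFrame q F₀ P v v' u u')
    {μ : F} (hμ : μ ∉ F₀) (hVP : VP q M v (μ • u)) : suGL n F q ≤ M := by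
  have hf := isUnitaryForm hF (n := n)
  obtain ⟨δ, hδF, hδ0, hδ⟩ := exists_skew0 hF hS
  have hvv := fr.vv
  let K : Set F := {a | VP q M v (a • u)}
  have hKrat : ∀ β ∈ F₀, β ∈ K := fun β hβ =>
    rat_vp hF hS hM fr.v_mem hvv (fr.u_mem.smul hβ) (by rw [hf.smul_left, fr.uv, mul_zero])
  have hKadd : ∀ a ∈ K, ∀ b ∈ K, a + b ∈ K := fun a ha b hb => by
    show VP q M v _; rw [add_smul]; exact VP.add hF hvv ha hb
  have hδ' : ∀ w, InRS F₀ P w → ∀ hw : hh w w = 0, tvec w (uax q w δ) (uax_dot_self hw δ) ∈ M :=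
    fun w hw hww => hM (rat_utv_mem0 hF hS hw hww hδF hδ)
  -- skew parameters of long root elements at `v`
  have hlong : ∀ a ∈ K, ∀ β ∈ F₀, tvec v (uax q v (a * frobEquiv hF β - β * frobEquiv hF a))
      (uax_dot_self hvv _) ∈ M := fun a ha β hβ => by
    refine comm_mem hF hvv ha (rat_vp hF hS hM fr.v_mem hvv (fr.u'_mem.smul hβ)
      (by rw [hf.smul_left, fr.u'v, mul_zero])) ?_
    simp only [hf.smul_left, Unit.smul_right hf, fr.uu', fr.u'u hF]
    ring
  -- multiplying by such a parameter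
  have hclosed : ∀ (c : F), tvec v (uax q v c) (uax_dot_self hvv c) ∈ M → ∀ a ∈ K, a * c * δ ∈ K := by
    intro c hc a ha
    obtain ⟨g, hg, hge⟩ := rat_eich_mem hF hS fr.v'_mem fr.u'_mem fr.v'v' fr.u'v' F₀.zero_mem
      (by rw [fr.u'u', ← frobEquiv_apply hF, map_zero]; ring)
    have hgv : (g : Matrix (Fin n) (Fin n) F) *ᵥ v = v + u' := by
      rw [hge v, fr.vv', fr.vu' hF]; module
    have hc1 := M.mul_mem (M.mul_mem (hM hg) hc) (M.inv_mem (hM hg))
    have hT : ∀ y, ((g * tvec v (uax q v c) (uax_dot_self hvv c) * g⁻¹ : GL (Fin n) F) : Matrix (Fin n) (Fin n) F) *ᵥ y =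
        y + (c * hh y (v + u')) • (v + u') := fun y => by
      rw [mul_mulVec, mul_mulVec, utv_mulVec hF hvv, Matrix.mulVec_add, Matrix.mulVec_smul, mulVec_inv_mulVec, ← hgv]
      conv_rhs => rw [← mulVec_inv_mulVec g y, herm_mulVec (hMI (hM hg)), mulVec_inv_mulVec]
    have h1 := VP.conj hMI hc1 ha
    have hvs : hh v (v + u') = 0 := by rw [Unit.add_right hf, hvv, fr.vu' hF, add_zero]
    rw [hT, hT, hvs, mul_zero, zero_smul, add_zero, Unit.add_right hf, hf.smul_left, hf.smul_left, fr.uv, fr.uu',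
      mul_zero, zero_add, mul_one] at h1
    have h2 := (h1.sub hF hvv ha).shift hF hvv (-(c * a))
    rw [show a • u + (c * a) • (v + u') - a • u + (-(c * a)) • v = (a * c) • u' by module] at h2
    have h3 := VP.conj hMI (hδ' u fr.u_mem fr.uu) h2
    rw [utv_mulVec hF fr.uu, utv_mulVec hF fr.uu, fr.vu hF, mul_zero, zero_smul, add_zero, hf.smul_left,
      fr.u'u hF, mul_one] at h3
    have h4 := h3.sub hF hvv h2
    rw [add_sub_cancel_left] at h4
    show VP q M v ((a * c * δ) • u)
    rwa [show a * c * δ = δ * (a * c) by ring]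
  -- the coefficient field
  obtain ⟨β, hβ, hout⟩ : ∃ β ∈ F₀, μ * frobEquiv hF β - β * frobEquiv hF μ ∉ F₀ := by
    by_contra hcon
    push Not at hcon
    obtain ⟨β, hβ, hne⟩ := hS.moves
    have h1 := hcon 1 F₀.one_mem
    rw [map_one, mul_one, one_mul] at h1
    have h2 := F₀.sub_mem (hcon β hβ) (F₀.mul_mem hβ h1)
    have hd : frobEquiv hF β - β ≠ 0 := sub_ne_zero.2 (by rwa [frobEquiv_apply hF])
    rw [show μ * frobEquiv hF β - β * frobEquiv hF μ - β * (μ - frobEquiv hF μ) = μ * (frobEquiv hF β - β) by ring]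
      at h2
    refine hμ ?_
    have h3 := F₀.div_mem h2 (F₀.sub_mem (by rw [frobEquiv_apply hF]; exact pow_mem hβ q) hβ :
      frobEquiv hF β - β ∈ F₀)
    rwa [mul_div_cancel_right₀ _ hd] at h3
  set c := μ * frobEquiv hF β - β * frobEquiv hF μ
  have hcM := hlong μ hVP β hβ
  let W : Set F := {x | ∀ b ∈ F₀, b * x ∈ K}
  let S : Set F := {y | ∀ x ∈ W, y * x ∈ W}
  have hS0 : ∀ y ∈ F₀, y ∈ S := fun y hy x hx b hb => by rw [← mul_assoc]; exact hx _ (F₀.mul_mem hb hy)
  have hSadd : ∀ a ∈ S, ∀ b ∈ S, a + b ∈ S := fun a ha b hb x hx y hy => by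
    rw [add_mul, mul_add]; exact hKadd _ (ha x hx y hy) _ (hb x hx y hy)
  have hSmul : ∀ a ∈ S, ∀ b ∈ S, a * b ∈ S := fun a ha b hb x hx => by rw [mul_assoc]; exact ha _ (hb x hx)
  have hcS : c * δ ∈ S := fun x hx b hb => by
    rw [show b * (c * δ * x) = b * x * c * δ by ring]; exact hclosed c hcM _ (hx b hb)
  have hcn : c * δ ∉ F₀ := fun h => hout (by
    have := F₀.div_mem h hδF
    rwa [mul_div_cancel_right₀ _ hδ0] at this)
  have huniv : ∀ a, VP q M v (a • u) := fun a => by
    have h1 : a ∈ S := SpTv.eq_univ_of_subring hr hcard hS0 hSadd hSmul hcS hcn a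
    have := h1 1 (fun b hb => by rw [mul_one]; exact hKrat b hb) 1 F₀.one_mem
    rwa [mul_one, one_mul] at this
  have huniv' : ∀ a, VP q M v (a • u') := fun a => by
    have h1 := huniv (a / δ)
    have h2 := VP.conj hMI (hδ' u' fr.u'_mem fr.u'u') h1
    rw [utv_mulVec hF fr.u'u', utv_mulVec hF fr.u'u', fr.vu' hF, mul_zero, zero_smul, add_zero, hf.smul_left,
      fr.uu', mul_one] at h2
    have h3 := h2.sub hF hvv h1
    rwa [add_sub_cancel_left, mul_div_cancel₀ _ hδ0] at h3
  have hall : ∀ x, hh x v = 0 → VP q M v x := fun x hx => by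
    rw [fr.expand hF hn x, hx, zero_smul, add_zero]
    exact (((VP.centre hF hvv _).add hF hvv (huniv _))).add hF hvv (huniv' _)
  have hfull := full_of_vp hF hvv hall fr.uv fr.u'v fr.uu'
  -- a second full centre, not orthogonal to `v`
  obtain ⟨t, htF, ht⟩ : ∃ t ∈ F₀, frobEquiv hF t + t ≠ 0 := by
    by_cases h2 : (2 : F) = 0
    · obtain ⟨b, hb, hne⟩ := hS.moves
      exact ⟨b, hb, fun e => hne (by rw [← frobEquiv_apply hF]; linear_combination e - b * h2)⟩
    · exact ⟨1, F₀.one_mem, fun e => h2 (by rw [map_one] at e; linear_combination e)⟩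
  set y := u + t • u'
  have hy : InRS F₀ P y := fr.u_mem.add (fr.u'_mem.smul htF)
  have hyv : hh y v = 0 := by simp [y, hf.add_left, hf.smul_left, fr.uv, fr.u'v]
  have hyv' : hh y v' = 0 := by simp [y, hf.add_left, hf.smul_left, fr.uv', fr.u'v']
  have hyy : hh y y = frobEquiv hF t + t := by
    simp [y, hf.add_left, hf.smul_left, Unit.add_right hf, Unit.smul_right hf, fr.uu, fr.uu', fr.u'u', fr.u'u hF]
  obtain ⟨s, hs0, hs⟩ := exists_trace0 hF hS hy
  obtain ⟨E, hE, hEe⟩ := rat_eich_mem hF hS fr.v'_mem hy fr.v'v' hyv' hs0 hs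
  refine suGL_le_of_vp hF (by omega) hMI hfull (full_conj hF hMI hfull (hM hE)) ?_ hall
  rw [hEe v, fr.vv', hf.herm v y, hyv, map_zero, one_smul, hf.add_left, hf.add_left, hf.smul_left, hvv, hyv,
    fr.v'v hF]
  intro e
  refine ht ?_
  have hs' : s = 0 := by linear_combination e
  rw [hs', ← frobEquiv_apply hF, map_zero] at hs
  linear_combination hs - hyy

/-- An irrational isotropic centre orthogonal to a rational isotropic vector gives everything. -/
theorem suGL_le_of_centre (hn : n = 4) {r : ℕ} (hr : r.Prime) (hcard : Nat.card F = Nat.card F₀ ^ r)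
    (hM : subfieldSubgroup F₀ P ⊓ suGL n F q ≤ M) (hMI : M ≤ suGL n F q) {a v : Fin n → F}
    (ha : ¬ IsPt F₀ P a) (haa : hh a a = 0)
    (hA : ∀ c ∈ F₀, c + c ^ q = 0 → tvec a (uax q a c) (uax_dot_self haa c) ∈ M)
    (hv : InRS F₀ P v) (hvv : hh v v = 0) (hv0 : v ≠ 0) (hav : hh a v = 0) : suGL n F q ≤ M := by
  have hf := isUnitaryForm hF (n := n)
  by_contra hnot
  obtain ⟨δ, hδF, hδ0, hδ⟩ := exists_skew0 hF hS
  -- products of two pairings are rational
  have hprod : ∀ v v' u u' x : Fin n → F, RFrame q F₀ P v v' u u' → hh a v = 0 → InRS F₀ P x → hh x v = 0 →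
      hh x a * hh a u ∈ F₀ := by
    intro v v' u u' x fr hav hx hxv
    by_contra hμ
    refine hnot (suGL_le_of_part hF hS hn hr hcard hM hMI fr (μ := δ * hh x a * (δ * hh a u)) (fun h => hμ ?_) ?_)
    · have h6 := F₀.div_mem h (F₀.mul_mem hδF hδF)
      rwa [show δ * hh x a * (δ * hh a u) = δ * δ * (hh x a * hh a u) by ring,
        mul_div_cancel_left₀ _ (mul_ne_zero hδ0 hδ0)] at h6
    have hvx : VP q M v x := rat_vp hF hS hM fr.v_mem fr.vv hx hxv
    have h1 := hvx.conj hMI (hA δ hδF hδ)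
    rw [utv_mulVec hF haa, utv_mulVec hF haa, show hh v a = 0 by rw [hf.herm, hav, map_zero], mul_zero, zero_smul,
      add_zero] at h1
    have h2 := h1.sub hF fr.vv hvx
    rw [add_sub_cancel_left] at h2
    have h3 := h2.conj hMI (hM (rat_utv_mem0 hF hS fr.u_mem fr.uu hδF hδ))
    rw [utv_mulVec hF fr.uu, fr.vu hF, mul_zero, zero_smul, add_zero, Matrix.mulVec_smul, utv_mulVec hF fr.uu,
      smul_add] at h3
    have h4 := h3.sub hF fr.vv h2
    rwa [add_sub_cancel_left, smul_smul] at h4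
  -- the case of a rational Lagrangian
  have hline : ∀ v v' u u' : Fin n → F, RFrame q F₀ P v v' u u' → ∀ α β : F, a = α • v + β • u → β ≠ 0 → False := by
    intro v v' u u' fr α β hae hβ
    have hN : frobEquiv hF β * β ∈ F₀ := by
      have h1 := hprod v v' u' u u' (fr.swap hF) (by rw [hae, hf.add_left, hf.smul_left, hf.smul_left, fr.vv, fr.uv]; ring)
        fr.u'_mem fr.u'v
      rwa [hae, Unit.add_right hf, Unit.smul_right hf, Unit.smul_right hf, hf.add_left, hf.smul_left, hf.smul_left,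
        fr.u'v, fr.u'u hF, fr.vu' hF, fr.uu', mul_zero, mul_zero, zero_add, zero_add, mul_one, mul_one] at h1
    set X := α * frobEquiv hF β
    have hX : ∀ γ ∈ F₀, γ * X + frobEquiv hF (γ * X) - frobEquiv hF γ * γ * (frobEquiv hF α * α) ∈ F₀ := by
      intro γ hγ
      set σγ := frobEquiv hF γ with hσγ
      have hσγF : σγ ∈ F₀ := by rw [hσγ, frobEquiv_apply hF]; exact pow_mem hγ q
      set w := u' + (-σγ) • v'
      have fr' : RFrame q F₀ P (v + γ • u) v' u w :=
        { v_mem := fr.v_mem.add (fr.u_mem.smul hγ)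
          v'_mem := fr.v'_mem
          u_mem := fr.u_mem
          u'_mem := fr.u'_mem.add (fr.v'_mem.smul (F₀.neg_mem hσγF))
          vv := by simp [hf.add_left, hf.smul_left, Unit.add_right hf, Unit.smul_right hf, fr.vv, fr.uu, fr.uv, fr.vu hF]
          v'v' := fr.v'v'
          uu := fr.uu
          u'u' := by simp [w, -neg_smul, hf.add_left, hf.smul_left, Unit.add_right hf, Unit.smul_right hf, fr.u'u', fr.u'v', fr.v'v', fr.v'u' hF]
          vv' := by simp [hf.add_left, hf.smul_left, fr.vv', fr.uv']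
          uu' := by simp [w, -neg_smul, Unit.add_right hf, Unit.smul_right hf, fr.uu', fr.uv']
          uv := by simp [Unit.add_right hf, Unit.smul_right hf, fr.uv, fr.uu]
          uv' := fr.uv'
          u'v := by
            simp [w, σγ, -neg_smul, hf.add_left, hf.smul_left, Unit.add_right hf, Unit.smul_right hf, fr.u'v, fr.u'u hF,
              fr.v'v hF, fr.v'u hF]
          u'v' := by simp [w, -neg_smul, hf.add_left, hf.smul_left, fr.u'v', fr.v'v'] }
      have h1 := hprod _ _ _ _ w (fr'.swap hF)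
        (by simp [hae, hf.add_left, hf.smul_left, Unit.add_right hf, Unit.smul_right hf, fr.vv, fr.uv, fr.vu hF, fr.uu])
        fr'.u'_mem fr'.u'v
      have e1 : hh w a = frobEquiv hF β - σγ * frobEquiv hF α := by
        simp [w, hae, -neg_smul, hf.add_left, hf.smul_left, Unit.add_right hf, Unit.smul_right hf, fr.u'v, fr.u'u hF,
          fr.v'v hF, fr.v'u hF]
        ring
      have e2 : hh a w = β - γ * α := by
        rw [hf.herm, e1, map_sub, map_mul, hσγ, hf.involutive, hf.involutive, hf.involutive]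
      rw [e1, e2] at h1
      have h2 := F₀.sub_mem hN h1
      simp only [X, map_mul, hf.involutive]
      convert h2 using 1
      simp only [hσγ]
      ring
    have hαN : frobEquiv hF α * α ∈ F₀ := by
      have h1 := hprod u u' v' v v' ((fr.flip hF).swap hF)
        (by rw [hae, hf.add_left, hf.smul_left, hf.smul_left, fr.vu hF, fr.uu]; ring) fr.v'_mem (fr.v'u hF)
      rwa [hae, Unit.add_right hf, Unit.smul_right hf, Unit.smul_right hf, hf.add_left, hf.smul_left, hf.smul_left,
        fr.v'v hF, fr.v'u hF, fr.vv', fr.uv', mul_zero, mul_zero, add_zero, add_zero, mul_one, mul_one] at h1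
    have hY : ∀ γ ∈ F₀, γ * X + frobEquiv hF (γ * X) ∈ F₀ := fun γ hγ => by
      have := F₀.add_mem (hX γ hγ) (F₀.mul_mem (F₀.mul_mem (by rw [frobEquiv_apply hF]; exact pow_mem hγ q :
        frobEquiv hF γ ∈ F₀) hγ) hαN)
      rwa [sub_add_cancel] at this
    obtain ⟨γ, hγ, hne⟩ := hS.moves
    have hσγF : frobEquiv hF γ ∈ F₀ := by rw [frobEquiv_apply hF]; exact pow_mem hγ q
    have h3 := F₀.sub_mem (hY γ hγ) (F₀.mul_mem hσγF (hY 1 F₀.one_mem))
    rw [one_mul, map_mul, show γ * X + frobEquiv hF γ * frobEquiv hF X - frobEquiv hF γ * (X + frobEquiv hF X) =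
      (γ - frobEquiv hF γ) * X by ring] at h3
    have hd : γ - frobEquiv hF γ ≠ 0 := sub_ne_zero.2 (by rw [frobEquiv_apply hF]; exact Ne.symm hne)
    have hXF : X ∈ F₀ := by
      have h4 := F₀.div_mem h3 (F₀.sub_mem hγ hσγF)
      rwa [mul_div_cancel_left₀ _ hd] at h4
    refine ha ⟨β, (α / β) • v + u, ((fr.v_mem.smul ?_).add fr.u_mem), ?_⟩
    · have h5 := F₀.div_mem hXF hN
      rwa [show X / (frobEquiv hF β * β) = α / β by
        have : frobEquiv hF β ≠ 0 := (map_ne_zero _).2 hβ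
        simp only [X]; field_simp] at h5
    · rw [smul_add, smul_smul, mul_div_cancel₀ _ hβ]; exact hae
  obtain ⟨v', u, u', fr⟩ := exists_frame hF hS (by omega) hv hvv hv0
  have hdec := fr.expand hF hn a
  rw [hav, zero_smul, add_zero] at hdec
  set α := hh a v'
  set b := hh a u'
  set b' := hh a u
  by_cases hb' : b' = 0
  · rw [hb', zero_smul, add_zero] at hdec
    by_cases hb : b = 0
    · exact ha ⟨α, v, hv, by rw [hdec, hb, zero_smul, add_zero]⟩
    · exact hline v v' u u' fr α b hdec hb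
  -- both pairings are rationally proportional
  have h11 := hprod v v' u u' u fr hav fr.u_mem fr.uv
  have h10 := hprod v v' u' u u (fr.swap hF) hav fr.u_mem fr.uv
  rw [hf.herm u a] at h11 h10
  have hσb' : frobEquiv hF b' ≠ 0 := (map_ne_zero _).2 hb'
  have ht : b / b' ∈ F₀ := by
    have := F₀.div_mem h10 h11
    rwa [mul_div_mul_left _ _ hσb'] at this
  set t := b / b'
  set r0 := t • u + u'
  have hr0 : InRS F₀ P r0 := (fr.u_mem.smul ht).add fr.u'_mem
  have hbt : b = t * b' := (div_mul_cancel₀ _ hb').symm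
  have hr00 : hh r0 r0 = 0 := by
    have h1 := haa
    rw [hdec, hbt] at h1
    simp [hf.add_left, hf.smul_left, Unit.add_right hf, Unit.smul_right hf, fr.vv, fr.uv, fr.vu hF, fr.u'v,
      fr.vu' hF, fr.uu, fr.u'u', fr.uu', fr.u'u hF] at h1
    have h2 : b' * frobEquiv hF b' * (t + frobEquiv hF t) = 0 := by linear_combination h1
    have h3 := (mul_eq_zero.1 h2).resolve_left (mul_ne_zero hb' hσb')
    simp [r0, hf.add_left, hf.smul_left, Unit.add_right hf, Unit.smul_right hf, fr.uu, fr.u'u', fr.uu', fr.u'u hF]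
    linear_combination h3
  have fr' : RFrame q F₀ P v v' r0 u :=
    { v_mem := fr.v_mem, v'_mem := fr.v'_mem, u_mem := hr0, u'_mem := fr.u_mem, vv := fr.vv, v'v' := fr.v'v'
      uu := hr00, u'u' := fr.uu, vv' := fr.vv'
      uu' := by simp [r0, hf.add_left, hf.smul_left, fr.uu, fr.u'u hF]
      uv := by simp [r0, hf.add_left, hf.smul_left, fr.uv, fr.u'v]
      uv' := by simp [r0, hf.add_left, hf.smul_left, fr.uv', fr.u'v']
      u'v := fr.uv, u'v' := fr.uv' }
  refine hline v v' r0 u fr' α b' ?_ hb'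
  rw [hdec, hbt]
  simp only [r0]
  module

end CfsgLib.Geo.SUFour
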