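/-
An orthogonal structure on a unitary space of dimension four: a quadratic identity for the elements of an overgroup
that is not the whole special unitary group.
-/
import Cfsg.Agent.Geo.SUFour.OrthCentre
import Cfsg.Agent.Geo.SUFour.SubScalar

set_option autoImplicit false

namespace CfsgLib.Geo.SUFour

open Matrix Cfsg Cfsg.Geo CfsgLib.Geo CfsgLib.Geo.UTv

variable {n q : ℕ} {F : Type*} [Field F] [Finite F] (hF : Nat.card F = q ^ 2) {F₀ : Subfield F}
  {P : GL (Fin n) F} (hO : OrthSub n q F F₀ P) {M : Subgroup (GL (Fin n) F)}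

local notation "hh" => Cfsg.hermForm n F q

include hF hO

/-- Transvection parameters closed under squares of the small field are all parameters. -/
lemma full_of_sq {a : Fin n → F} (haa : hh a a = 0) {c : F} (hc0 : c ≠ 0) (hc : frobEquiv hF c = -c)
    (h : ∀ r, frobEquiv hF r = r → HasTv M a (uax q a (c * (r * r)))) : Full q M a := by
  refine ⟨haa, fun d hd => ?_⟩
  rw [← frobEquiv_apply hF] at hd
  have hK : (d / c) ^ q = d / c := by
    rw [← frobEquiv_apply hF, map_div₀, hc, show frobEquiv hF d = -d by linear_combination hd, neg_div_neg_eq]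
  obtain ⟨X, Y, hXY⟩ := CfsgLib.Forms.exists_binary (F := F₀)
    (fun e => hO.two (by have := congrArg F₀.subtype e; rwa [map_ofNat, map_zero] at this))
    (a := 1) (b := 1) one_ne_zero one_ne_zero ⟨d / c, hO.mem_of_fixed _ hK⟩
  have hXY' := congrArg Subtype.val hXY
  push_cast at hXY'
  have e : d = c * ((X : F) * X) + c * ((Y : F) * Y) := by
    field_simp at hXY'
    linear_combination -hXY'
  have := (h X (fixed_real hF hO X)).add_axis (h Y (fixed_real hF hO Y))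
  rwa [uax, uax, ← add_smul, ← e] at this

/-- The symmetry of the form twisted by the involution. -/
lemma kap_form_symm (x y : Fin n → F) : hh (kap q P x) y = hh (kap q P y) x := by
  have h := herm_kap hF hO y (kap q P x)
  rw [kap_kap hF] at h
  rw [h, ← (isUnitaryForm hF).herm]

/-- Rational vectors orthogonal to an isotropic one give vector parts at its image. -/
lemma vp_image (hM : subfieldSubgroup F₀ P ⊓ suGL n F q ≤ M) (hMI : M ≤ suGL n F q) {g : GL (Fin n) F}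
    (hg : g ∈ M) {u y : Fin n → F} (hu : IsRV q P u) (huu : hh u u = 0) (hy : IsRV q P y) (hyu : hh y u = 0) :
    VP q M ((g : Matrix (Fin n) (Fin n) F) *ᵥ u) ((g : Matrix (Fin n) (Fin n) F) *ᵥ y) := by
  obtain ⟨A, hA, hE⟩ := exists_rat_eich hF hO hu hy huu hyu
  exact VP.conj hMI hg ⟨hyu, A, hM hA, _, hE⟩

/-- A vector orthogonal to the image of the rational orthogonal of an isotropic vector lies on its image. -/
lemma exists_smul_of_orth (hMI : M ≤ suGL n F q) {g : GL (Fin n) F} (hg : g ∈ M) {u x : Fin n → F}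
    (hu : IsRV q P u) (h : ∀ y, IsRV q P y → hh y u = 0 → hh ((g : Matrix (Fin n) (Fin n) F) *ᵥ y) x = 0) :
    ∃ c : F, x = c • ((g : Matrix (Fin n) (Fin n) F) *ᵥ u) := by
  have hf := isUnitaryForm hF (n := n)
  obtain ⟨δ, hδ0, hδ⟩ := exists_delta hF
  set x' := ((g⁻¹ : GL (Fin n) F) : Matrix (Fin n) (Fin n) F) *ᵥ x with hx'
  have hgx : (g : Matrix (Fin n) (Fin n) F) *ᵥ x' = x := by rw [hx', mulVec_inv_mulVec]
  suffices x' ∈ F ∙ u by
    obtain ⟨c, hc⟩ := Submodule.mem_span_singleton.1 this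
    exact ⟨c, by rw [← hgx, ← hc, Matrix.mulVec_smul]⟩
  by_contra hx
  obtain ⟨z, hz, hxz⟩ := exists_form_of_notMem hF (F ∙ u) hx
  have hzu : hh z u = 0 := hz u (Submodule.mem_span_singleton_self u)
  obtain ⟨za, zb, hza, hzb, ez, -, eza, ezb⟩ := exists_parts hF hO hδ0 hδ z
  have hzau : hh za u = 0 := by
    rw [eza, hf.smul_left, hf.add_left, herm_kap_rv hF hO hu, hzu, map_zero, add_zero, mul_zero]
  have hzbu : hh zb u = 0 := by
    rw [ezb, hf.smul_left, sub_eq_add_neg, ← neg_one_smul F (kap q P z), hf.add_left, hf.smul_left,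
      herm_kap_rv hF hO hu, hzu, map_zero, mul_zero, add_zero, mul_zero]
  have h0 : hh ((g : Matrix (Fin n) (Fin n) F) *ᵥ z) x = 0 := by
    rw [ez, Matrix.mulVec_add, Matrix.mulVec_smul, hf.add_left, hf.smul_left, h za hza hzau, h zb hzb hzbu,
      mul_zero, add_zero]
  rw [← hgx, herm_mulVec (hMI hg), hf.herm, hxz, map_one] at h0
  exact one_ne_zero h0

/-- The image of an isotropic vector spanning a totally isotropic rational plane gives everything. -/
lemma suGL_le_of_plane_iso (hn : n = 4) (hq : 5 ≤ q) (hM : subfieldSubgroup F₀ P ⊓ suGL n F q ≤ M)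
    (hMI : M ≤ suGL n F q) {g : GL (Fin n) F} (hg : g ∈ M) {u : Fin n → F} (hu : IsRV q P u) (huu : hh u u = 0)
    (hβ : hh ((g : Matrix (Fin n) (Fin n) F) *ᵥ u) (kap q P ((g : Matrix (Fin n) (Fin n) F) *ᵥ u)) = 0)
    (hθ : ∀ θ : F, kap q P ((g : Matrix (Fin n) (Fin n) F) *ᵥ u) ≠ θ • ((g : Matrix (Fin n) (Fin n) F) *ᵥ u)) :
    suGL n F q ≤ M := by
  have hf := isUnitaryForm hF (n := n)
  have h2 := hO.two
  obtain ⟨δ, hδ0, hδ⟩ := exists_delta hF
  set a := (g : Matrix (Fin n) (Fin n) F) *ᵥ u with hadef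
  have haa : hh a a = 0 := by rw [hadef, herm_mulVec (hMI hg)]; exact huu
  obtain ⟨v, v₂, hv, hv₂, ea, eka, -, -⟩ := exists_parts hF hO hδ0 hδ a
  have hsw := herm_swap_rv hF hO hv hv₂
  obtain ⟨hvv, hv22, hvv2⟩ : hh v v = 0 ∧ hh v₂ v₂ = 0 ∧ hh v v₂ = 0 := by
    have hA := haa
    have hB := hβ
    rw [eka, ea] at hB
    rw [ea] at hA
    simp only [sub_eq_add_neg, ← neg_smul, hf.add_left, Unit.add_right hf, hf.smul_left, Unit.smul_right hf,
      map_neg, hδ, neg_neg, hsw] at hA hB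
    have hB' := congrArg (frobEquiv hF) hB
    simp only [map_add, map_mul, hδ, fixed_herm hF hO hv hv, fixed_herm hF hO hv hv₂, fixed_herm hF hO hv₂ hv₂,
      map_zero] at hB'
    have h12 : hh v v₂ = 0 :=
      (mul_eq_zero.1 (show 2 * (2 * δ) * hh v v₂ = 0 by linear_combination hB - hB')).resolve_left
        (mul_ne_zero h2 (mul_ne_zero h2 hδ0))
    have h11 : hh v v = 0 :=
      (mul_eq_zero.1 (show 2 * hh v v = 0 by linear_combination hA + hB - 2 * δ * h12)).resolve_left h2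
    refine ⟨h11, (mul_eq_zero.1 (show δ * δ * hh v₂ v₂ = 0 by linear_combination h11 - hA)).resolve_left
      (mul_ne_zero hδ0 hδ0), h12⟩
  have hv2v : hh v₂ v = 0 := by rw [hsw, hvv2]
  have hv0 : v ≠ 0 := fun e => hθ (-1) (by rw [eka, ea, e]; module)
  have hn1 : ¬ v ∈ F ∙ v₂ := fun hc => by
    obtain ⟨c, hc⟩ := Submodule.mem_span_singleton.1 hc
    have hc' := congrArg (kap q P) hc
    rw [kap_smul hF, hv₂, hv, ← hc] at hc'
    have hv20 : v₂ ≠ 0 := fun e => hv0 (by rw [← hc, e, smul_zero])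
    have hσc := smul_left_injective F hv20 hc'
    have hne : c + δ ≠ 0 := fun e => by
      have e' := congrArg (frobEquiv hF) e
      rw [map_add, map_zero, hδ, hσc] at e'
      exact mul_ne_zero h2 hδ0 (by linear_combination e - e')
    refine hθ ((c - δ) / (c + δ)) ?_
    rw [eka, ea, ← hc]
    match_scalars
    field_simp
  -- a vector part twisted by the rational Eichler transformation of the plane
  obtain ⟨E₁, hE₁, hE₁e⟩ := exists_rat_eich hF hO hv hv₂ hvv hv2v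
  have hE₁a : (E₁ : Matrix (Fin n) (Fin n) F) *ᵥ a = a := by
    rw [hE₁e a, ea]
    simp only [hf.add_left, hf.smul_left, hvv, hv22, hvv2, hv2v, neg_zero, zero_div, mul_zero, add_zero, sub_zero,
      zero_smul]
  obtain ⟨y, hy, hyu, hyv⟩ : ∃ y, IsRV q P y ∧ hh y u = 0 ∧ hh ((g : Matrix (Fin n) (Fin n) F) *ᵥ y) v₂ ≠ 0 := by
    by_contra hcon
    push Not at hcon
    obtain ⟨c, hc⟩ := exists_smul_of_orth hF hO hMI hg hu hcon
    rcases eq_or_ne c 0 with rfl | hc0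
    · exact hn1 (absurd (by rw [← hadef, zero_smul] at hc; exact hc) (fun e => hθ 1 (by rw [eka, ea, e]; module)))
    · have hc' := congrArg (kap q P) hc
      rw [kap_smul hF, hv₂, hc, ← hadef] at hc'
      refine hθ (c / frobEquiv hF c) ?_
      rw [← smul_right_inj ((map_ne_zero (frobEquiv hF)).2 hc0), ← hc', smul_smul]
      congr 1
      rw [mul_div_cancel₀ _ ((map_ne_zero _).2 hc0)]
  set X := (g : Matrix (Fin n) (Fin n) F) *ᵥ y with hX
  set B := hh X v₂ with hB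
  have hAB : hh X v = δ * B := by
    have h1 : hh X a = 0 := by rw [hX, hadef, herm_mulVec (hMI hg)]; exact hyu
    rw [ea, Unit.add_right hf, Unit.smul_right hf, hδ] at h1
    linear_combination h1
  set c := -(4 * δ) * (B * frobEquiv hF B) with hc
  have hc0 : c ≠ 0 := mul_ne_zero (neg_ne_zero.2 (mul_ne_zero (by
    rw [show (4 : F) = 2 * 2 by norm_num]; exact mul_ne_zero h2 h2) hδ0)) (mul_ne_zero hyv ((map_ne_zero _).2 hyv))
  have hfull : Full q M a := by
    refine full_of_sq hF hO haa hc0 (by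
      rw [hc, map_mul, map_mul, map_neg, map_mul, map_ofNat, hδ, hf.involutive]; ring) fun r hr => ?_
    have h1 := vp_image hF hO hM hMI hg hu huu (hy.smul hF hr) (by rw [hf.smul_left, hyu, mul_zero])
    have h2' := h1.conj hMI (hM hE₁)
    rw [hE₁a] at h2'
    refine ⟨uax_dot_self haa _, comm_mem hF haa h1 h2' ?_⟩
    have hv₂X : hh v₂ X = frobEquiv hF B := by rw [hB]; exact hf.herm _ _
    have hvX : hh v X = -δ * frobEquiv hF B := by rw [hf.herm, hAB, map_mul, hδ]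
    rw [Matrix.mulVec_smul, ← hX, hE₁e (r • X)]
    simp only [hv22, neg_zero, zero_div, hf.add_left, Unit.add_right hf, hf.smul_left, Unit.smul_right hf, hr,
      map_mul, map_sub, map_zero, hδ, hAB, ← hB, hv₂X, hvX]
    rw [hc]
    ring
  -- a hyperbolic frame
  obtain ⟨v', hv', hv'v', hvv', hv'2⟩ : ∃ v', IsRV q P v' ∧ hh v' v' = 0 ∧ hh v v' = 1 ∧ hh v' v₂ = 0 := by
    obtain ⟨z, hz, hvz, hzu⟩ := exists_rv_dual hF hO ![v₂] (fun j => by simpa using hv₂) hv (by simpa using hn1)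
    have hzv2 : hh z v₂ = 0 := by simpa using hzu 0
    have hs : frobEquiv hF (-hh z z / 2) = -hh z z / 2 := by
      rw [map_div₀, map_neg, map_ofNat, fixed_herm hF hO hz hz]
    refine ⟨z + (-hh z z / 2) • v, hz.add hF (hv.smul hF hs), ?_, ?_, ?_⟩
    · simp only [hf.add_left, Unit.add_right hf, hf.smul_left, Unit.smul_right hf, hs, hvv, hvz,
        herm_swap_rv hF hO hv hz]
      field_simp
      ring
    · rw [Unit.add_right hf, Unit.smul_right hf, hvz, hvv, mul_zero, add_zero]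
    · rw [hf.add_left, hf.smul_left, hzv2, hvv2, mul_zero, add_zero]
  have hv'v : hh v' v = 1 := by rw [herm_swap_rv hF hO hv hv', hvv']
  have h2v' : hh v₂ v' = 0 := by rw [herm_swap_rv hF hO hv' hv₂, hv'2]
  obtain ⟨w, hw, hww, h2w, hwv, hwv'⟩ : ∃ w, IsRV q P w ∧ hh w w = 0 ∧ hh v₂ w = 1 ∧ hh w v = 0 ∧
      hh w v' = 0 := by
    obtain ⟨z, hz, h2z, hzu⟩ := exists_rv_dual hF hO ![v, v'] (Fin.forall_fin_two.2 ⟨hv, hv'⟩) hv₂ fun hc => by
      obtain ⟨c, hc⟩ := (Submodule.mem_span_range_iff_exists_fun F).1 hc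
      simp only [Fin.sum_univ_two, Matrix.cons_val_zero, Matrix.cons_val_one] at hc
      have h1 := congrArg (fun x => hh x v) hc
      simp only [hf.add_left, hf.smul_left, hvv, hv'v, hv2v, mul_zero, mul_one, zero_add] at h1
      rw [h1, zero_smul, add_zero] at hc
      refine hn1 ?_
      have hc0 : c 0 ≠ 0 := fun e => by
        rw [e, zero_smul] at hc
        exact hθ 1 (by rw [eka, ea, ← hc]; module)
      exact Submodule.mem_span_singleton.2 ⟨(c 0)⁻¹, by rw [← hc, smul_smul, inv_mul_cancel₀ hc0, one_smul]⟩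
    have hzv : hh z v = 0 := by simpa using hzu 0
    have hzv' : hh z v' = 0 := by simpa using hzu 1
    have hs : frobEquiv hF (-hh z z / 2) = -hh z z / 2 := by
      rw [map_div₀, map_neg, map_ofNat, fixed_herm hF hO hz hz]
    refine ⟨z + (-hh z z / 2) • v₂, hz.add hF (hv₂.smul hF hs), ?_, ?_, ?_, ?_⟩
    · simp only [hf.add_left, Unit.add_right hf, hf.smul_left, Unit.smul_right hf, hs, hv22, h2z,
        herm_swap_rv hF hO hv₂ hz]
      field_simp
      ring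
    · rw [Unit.add_right hf, Unit.smul_right hf, h2z, hv22, mul_zero, add_zero]
    · rw [hf.add_left, hf.smul_left, hzv, hv2v, mul_zero, add_zero]
    · rw [hf.add_left, hf.smul_left, hzv', h2v', mul_zero, add_zero]
  have hw2 : hh w v₂ = 1 := by rw [herm_swap_rv hF hO hv₂ hw, h2w]
  have hvw : hh v w = 0 := by rw [herm_swap_rv hF hO hw hv, hwv]
  have hv'w : hh v' w = 0 := by rw [herm_swap_rv hF hO hw hv', hwv']
  obtain ⟨E, hE, hEe⟩ := exists_rat_eich hF hO hv' (hv₂.add hF hw) hv'v' (by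
    rw [hf.add_left, h2v', hwv', add_zero])
  set b := (E : Matrix (Fin n) (Fin n) F) *ᵥ a with hbdef
  have hb := full_conj hF hMI hfull (hM hE)
  rw [← hbdef] at hb
  have hbe : b = v + v₂ + w + δ • v₂ + (-(1 + δ)) • v' := by
    rw [hbdef, hEe a, ea]
    simp only [hf.add_left, Unit.add_right hf, hf.smul_left, hvv, hv22, hvv2, hv2v, hvv', hvw, h2v', h2w, hw2, hww]
    match_scalars <;> field_simp <;> ring
  have hab : hh a b = 2 * δ - 1 := by
    rw [hbe, ea]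
    simp only [hf.add_left, Unit.add_right hf, hf.smul_left, Unit.smul_right hf, map_neg, map_add, map_one, hδ, hvv,
      hv22, hvv2, hv2v, hvv', hvw, h2v', h2w]
    ring
  have hakb : hh a (kap q P b) = -1 := by
    rw [hbe, ea]
    simp only [kap_add hF, kap_smul hF, show kap q P v = v from hv, show kap q P v₂ = v₂ from hv₂,
      show kap q P v' = v' from hv', show kap q P w = w from hw, hf.add_left, Unit.add_right hf, hf.smul_left,
      Unit.smul_right hf, hf.involutive _, hvv, hv22, hvv2, hv2v, hvv', hvw, h2v', h2w]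
    ring
  have hbka : hh b (kap q P a) = -1 := by
    rw [eka, hbe]
    simp only [sub_eq_add_neg, ← neg_smul, hf.add_left, Unit.add_right hf, hf.smul_left, Unit.smul_right hf, map_neg,
      hδ, neg_neg, hvv, hv22, hvv2, hv2v, hwv, hw2, hv'v, hv'2]
    ring
  have hcomm : Commutes q P E := fun x hx => by
    rw [hEe x]
    have hs : frobEquiv hF (-hh (v₂ + w) (v₂ + w) / 2) = -hh (v₂ + w) (v₂ + w) / 2 := by
      rw [map_div₀, map_neg, map_ofNat, fixed_herm hF hO (hv₂.add hF hw) (hv₂.add hF hw)]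
    refine (hx.add hF ((hv₂.add hF hw).smul hF (fixed_herm hF hO hx hv'))).add hF (hv'.smul hF ?_)
    rw [map_sub, map_mul, hs, fixed_herm hF hO hx hv', fixed_herm hF hO hx (hv₂.add hF hw)]
  have hbkb : hh b (kap q P b) = 0 := by
    rw [hbdef, ← commutes_kap hF hO hcomm, herm_mulVec (hMI (hM hE))]
    exact hβ
  have hl : hh a b ≠ 0 := by
    rw [hab]
    intro e
    have e' := congrArg (frobEquiv hF) e
    rw [map_sub, map_mul, map_ofNat, map_one, hδ, map_zero] at e'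
    exact h2 (by linear_combination -e - e')
  obtain ⟨hd, hT⟩ := hb.2 δ (by rw [← frobEquiv_apply hF, hδ, add_neg_cancel])
  have ha₂ := full_conj hF hMI hfull hT
  rw [utv_mulVec hF hb.1] at ha₂
  refine suGL_le_of_full_off hF hO hn hq hM hMI ha₂ ?_
  simp only [kap_add hF, kap_smul hF, hf.add_left, Unit.add_right hf, hf.smul_left, Unit.smul_right hf,
    hf.involutive _, hakb, hbka, hbkb, hβ]
  intro e
  exact mul_ne_zero h2 (mul_ne_zero hδ0 hl) (by linear_combination -e)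

/-- The quadratic identity. -/
theorem ident (hn : n = 4) (hq : 5 ≤ q) (hM : subfieldSubgroup F₀ P ⊓ suGL n F q ≤ M)
    (hMI : M ≤ suGL n F q) (hnot : ¬ suGL n F q ≤ M) {g : GL (Fin n) F} (hg : g ∈ M) {u e f : Fin n → F}
    (hu : IsRV q P u) (he : IsRV q P e) (hf' : IsRV q P f) (huu : hh u u = 0) (heu : hh e u = 0) (hfu : hh f u = 0)
    (hef : hh e f = 0) :
    hh (kap q P ((g : Matrix (Fin n) (Fin n) F) *ᵥ u)) ((g : Matrix (Fin n) (Fin n) F) *ᵥ u) *
        hh (kap q P ((g : Matrix (Fin n) (Fin n) F) *ᵥ e)) ((g : Matrix (Fin n) (Fin n) F) *ᵥ f) =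
      hh (kap q P ((g : Matrix (Fin n) (Fin n) F) *ᵥ u)) ((g : Matrix (Fin n) (Fin n) F) *ᵥ e) *
        hh (kap q P ((g : Matrix (Fin n) (Fin n) F) *ᵥ u)) ((g : Matrix (Fin n) (Fin n) F) *ᵥ f) := by
  have hf := isUnitaryForm hF (n := n)
  have h2 := hO.two
  set a := (g : Matrix (Fin n) (Fin n) F) *ᵥ u with hadef
  have haa : hh a a = 0 := by rw [hadef, herm_mulVec (hMI hg)]; exact huu
  by_cases hθ : ∃ θ : F, kap q P a = θ • a
  · obtain ⟨θ, hθ⟩ := hθ
    rw [hθ, hf.smul_left, hf.smul_left, hf.smul_left, haa]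
    simp only [hadef, herm_mulVec (hMI hg)]
    rw [hf.herm u e, heu, map_zero]
    ring
  push Not at hθ
  by_cases hβ : hh a (kap q P a) = 0
  · exact absurd (suGL_le_of_plane_iso hF hO hn hq hM hMI hg hu huu hβ hθ) hnot
  obtain ⟨p₁, p₂, m, m', h₁, h₃, n₁, n₂, h21, hm, hm', ea, eka⟩ := exists_plane hF hO haa hβ
  obtain ⟨e₁, e₂, Bs⟩ := exists_basis hF hO hn h₁ h₃ n₁ n₂ h21
  have hσ : ∀ x, frobEquiv hF (frobEquiv hF x) = x := hf.involutive
  have g₁ : (frobEquiv hF) (hh e₁ e₁) = hh e₁ e₁ := fixed_herm hF hO Bs.e₁_mem Bs.e₁_mem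
  have g₂ : (frobEquiv hF) (hh e₂ e₂) = hh e₂ e₂ := fixed_herm hF hO Bs.e₂_mem Bs.e₂_mem
  have h12 : hh p₁ p₂ = 0 := by rw [hf.herm, h21, map_zero]
  have hm2 : m * (frobEquiv hF) m * hh p₁ p₁ + m' * (frobEquiv hF) m' * hh p₂ p₂ = 0 := by
    have := haa
    rw [ea] at this
    simp only [hf.add_left, Unit.add_right hf, hf.smul_left, Unit.smul_right hf, h21, h12] at this
    linear_combination this
  obtain ⟨t, ht, ht0, ht1⟩ := exists_sq_ne hF hO hq (-(hh e₂ e₂) / hh e₁ e₁)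
  set nf := hh e₁ e₁ + t * t * hh e₂ e₂ with hnf
  have hnf0 : nf ≠ 0 := fun e0 => ht1 (by
    have := Bs.e₁_ne
    field_simp
    linear_combination -e0)
  set f' := e₁ + t • e₂ with hf'def
  have hef' : hh e₁ e₂ = 0 := by rw [hf.herm, Bs.e₂e₁, map_zero]
  have hff : hh f' f' = nf := by
    simp only [hf'def, hf.add_left, Unit.add_right hf, hf.smul_left, Unit.smul_right hf, Bs.e₂e₁, hef', ht, hnf]
    ring
  have hfe : hh f' e₁ = hh e₁ e₁ := by
    rw [hf'def, hf.add_left, hf.smul_left, Bs.e₂e₁, mul_zero, add_zero]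
  obtain ⟨k, hk, hke⟩ := exists_refl_pair hF hO Bs.e₁_mem (Bs.e₁_mem.add hF (Bs.e₂_mem.smul hF ht)) Bs.e₁_ne
    (by rw [← hf'def, hff]; exact hnf0)
  rw [← hf'def] at hke
  have hae₁ : hh a e₁ = 0 := by
    rw [ea, hf.add_left, hf.smul_left, hf.smul_left, hf.herm p₁ e₁, hf.herm p₂ e₁, Bs.e₁p₁, Bs.e₁p₂, map_zero]; ring
  have hae₂ : hh a e₂ = 0 := by
    rw [ea, hf.add_left, hf.smul_left, hf.smul_left, hf.herm p₁ e₂, hf.herm p₂ e₂, Bs.e₂p₁, Bs.e₂p₂, map_zero]; ring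
  have hka : (k : Matrix (Fin n) (Fin n) F) *ᵥ a = a := by
    have haf : hh a f' = 0 := by rw [hf'def, Unit.add_right hf, Unit.smul_right hf, hae₁, hae₂, mul_zero, add_zero]
    rw [hke, haf, mul_zero, zero_smul, add_zero, hae₁, mul_zero, zero_smul, add_zero]
  -- the pairs of coordinates are real up to one scalar
  have hpair : ∀ y, IsRV q P y → hh y u = 0 →
      hh ((g : Matrix (Fin n) (Fin n) F) *ᵥ y) e₁ * (frobEquiv hF) (hh ((g : Matrix (Fin n) (Fin n) F) *ᵥ y) e₂) =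
        hh ((g : Matrix (Fin n) (Fin n) F) *ᵥ y) e₂ * (frobEquiv hF) (hh ((g : Matrix (Fin n) (Fin n) F) *ᵥ y) e₁) := by
    intro y hy hyu
    by_contra hne
    set X := (g : Matrix (Fin n) (Fin n) F) *ᵥ y with hX
    set A := hh X e₁
    set B := hh X e₂
    refine hnot (suGL_le_of_full_off hF hO hn hq hM hMI
      (full_of_sq hF hO haa (c := 4 * t / nf * (A * (frobEquiv hF) B - B * (frobEquiv hF) A)) ?_ ?_ fun r hr => ?_) hβ)
    · refine mul_ne_zero (div_ne_zero (mul_ne_zero ?_ ht0) hnf0) (sub_ne_zero.2 hne)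
      rw [show (4 : F) = 2 * 2 by norm_num]
      exact mul_ne_zero h2 h2
    · simp only [map_mul, map_div₀, map_sub, map_ofNat, hσ, ht, hnf, map_add, g₁, g₂]
      ring
    have h1 := vp_image hF hO hM hMI hg hu huu (hy.smul hF hr) (by rw [hf.smul_left, hyu, mul_zero])
    have h2' := h1.conj hMI (hM hk)
    rw [← hadef] at h1 h2'
    rw [hka] at h2'
    refine ⟨uax_dot_self haa _, comm_mem hF haa h1 h2' ?_⟩
    rw [Matrix.mulVec_smul, ← hX, hke]
    have hfX : hh f' X = (frobEquiv hF) A + t * (frobEquiv hF) B := by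
      rw [hf'def, hf.add_left, hf.smul_left, hf.herm e₁ X, hf.herm e₂ X]
    have heX : hh e₁ X = (frobEquiv hF) A := hf.herm e₁ X
    have hXf : hh X f' = A + t * B := by rw [hf'def, Unit.add_right hf, Unit.smul_right hf, ht]
    have := Bs.e₁_ne
    simp only [hff, show hh X e₁ = A from rfl, hf.add_left, Unit.add_right hf, hf.smul_left, Unit.smul_right hf, hr, hXf, hfX, heX, hfe,
      map_mul, map_add, map_div₀, map_neg, map_ofNat, ht, hnf, g₁, g₂, hσ]
    rw [← hnf]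
    field_simp
    ring
  have hcross : ∀ y y', IsRV q P y → IsRV q P y' → hh y u = 0 → hh y' u = 0 →
      hh ((g : Matrix (Fin n) (Fin n) F) *ᵥ y) e₁ * (frobEquiv hF) (hh ((g : Matrix (Fin n) (Fin n) F) *ᵥ y') e₂) +
        hh ((g : Matrix (Fin n) (Fin n) F) *ᵥ y') e₁ * (frobEquiv hF) (hh ((g : Matrix (Fin n) (Fin n) F) *ᵥ y) e₂) =
      (frobEquiv hF) (hh ((g : Matrix (Fin n) (Fin n) F) *ᵥ y) e₁) * hh ((g : Matrix (Fin n) (Fin n) F) *ᵥ y') e₂ +
        (frobEquiv hF) (hh ((g : Matrix (Fin n) (Fin n) F) *ᵥ y') e₁) * hh ((g : Matrix (Fin n) (Fin n) F) *ᵥ y) e₂ := by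
    intro y y' hy hy' hyu hy'u
    have hs := hpair _ (hy.add hF hy') (by rw [hf.add_left, hyu, hy'u, add_zero])
    simp only [Matrix.mulVec_add, hf.add_left, map_add] at hs
    linear_combination hs - hpair y hy hyu - hpair y' hy' hy'u
  obtain ⟨y₁, y₂, hy₁, hy₂, hy₁u, hy₂u, hD⟩ : ∃ y₁ y₂, IsRV q P y₁ ∧ IsRV q P y₂ ∧ hh y₁ u = 0 ∧ hh y₂ u = 0 ∧
      hh ((g : Matrix (Fin n) (Fin n) F) *ᵥ y₁) e₁ * hh ((g : Matrix (Fin n) (Fin n) F) *ᵥ y₂) e₂ -
        hh ((g : Matrix (Fin n) (Fin n) F) *ᵥ y₂) e₁ * hh ((g : Matrix (Fin n) (Fin n) F) *ᵥ y₁) e₂ ≠ 0 := by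
    by_contra hcon
    push Not at hcon
    have habs : ∀ x, hh x e₁ ≠ 0 ∨ hh x e₂ ≠ 0 →
        ¬ ∀ y, IsRV q P y → hh y u = 0 → hh ((g : Matrix (Fin n) (Fin n) F) *ᵥ y) x = 0 := by
      intro x hx hall
      obtain ⟨c, rfl⟩ := exists_smul_of_orth hF hO hMI hg hu hall
      simp only [← hadef, hf.smul_left, hae₁, hae₂, mul_zero, ne_eq, not_true, or_self] at hx
    by_cases hz : ∀ y, IsRV q P y → hh y u = 0 → hh ((g : Matrix (Fin n) (Fin n) F) *ᵥ y) e₁ = 0
    · exact habs e₁ (Or.inl Bs.e₁_ne) hz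
    push Not at hz
    obtain ⟨y₀, hy₀, hy₀u, hA₀⟩ := hz
    set A₀ := hh ((g : Matrix (Fin n) (Fin n) F) *ᵥ y₀) e₁
    set B₀ := hh ((g : Matrix (Fin n) (Fin n) F) *ᵥ y₀) e₂
    refine habs ((frobEquiv hF) B₀ • e₁ + (-(frobEquiv hF) A₀) • e₂) (Or.inr ?_) fun y hy hyu => ?_
    · rw [hf.add_left, hf.smul_left, hf.smul_left, hef', mul_zero, zero_add]
      exact mul_ne_zero (neg_ne_zero.2 ((map_ne_zero _).2 hA₀)) Bs.e₂_ne
    · rw [Unit.add_right hf, Unit.smul_right hf, Unit.smul_right hf, map_neg, hσ, hσ]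
      linear_combination hcon y y₀ hy hy₀ hyu hy₀u
  set A₁ := hh ((g : Matrix (Fin n) (Fin n) F) *ᵥ y₁) e₁
  set B₁ := hh ((g : Matrix (Fin n) (Fin n) F) *ᵥ y₁) e₂
  set A₂ := hh ((g : Matrix (Fin n) (Fin n) F) *ᵥ y₂) e₁
  set B₂ := hh ((g : Matrix (Fin n) (Fin n) F) *ᵥ y₂) e₂
  set φ := ((frobEquiv hF) A₁ * B₂ - (frobEquiv hF) B₁ * A₂) / (A₁ * B₂ - A₂ * B₁) with hφ
  have hφD : φ * (A₁ * B₂ - A₂ * B₁) = (frobEquiv hF) A₁ * B₂ - (frobEquiv hF) B₁ * A₂ := div_mul_cancel₀ _ hD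
  have hp1 := hpair y₁ hy₁ hy₁u
  have hp2 := hpair y₂ hy₂ hy₂u
  have hc12 := hcross y₁ y₂ hy₁ hy₂ hy₁u hy₂u
  have hA₁ : (frobEquiv hF) A₁ = φ * A₁ := mul_right_cancel₀ hD (by linear_combination (-A₁) * hφD + A₂ * hp1)
  have hB₁ : (frobEquiv hF) B₁ = φ * B₁ := mul_right_cancel₀ hD (by linear_combination (-B₁) * hφD + B₂ * hp1)
  have hA₂ : (frobEquiv hF) A₂ = φ * A₂ := mul_right_cancel₀ hD (by linear_combination (-A₂) * hφD + A₂ * hc12 - A₁ * hp2)
  have hB₂ : (frobEquiv hF) B₂ = φ * B₂ := mul_right_cancel₀ hD (by linear_combination (-B₂) * hφD + B₂ * hc12 - B₁ * hp2)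
  have hreal : ∀ y, IsRV q P y → hh y u = 0 →
      (frobEquiv hF) (hh ((g : Matrix (Fin n) (Fin n) F) *ᵥ y) e₁) = φ * hh ((g : Matrix (Fin n) (Fin n) F) *ᵥ y) e₁ ∧
      (frobEquiv hF) (hh ((g : Matrix (Fin n) (Fin n) F) *ᵥ y) e₂) = φ * hh ((g : Matrix (Fin n) (Fin n) F) *ᵥ y) e₂ := by
    intro y hy hyu
    have c₁ := hcross y y₁ hy hy₁ hyu hy₁u
    have c₂ := hcross y y₂ hy hy₂ hyu hy₂u
    set A := hh ((g : Matrix (Fin n) (Fin n) F) *ᵥ y) e₁
    set B := hh ((g : Matrix (Fin n) (Fin n) F) *ᵥ y) e₂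
    have q₁ : A₁ * ((frobEquiv hF) B - φ * B) - B₁ * ((frobEquiv hF) A - φ * A) = 0 := by linear_combination c₁ - A * hB₁ + B * hA₁
    have q₂ : A₂ * ((frobEquiv hF) B - φ * B) - B₂ * ((frobEquiv hF) A - φ * A) = 0 := by linear_combination c₂ - A * hB₂ + B * hA₂
    exact ⟨mul_right_cancel₀ hD (by linear_combination A₂ * q₁ - A₁ * q₂),
      mul_right_cancel₀ hD (by linear_combination B₂ * q₁ - B₁ * q₂)⟩
  -- the plane coordinate
  set γ := (frobEquiv hF) m * (frobEquiv hF) m * hh p₁ p₁ + (frobEquiv hF) m' * (frobEquiv hF) m' * hh p₂ p₂ with hγ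
  have hline : ∀ y, IsRV q P y → hh y u = 0 → ∀ z, hh ((g : Matrix (Fin n) (Fin n) F) *ᵥ y) p₁ = z * m * hh p₁ p₁ →
      hh ((g : Matrix (Fin n) (Fin n) F) *ᵥ y) p₂ = z * m' * hh p₂ p₂ := by
    intro y hy hyu z hz
    have h1 : hh ((g : Matrix (Fin n) (Fin n) F) *ᵥ y) a = 0 := by
      rw [hadef, herm_mulVec (hMI hg)]; exact hyu
    rw [ea, Unit.add_right hf, Unit.smul_right hf, Unit.smul_right hf] at h1
    refine mul_left_cancel₀ ((map_ne_zero (frobEquiv hF)).2 hm') ?_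
    linear_combination h1 - (frobEquiv hF) m * hz - z * hm2
  have hsu : ∀ y, IsRV q P y → hh y u = 0 → ∀ z, hh ((g : Matrix (Fin n) (Fin n) F) *ᵥ y) p₁ = z * m * hh p₁ p₁ →
      hh (kap q P a) ((g : Matrix (Fin n) (Fin n) F) *ᵥ y) = (frobEquiv hF) z * γ := by
    intro y hy hyu z hz
    rw [eka, hf.add_left, hf.smul_left, hf.smul_left, hf.herm p₁ _, hf.herm p₂ _, hz, hline y hy hyu z hz]
    simp only [map_mul, fixed_herm hF hO h₁ h₁, fixed_herm hF hO h₃ h₃, hγ]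
    ring
  have hsuu : hh (kap q P a) a = γ := by
    rw [eka, ea]
    simp only [hf.add_left, Unit.add_right hf, hf.smul_left, Unit.smul_right hf, h21, h12, hγ]
    ring
  obtain ⟨z, hz⟩ : ∃ z, hh ((g : Matrix (Fin n) (Fin n) F) *ᵥ e) p₁ = z * m * hh p₁ p₁ :=
    ⟨hh ((g : Matrix (Fin n) (Fin n) F) *ᵥ e) p₁ / (m * hh p₁ p₁), by field_simp⟩
  obtain ⟨z', hz'⟩ : ∃ z, hh ((g : Matrix (Fin n) (Fin n) F) *ᵥ f) p₁ = z * m * hh p₁ p₁ :=
    ⟨hh ((g : Matrix (Fin n) (Fin n) F) *ᵥ f) p₁ / (m * hh p₁ p₁), by field_simp⟩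
  rw [hsu e he heu z hz, hsu f hf' hfu z' hz', hsuu]
  have hz₂ := hline e he heu z hz
  have hz₂' := hline f hf' hfu z' hz'
  obtain ⟨rA, rB⟩ := hreal e he heu
  set X := (g : Matrix (Fin n) (Fin n) F) *ᵥ e with hX
  set Y := (g : Matrix (Fin n) (Fin n) F) *ᵥ f with hY
  have hXY : hh X Y = 0 := by rw [hX, hY, herm_mulVec (hMI hg)]; exact hef
  have f₁ : (frobEquiv hF) (hh p₁ p₁) = hh p₁ p₁ := fixed_herm hF hO h₁ h₁
  have f₃ : (frobEquiv hF) (hh p₂ p₂) = hh p₂ p₂ := fixed_herm hF hO h₃ h₃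
  have eX := Bs.expand hF hn X
  have eY : ∀ v, hh v Y = (frobEquiv hF) (hh Y v) := fun v => hf.herm v Y
  have k1 : hh X Y = z * m * (frobEquiv hF) (z' * m' * 0) + z * (frobEquiv hF) z' * (m * (frobEquiv hF) m * hh p₁ p₁ + m' * (frobEquiv hF) m' * hh p₂ p₂) +
      hh X e₁ / hh e₁ e₁ * (frobEquiv hF) (hh Y e₁) + hh X e₂ / hh e₂ e₂ * (frobEquiv hF) (hh Y e₂) := by
    conv_lhs => rw [eX]
    rw [hf.add_left, hf.add_left, hf.add_left, hf.smul_left, hf.smul_left, hf.smul_left, hf.smul_left, eY p₁, eY p₂,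
      eY e₁, eY e₂, hz, hz', hz₂, hz₂']
    have := Bs.p₁_ne
    have := Bs.p₂_ne
    simp only [map_mul, map_zero, f₁, f₃]
    field_simp
    ring
  have k2 : hh (kap q P X) Y = (frobEquiv hF) z * (frobEquiv hF) z' * γ + φ * (hh X e₁ / hh e₁ e₁ * (frobEquiv hF) (hh Y e₁) +
      hh X e₂ / hh e₂ e₂ * (frobEquiv hF) (hh Y e₂)) := by
    have hk' : kap q P X = (frobEquiv hF) (hh X p₁ / hh p₁ p₁) • p₁ + (frobEquiv hF) (hh X p₂ / hh p₂ p₂) • p₂ +
        (frobEquiv hF) (hh X e₁ / hh e₁ e₁) • e₁ + (frobEquiv hF) (hh X e₂ / hh e₂ e₂) • e₂ := by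
      conv_lhs => rw [eX]
      simp only [kap_add hF, kap_smul hF, show kap q P p₁ = p₁ from h₁, show kap q P p₂ = p₂ from h₃,
        show kap q P e₁ = e₁ from Bs.e₁_mem, show kap q P e₂ = e₂ from Bs.e₂_mem]
    rw [hk', hf.add_left, hf.add_left, hf.add_left, hf.smul_left, hf.smul_left, hf.smul_left, hf.smul_left, eY p₁,
      eY p₂, eY e₁, eY e₂, hz, hz', hz₂, hz₂']
    have := Bs.p₁_ne
    have := Bs.p₂_ne
    simp only [map_mul, map_div₀, f₁, f₃, g₁, g₂, rA, rB, hγ]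
    field_simp
    ring
  rw [k2]
  simp only [map_zero, mul_zero] at k1
  linear_combination (γ * φ) * hXY - (γ * φ) * k1 - γ * φ * z * (frobEquiv hF) z' * hm2

end CfsgLib.Geo.SUFour
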