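/-
The orthogonal subfield group is maximal in the special unitary group of dimension four, fields with at least five
elements of odd order.
-/
import Cfsg.Agent.Geo.SUFour.OrthIdent

set_option autoImplicit false

namespace CfsgLib.Geo.SUFour

open Matrix Cfsg Cfsg.Geo CfsgLib.Geo CfsgLib.Geo.UTv

variable {n q : ℕ} {F : Type*} [Field F] [Finite F] (hF : Nat.card F = q ^ 2) {F₀ : Subfield F}
  {P : GL (Fin n) F} (hO : OrthSub n q F F₀ P) {M : Subgroup (GL (Fin n) F)}

local notation "hh" => Cfsg.hermForm n F q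

omit [Finite F] in
/-- The form twisted by the involution, pulled back. -/
def tform (q : ℕ) (P g : GL (Fin n) F) (x y : Fin n → F) : F :=
  Cfsg.hermForm n F q (kap q P ((g : Matrix (Fin n) (Fin n) F) *ᵥ x)) ((g : Matrix (Fin n) (Fin n) F) *ᵥ y)

include hF

lemma tform_add_left (g : GL (Fin n) F) (x x' y : Fin n → F) :
    tform q P g (x + x') y = tform q P g x y + tform q P g x' y := by
  rw [tform, Matrix.mulVec_add, kap_add hF, (isUnitaryForm hF).add_left]; rfl

lemma tform_add_right (g : GL (Fin n) F) (x y y' : Fin n → F) :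
    tform q P g x (y + y') = tform q P g x y + tform q P g x y' := by
  rw [tform, Matrix.mulVec_add, Unit.add_right (isUnitaryForm hF)]; rfl

lemma tform_smul_left (g : GL (Fin n) F) {c : F} (hc : frobEquiv hF c = c) (x y : Fin n → F) :
    tform q P g (c • x) y = c * tform q P g x y := by
  rw [tform, Matrix.mulVec_smul, kap_smul hF, hc, (isUnitaryForm hF).smul_left]; rfl

lemma tform_smul_right (g : GL (Fin n) F) {c : F} (hc : frobEquiv hF c = c) (x y : Fin n → F) :
    tform q P g x (c • y) = c * tform q P g x y := by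
  rw [tform, Matrix.mulVec_smul, Unit.smul_right (isUnitaryForm hF), hc]; rfl

include hO

lemma tform_symm (g : GL (Fin n) F) (x y : Fin n → F) : tform q P g x y = tform q P g y x :=
  kap_form_symm hF hO _ _

/-- For an element of a proper overgroup the twisted form is the form up to a term of rank one. -/
theorem tform_rank_one (hn : n = 4) (hq : 5 ≤ q) (hM : subfieldSubgroup F₀ P ⊓ suGL n F q ≤ M)
    (hMI : M ≤ suGL n F q) (hnot : ¬ suGL n F q ≤ M) {g : GL (Fin n) F} (hg : g ∈ M) :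
    ∃ (φ ε : F) (w : Fin n → F), ∀ x y, IsRV q P x → IsRV q P y →
      tform q P g x y = φ * hh x y + ε * (hh x (kap q P w) * hh w y) := by
  have hf := isUnitaryForm hF (n := n)
  have h2 := hO.two
  have I : ∀ u e f, IsRV q P u → IsRV q P e → IsRV q P f → hh u u = 0 → hh e u = 0 → hh f u = 0 → hh e f = 0 →
      tform q P g u u * tform q P g e f = tform q P g u e * tform q P g u f :=
    fun _ _ _ hu he hf' huu heu hfu hef => ident hF hO hn hq hM hMI hnot hg hu he hf' huu heu hfu hef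
  have al := tform_add_left hF (P := P) g
  have ar := tform_add_right hF (P := P) g
  have sl : ∀ {c : F}, frobEquiv hF c = c → ∀ x y, tform q P g (c • x) y = c * tform q P g x y :=
    fun hc => tform_smul_left hF g hc
  have sr : ∀ {c : F}, frobEquiv hF c = c → ∀ x y, tform q P g x (c • y) = c * tform q P g x y :=
    fun hc => tform_smul_right hF g hc
  have sy := tform_symm hF hO g
  obtain ⟨τ, hτ, hτ0, hτ1⟩ := exists_sq_ne hF hO hq 1
  rw [one_mul] at hτ1
  have hone : frobEquiv hF (1 : F) = 1 := map_one _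
  have hneg : frobEquiv hF (-1 : F) = -1 := by rw [map_neg, map_one]
  -- a hyperbolic pair, with the first vector off the cone of the twisted form if possible
  obtain ⟨z, w, hz, hw, hzz, hww, hzw, hwz, hcase⟩ : ∃ z w, IsRV q P z ∧ IsRV q P w ∧ hh z z = 0 ∧ hh w w = 0 ∧
      hh z w = 1 ∧ hh w z = 1 ∧ (tform q P g z z ≠ 0 ∨ ∀ u, IsRV q P u → hh u u = 0 → tform q P g u u = 0) := by
    by_cases hall : ∀ u, IsRV q P u → hh u u = 0 → tform q P g u u = 0
    · obtain ⟨z, w, hz, hw, hzz, hww, hzw, hwz, -, -⟩ := exists_rv_pair hF hO (Fin.elim0 : Fin 0 → (Fin n → F))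
        (fun j => j.elim0) (by omega)
      exact ⟨z, w, hz, hw, hzz, hww, hzw, hwz, Or.inr hall⟩
    push Not at hall
    obtain ⟨z, hz, hzz, hA⟩ := hall
    have hz0 : z ≠ 0 := fun e => hA (by
      rw [e, tform, Matrix.mulVec_zero, Unit.zero_right hf])
    obtain ⟨y, hy, hzy, -⟩ := exists_rv_dual hF hO (Fin.elim0 : Fin 0 → (Fin n → F)) (fun j => j.elim0) hz
      (by simpa using hz0)
    have hyz : hh y z = 1 := by rw [herm_swap_rv hF hO hz hy, hzy]
    have hs : frobEquiv hF (-hh y y / 2) = -hh y y / 2 := by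
      rw [map_div₀, map_neg, map_ofNat, fixed_herm hF hO hy hy]
    refine ⟨z, y + (-hh y y / 2) • z, hz, hy.add hF (hz.smul hF hs), hzz, ?_, ?_, ?_, Or.inl hA⟩ <;>
      simp only [hf.add_left, Unit.add_right hf, hf.smul_left, Unit.smul_right hf, hs, hzz, hzy, hyz]
    · field_simp
      ring
    · ring
    · ring
  have hp : IsRV q P (z + w) := hz.add hF hw
  have hm : IsRV q P (z + (-1 : F) • w) := hz.add hF (hw.smul hF hneg)
  have np : hh (z + w) (z + w) = 2 := by
    simp only [hf.add_left, Unit.add_right hf, hzz, hww, hzw, hwz]; ring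
  have nm : hh (z + (-1 : F) • w) (z + (-1 : F) • w) = -2 := by
    simp only [hf.add_left, Unit.add_right hf, hf.smul_left, Unit.smul_right hf, hneg, hzz, hww, hzw, hwz]
    ring
  have hmp : hh (z + (-1 : F) • w) (z + w) = 0 := by
    simp only [hf.add_left, Unit.add_right hf, hf.smul_left, hzz, hww, hzw, hwz]; ring
  obtain ⟨e₁, e₂, B⟩ := exists_basis hF hO hn hp hm (by rw [np]; exact h2) (by rw [nm]; exact neg_ne_zero.2 h2) hmp
  have hperp : ∀ e, hh e (z + w) = 0 → hh e (z + (-1 : F) • w) = 0 → hh e z = 0 ∧ hh e w = 0 := fun e a b => by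
    rw [Unit.add_right hf] at a b
    rw [Unit.smul_right hf, hneg] at b
    exact ⟨(mul_eq_zero.1 (show (2 : F) * hh e z = 0 by linear_combination a + b)).resolve_left h2,
      (mul_eq_zero.1 (show (2 : F) * hh e w = 0 by linear_combination a - b)).resolve_left h2⟩
  obtain ⟨he₁z, he₁w⟩ := hperp e₁ B.e₁p₁ B.e₁p₂
  obtain ⟨he₂z, he₂w⟩ := hperp e₂ B.e₂p₁ B.e₂p₂
  have hze₁ : hh z e₁ = 0 := by rw [hf.herm, he₁z, map_zero]
  have hwe₁ : hh w e₁ = 0 := by rw [hf.herm, he₁w, map_zero]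
  have hze₂ : hh z e₂ = 0 := by rw [hf.herm, he₂z, map_zero]
  have hwe₂ : hh w e₂ = 0 := by rw [hf.herm, he₂w, map_zero]
  have he₁₂ : hh e₁ e₂ = 0 := by rw [hf.herm, B.e₂e₁, map_zero]
  have f₁ := fixed_herm hF hO B.e₁_mem B.e₁_mem
  have f₂ := fixed_herm hF hO B.e₂_mem B.e₂_mem
  have hexp : ∀ x, IsRV q P x → ∃ a b c d : F, frobEquiv hF a = a ∧ frobEquiv hF b = b ∧ frobEquiv hF c = c ∧
      frobEquiv hF d = d ∧ x = a • z + b • w + c • e₁ + d • e₂ := fun x hx => by
    refine ⟨hh x w, hh x z, hh x e₁ / hh e₁ e₁, hh x e₂ / hh e₂ e₂, fixed_herm hF hO hx hw, fixed_herm hF hO hx hz,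
      by rw [map_div₀, fixed_herm hF hO hx B.e₁_mem, f₁], by rw [map_div₀, fixed_herm hF hO hx B.e₂_mem, f₂], ?_⟩
    conv_lhs => rw [B.expand hF hn x, np, nm]
    simp only [Unit.add_right hf, Unit.smul_right hf, hneg]
    match_scalars <;> field_simp <;> ring
  -- vectors of a conic
  have hconic : ∀ e, IsRV q P e → hh e z = 0 → hh e w = 0 → ∀ t, frobEquiv hF t = t →
      IsRV q P (z + t • e + (-hh e e / 2 * (t * t)) • w) ∧
        hh (z + t • e + (-hh e e / 2 * (t * t)) • w) (z + t • e + (-hh e e / 2 * (t * t)) • w) = 0 := by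
    intro e he hez hew t ht
    have hm : frobEquiv hF (-hh e e / 2 * (t * t)) = -hh e e / 2 * (t * t) := by
      rw [map_mul, map_mul, map_div₀, map_neg, map_ofNat, fixed_herm hF hO he he, ht]
    refine ⟨(hz.add hF (he.smul hF ht)).add hF (hw.smul hF hm), ?_⟩
    simp only [hf.add_left, Unit.add_right hf, hf.smul_left, Unit.smul_right hf, hm, ht, hzz, hww, hzw, hwz, hez,
      hew, herm_swap_rv hF hO he hz, herm_swap_rv hF hO he hw]
    field_simp
    ring
  set A := tform q P g z z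
  set C := tform q P g z w
  set W := tform q P g w w
  rcases hcase with hA | hall
  swap
  · -- the twisted form is a multiple of the form
    have hz0 := hall z hz hzz
    have hw0 := hall w hw hww
    have hc : ∀ e, IsRV q P e → hh e z = 0 → hh e w = 0 →
        tform q P g e e = C * hh e e ∧ (hh e e ≠ 0 → tform q P g z e = 0 ∧ tform q P g w e = 0) := by
      intro e he hez hew
      have hpol : ∀ t, frobEquiv hF t = t → 2 * tform q P g z e * t + (tform q P g e e + 2 * (-hh e e / 2) * C) *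
          (t * t) + 2 * (-hh e e / 2) * tform q P g w e * (t * t * t) = 0 := by
        intro t ht
        have hm : frobEquiv hF (-hh e e / 2 * (t * t)) = -hh e e / 2 * (t * t) := by
          rw [map_mul, map_mul, map_div₀, map_neg, map_ofNat, fixed_herm hF hO he he, ht]
        obtain ⟨hr, h0⟩ := hconic e he hez hew t ht
        have := hall _ hr h0
        simp only [al, ar, sl ht, sr ht, sl hm, sr hm, sy e z, sy w z, sy e w, hz0, hw0] at this
        simp only [C]
        linear_combination this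
      have h₁ := hpol 1 hone
      have h₃ := hpol (-1) hneg
      refine ⟨?_, fun hne => ?_⟩
      · refine mul_left_cancel₀ h2 ?_
        have e2 : (2 : F) * (-hh e e / 2) = -hh e e := by field_simp
        rw [e2] at h₁ h₃
        linear_combination h₁ + h₃
      · have hτ' : frobEquiv hF (-τ) = -τ := by rw [map_neg, hτ]
        have h₅ := hpol τ hτ
        have h₇ := hpol (-τ) hτ'
        have e2 : (2 : F) * (-hh e e / 2) = -hh e e := by field_simp
        rw [e2] at h₁ h₃ h₅ h₇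
        have hwe : tform q P g w e = 0 := by
          have : 2 * (-hh e e) * (τ * τ - 1) * τ * tform q P g w e = 0 := by
            linear_combination h₅ - h₇ - τ * (h₁ - h₃)
          refine (mul_eq_zero.1 this).resolve_left (mul_ne_zero (mul_ne_zero (mul_ne_zero h2 (neg_ne_zero.2 hne))
            (sub_ne_zero.2 hτ1)) hτ0)
        refine ⟨(mul_eq_zero.1 (show (2 * 2) * tform q P g z e = 0 by
          linear_combination h₁ - h₃ + 2 * hh e e * hwe)).resolve_left (mul_ne_zero h2 h2), hwe⟩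
    obtain ⟨c₁, c₁'⟩ := hc e₁ B.e₁_mem he₁z he₁w
    obtain ⟨c₂, c₂'⟩ := hc e₂ B.e₂_mem he₂z he₂w
    obtain ⟨z₁, w₁⟩ := c₁' B.e₁_ne
    obtain ⟨z₂, w₂⟩ := c₂' B.e₂_ne
    have h12 : tform q P g e₁ e₂ = 0 := by
      obtain ⟨c₃, -⟩ := hc (e₁ + e₂) (B.e₁_mem.add hF B.e₂_mem) (by rw [hf.add_left, he₁z, he₂z, add_zero])
        (by rw [hf.add_left, he₁w, he₂w, add_zero])
      simp only [al, ar, sy e₂ e₁, c₁, c₂, hf.add_left, Unit.add_right hf, B.e₂e₁, he₁₂] at c₃
      exact (mul_eq_zero.1 (show (2 : F) * tform q P g e₁ e₂ = 0 by linear_combination c₃)).resolve_left h2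
    refine ⟨C, 0, 0, fun x y hx hy => ?_⟩
    obtain ⟨a, b, c, d, ha, hb, hc', hd, rfl⟩ := hexp x hx
    obtain ⟨a', b', c', d', ha', hb', hc'', hd', rfl⟩ := hexp y hy
    simp only [al, ar, sl ha, sl hb, sl hc', sl hd, sr ha', sr hb', sr hc'', sr hd', sy e₁ z, sy e₂ z, sy e₁ w,
      sy e₂ w, sy w z, sy e₂ e₁, hz0, hw0, c₁, c₂, z₁, w₁, z₂, w₂, h12, hf.add_left, Unit.add_right hf, hf.smul_left,
      Unit.smul_right hf, ha', hb', hc'', hd', hzz, hww, hzw, hwz, he₁z, he₁w, he₂z, he₂w, hze₁, hwe₁, hze₂, hwe₂,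
      B.e₂e₁, he₁₂]
    simp only [C]
    ring
  -- the first vector is off the cone
  set D := tform q P g z e₁
  set H := tform q P g z e₂
  obtain ⟨φ, hGd⟩ : ∃ φ, φ * hh e₁ e₁ = tform q P g e₁ e₁ - D * D / A :=
    ⟨(tform q P g e₁ e₁ - D * D / A) / hh e₁ e₁, div_mul_cancel₀ _ B.e₁_ne⟩
  have hJ : A * tform q P g e₁ e₂ = D * H := I z e₁ e₂ hz B.e₁_mem B.e₂_mem hzz he₁z he₂z he₁₂
  have hG : A * (tform q P g e₁ e₁ - φ * hh e₁ e₁) = D * D := by
    rw [hGd]; field_simp; ring
  have hK : A * (tform q P g e₂ e₂ - φ * hh e₂ e₂) = H * H := by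
    have hn2 : frobEquiv hF (-hh e₁ e₁) = -hh e₁ e₁ := by rw [map_neg, f₁]
    have := I z (e₁ + e₂) (hh e₂ e₂ • e₁ + (-hh e₁ e₁) • e₂) hz (B.e₁_mem.add hF B.e₂_mem)
      ((B.e₁_mem.smul hF f₂).add hF (B.e₂_mem.smul hF hn2)) hzz (by rw [hf.add_left, he₁z, he₂z, add_zero])
      (by rw [hf.add_left, hf.smul_left, hf.smul_left, he₁z, he₂z]; ring)
      (by
        simp only [hf.add_left, Unit.add_right hf, Unit.smul_right hf, f₂, hn2, he₁₂, B.e₂e₁]
        ring)
    simp only [al, ar, sr f₂, sr hn2, sy e₂ e₁] at this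
    refine mul_left_cancel₀ B.e₁_ne ?_
    simp only [D, H] at *
    linear_combination -this + hh e₂ e₂ * hG + (hh e₂ e₂ - hh e₁ e₁) * hJ
  -- the identity along a conic
  have hcoef : ∀ e e', IsRV q P e → IsRV q P e' → hh e z = 0 → hh e w = 0 → hh e' z = 0 → hh e' w = 0 →
      hh e e' = 0 → hh e e ≠ 0 → A * (tform q P g e e - φ * hh e e) = tform q P g z e * tform q P g z e →
      A * tform q P g e e' = tform q P g z e * tform q P g z e' →
      A * tform q P g w e' = (C - φ) * tform q P g z e' ∧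
        (tform q P g e e + 2 * (-hh e e / 2) * C) * tform q P g w e' - tform q P g w e * tform q P g e e' -
          2 * (-hh e e / 2) * W * tform q P g z e' = 0 := by
    intro e e' he he' hez hew he'z he'w hee' hne hG hJ
    have hze' : hh z e' = 0 := by rw [hf.herm, he'z, map_zero]
    have hwe' : hh w e' = 0 := by rw [hf.herm, he'w, map_zero]
    set G := tform q P g e e - φ * hh e e with hGdef
    set J := tform q P g e e'
    set I' := tform q P g w e'
    set E := tform q P g w e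
    set D' := tform q P g z e
    set H' := tform q P g z e'
    set m := -hh e e / 2 with hm
    have hmf : frobEquiv hF m = m := by rw [hm, map_div₀, map_neg, map_ofNat, fixed_herm hF hO he he]
    have hm0 : m ≠ 0 := div_ne_zero (neg_ne_zero.2 hne) h2
    have hpol : ∀ t, frobEquiv hF t = t →
        (A + 2 * D' * t + (tform q P g e e + 2 * m * C) * (t * t) + 2 * m * E * (t * t * t) +
            m * m * W * (t * t * t * t)) * (J + 2 * m * I' * t) =
          (D' + (tform q P g e e + 2 * m * C) * t + 3 * m * E * (t * t) + 2 * (m * m) * W * (t * t * t)) *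
            (H' + J * t + m * I' * (t * t)) := by
      intro t ht
      have hmt : frobEquiv hF (2 * m * t) = 2 * m * t := by rw [map_mul, map_mul, map_ofNat, hmf, ht]
      have hmtt : frobEquiv hF (m * (t * t)) = m * (t * t) := by rw [map_mul, map_mul, hmf, ht]
      obtain ⟨hr, h0⟩ := hconic e he hez hew t ht
      have := I _ (e + (2 * m * t) • w) e' hr (he.add hF (hw.smul hF hmt)) he' h0
        (by
          rw [← hm]
          simp only [hf.add_left, Unit.add_right hf, hf.smul_left, Unit.smul_right hf, hmtt, ht, hez, hew, hwz, hww,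
            herm_swap_rv hF hO he hw]
          rw [hm]; field_simp; ring)
        (by simp only [Unit.add_right hf, Unit.smul_right hf, he'z, he'w, hf.herm e' e, hee', map_zero]; ring)
        (by simp only [hf.add_left, hf.smul_left, hwe', hee']; ring)
      rw [← hm] at this
      simp only [al, ar, sl ht, sr ht, sl hmt, sr hmt, sl hmtt, sr hmtt, sy e z, sy w z, sy e w] at this
      simp only [A, C, W, J, I', E, D', H']
      linear_combination this
    have hGe : tform q P g e e = G + φ * hh e e := by rw [hGdef]; ring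
    have hee : hh e e = -2 * m := by rw [hm]; field_simp
    set K := tform q P g e e + 2 * m * C with hK
    set c₁ := 2 * m * A * I' + D' * J - K * H'
    set c₃ := m * (K * I' - E * J - 2 * m * W * H')
    have hodd : ∀ t, frobEquiv hF t = t → t * (c₁ + c₃ * (t * t)) = 0 := fun t ht => by
      have h₁ := hpol t ht
      have h₃ := hpol (-t) (by rw [map_neg, ht])
      refine mul_left_cancel₀ h2 ?_
      rw [mul_zero]
      simp only [c₁, c₃, K] at *
      linear_combination h₁ - h₃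
    have o₁ := hodd 1 hone
    have hs := (mul_eq_zero.1 (hodd τ hτ)).resolve_left hτ0
    simp only [one_mul, mul_one] at o₁
    have k₃ : c₃ = 0 := (mul_eq_zero.1 (show c₃ * (τ * τ - 1) = 0 by linear_combination hs - o₁)).resolve_right
      (sub_ne_zero.2 hτ1)
    have k₁ : c₁ = 0 := by linear_combination o₁ - k₃
    have eK : A * K = D' * D' + 2 * m * A * (C - φ) := by rw [hK, hGe, hee]; linear_combination hG
    simp only [c₁, c₃] at k₁ k₃
    refine ⟨?_, (mul_eq_zero.1 k₃).resolve_left hm0⟩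
    refine mul_left_cancel₀ (mul_ne_zero (mul_ne_zero h2 hm0) hA) ?_
    linear_combination A * k₁ - D' * hJ + H' * eK
  set J := tform q P g e₁ e₂
  set E := tform q P g w e₁
  set I' := tform q P g w e₂
  obtain ⟨hI, hcub⟩ := hcoef e₁ e₂ B.e₁_mem B.e₂_mem he₁z he₁w he₂z he₂w he₁₂ B.e₁_ne hG hJ
  obtain ⟨hE, hcub'⟩ := hcoef e₂ e₁ B.e₂_mem B.e₁_mem he₂z he₂w he₁z he₁w B.e₂e₁ B.e₂_ne hK
    (by rw [sy e₂ e₁]; linear_combination hJ)
  rw [sy e₂ e₁] at hcub'
  set Δ := A * W - (C - φ) * (C - φ) with hΔ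
  have hΔH : Δ * H = 0 := by
    refine mul_left_cancel₀ (mul_ne_zero B.e₁_ne hA) ?_
    rw [mul_zero]
    have e2 : (2 : F) * (-hh e₁ e₁ / 2) = -hh e₁ e₁ := by field_simp
    rw [e2] at hcub
    simp only [hΔ, J, E, I', D, H] at *
    linear_combination (A * A) * hcub - (A * (tform q P g e₁ e₁ - hh e₁ e₁ * C)) * hI + (A * tform q P g e₁ e₂) * hE +
      (C - φ) * D * hJ - (C - φ) * H * hG
  have hΔD : Δ * D = 0 := by
    refine mul_left_cancel₀ (mul_ne_zero B.e₂_ne hA) ?_
    rw [mul_zero]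
    have e2 : (2 : F) * (-hh e₂ e₂ / 2) = -hh e₂ e₂ := by field_simp
    rw [e2] at hcub'
    simp only [hΔ, J, E, I', D, H] at *
    linear_combination (A * A) * hcub' - (A * (tform q P g e₂ e₂ - hh e₂ e₂ * C)) * hE +
      (A * tform q P g e₁ e₂) * hI + (C - φ) * H * hJ - (C - φ) * D * hK
  by_cases hΔ0 : Δ = 0
  · refine ⟨φ, A⁻¹, (C - φ) • z + A • w + (D / hh e₁ e₁) • e₁ + (H / hh e₂ e₂) • e₂, fun x y hx hy => ?_⟩
    obtain ⟨a, b, c, d, ha, hb, hc', hd, rfl⟩ := hexp x hx
    obtain ⟨a', b', c', d', ha', hb', hc'', hd', rfl⟩ := hexp y hy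
    have n₁ := B.e₁_ne
    have n₂ := B.e₂_ne
    have eW : W = (C - φ) * (C - φ) / A := by rw [eq_div_iff hA]; linear_combination hΔ0
    have eG : tform q P g e₁ e₁ = φ * hh e₁ e₁ + D * D / A := by linear_combination -hGd
    have eK : tform q P g e₂ e₂ = φ * hh e₂ e₂ + H * H / A := by field_simp; linear_combination hK
    have eJ : J = D * H / A := by rw [eq_div_iff hA]; linear_combination hJ
    have eE : E = (C - φ) * D / A := by rw [eq_div_iff hA]; linear_combination hE
    have eI : I' = (C - φ) * H / A := by rw [eq_div_iff hA]; linear_combination hI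
    simp only [A, C, W, D, H, J, E, I'] at *
    simp only [al, ar, sl ha, sl hb, sl hc', sl hd, sr ha', sr hb', sr hc'', sr hd', sy e₁ z, sy e₂ z, sy e₁ w,
      sy e₂ w, sy w z, sy e₂ e₁, eW, eG, eK, eJ, eE, eI, kap_add hF, kap_smul hF, show kap q P z = z from hz,
      show kap q P w = w from hw, show kap q P e₁ = e₁ from B.e₁_mem, show kap q P e₂ = e₂ from B.e₂_mem,
      hf.add_left, Unit.add_right hf, hf.smul_left, Unit.smul_right hf, hf.involutive _, ha', hb', hc'', hd', hzz,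
      hww, hzw, hwz, he₁z, he₁w, he₂z, he₂w, hze₁, hwe₁, hze₂, hwe₂, B.e₂e₁, he₁₂]
    field_simp
    ring
  exfalso
  have hD0 : D = 0 := (mul_eq_zero.1 hΔD).resolve_left hΔ0
  have hH0 : H = 0 := (mul_eq_zero.1 hΔH).resolve_left hΔ0
  have hE0 : E = 0 := (mul_eq_zero.1 (show A * E = 0 by rw [hE, show tform q P g z e₁ = 0 from hD0, mul_zero])).resolve_left hA
  have hI0 : I' = 0 := (mul_eq_zero.1 (show A * I' = 0 by rw [hI, show tform q P g z e₂ = 0 from hH0, mul_zero])).resolve_left hA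
  have hJ0 : J = 0 := (mul_eq_zero.1 (show A * J = 0 by rw [hJ, hD0, zero_mul])).resolve_left hA
  have hG0 : tform q P g e₁ e₁ = φ * hh e₁ e₁ := by rw [hD0] at hGd; linear_combination -hGd
  have hK0 : tform q P g e₂ e₂ = φ * hh e₂ e₂ := by
    refine sub_eq_zero.1 ((mul_eq_zero.1 (show A * _ = 0 from hK.trans ?_)).resolve_left hA)
    rw [hH0, mul_zero]
  obtain ⟨X, Y, hX, hY, hy, hyy⟩ := exists_value hF hO B.e₁_mem B.e₂_mem B.e₁_ne B.e₂_ne B.e₂e₁ (c := -2)
    (by rw [map_neg, map_ofNat])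
  set X' := -(Y * hh e₂ e₂) with hX'def
  set Y' := X * hh e₁ e₁ with hY'def
  have hX' : frobEquiv hF X' = X' := by rw [hX'def, map_neg, map_mul, hY, f₂]
  have hY' : frobEquiv hF Y' = Y' := by rw [hY'def, map_mul, hX, f₁]
  have hy' : IsRV q P (X' • e₁ + Y' • e₂) := (B.e₁_mem.smul hF hX').add hF (B.e₂_mem.smul hF hY')
  set N := hh (X' • e₁ + Y' • e₂) (X' • e₁ + Y' • e₂) with hN
  have hNf : frobEquiv hF N = N := fixed_herm hF hO hy' hy'
  simp only [hf.add_left, Unit.add_right hf, hf.smul_left, Unit.smul_right hf, hX, hY, he₁₂, B.e₂e₁] at hyy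
  have hN' : N = -2 * (hh e₁ e₁ * hh e₂ e₂) := by
    simp only [hN, hf.add_left, Unit.add_right hf, hf.smul_left, Unit.smul_right hf, hX', hY', he₁₂, B.e₂e₁]
    simp only [hX'def, hY'def]
    linear_combination hh e₁ e₁ * hh e₂ e₂ * hyy
  have h2f : frobEquiv hF (2 : F) = 2 := map_ofNat _ _
  have hid := I (z + w + (X • e₁ + Y • e₂)) (z + (-1 : F) • w + (X' • e₁ + Y' • e₂))
    (N • (z + (-1 : F) • w) + (2 : F) • (X' • e₁ + Y' • e₂)) (hp.add hF hy) (hm.add hF hy')
    ((hm.smul hF hNf).add hF (hy'.smul hF h2f))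
    (by
      simp only [hf.add_left, Unit.add_right hf, hf.smul_left, Unit.smul_right hf, hX, hY, hzz, hww, hzw, hwz,
        he₁z, he₁w, he₂z, he₂w, hze₁, hwe₁, hze₂, hwe₂, he₁₂, B.e₂e₁]
      linear_combination hyy)
    (by
      simp only [hf.add_left, Unit.add_right hf, hf.smul_left, Unit.smul_right hf, hX, hY, hzz, hww, hzw, hwz,
        he₁z, he₁w, he₂z, he₂w, hze₁, hwe₁, hze₂, hwe₂, he₁₂, B.e₂e₁]
      simp only [hX'def, hY'def]
      ring)
    (by
      simp only [hf.add_left, Unit.add_right hf, hf.smul_left, Unit.smul_right hf, hX, hY, hzz, hww, hzw, hwz,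
        he₁z, he₁w, he₂z, he₂w, hze₁, hwe₁, hze₂, hwe₂, he₁₂, B.e₂e₁]
      simp only [hX'def, hY'def]
      ring)
    (by
      simp only [hN'] at hNf ⊢
      simp only [hf.add_left, Unit.add_right hf, hf.smul_left, Unit.smul_right hf, hX', hY', hNf, h2f, hneg, hzz,
        hww, hzw, hwz, he₁z, he₁w, he₂z, he₂w, hze₁, hwe₁, hze₂, hwe₂, he₁₂, B.e₂e₁]
      simp only [hX'def, hY'def]
      linear_combination (2 * (hh e₁ e₁ * hh e₂ e₂)) * hyy)
  simp only [E, I', J, D, H] at hE0 hI0 hJ0 hD0 hH0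
  simp only [al, ar, sl hX, sl hY, sl hX', sl hY', sl hNf, sl h2f, sl hneg, sr hX, sr hY, sr hX', sr hY', sr hNf,
    sr h2f, sr hneg, sy e₁ z, sy e₂ z, sy e₁ w, sy e₂ w, sy w z, sy e₂ e₁, hD0, hH0, hE0, hI0, hJ0, hG0, hK0] at hid
  rw [hN'] at hid
  simp only [hX'def, hY'def] at hid
  have hfin : (2 * 2) * (-2 * (hh e₁ e₁ * hh e₂ e₂)) * Δ = 0 := by
    simp only [hΔ, A, C, W]
    linear_combination hid + (-8 * hh e₁ e₁ * hh e₂ e₂ * tform q P g z w * φ + 2 * hh e₁ e₁ * hh e₂ e₂ * φ * φ * (2 - hh e₁ e₁ * (X * X) - hh e₂ e₂ * (Y * Y))) * hyy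
  exact hΔ0 ((mul_eq_zero.1 hfin).resolve_left (mul_ne_zero (mul_ne_zero h2 h2)
    (mul_ne_zero (neg_ne_zero.2 h2) (mul_ne_zero B.e₁_ne B.e₂_ne))))

omit hO in
/-- Two independent vectors orthogonal to two given ones. -/
lemma exists_orth_pair (hn : n = 4) (a b : Fin n → F) : ∃ v₁ v₂, (hh v₁ a = 0 ∧ hh v₁ b = 0) ∧
    (hh v₂ a = 0 ∧ hh v₂ b = 0) ∧ ∀ c₁ c₂ : F, c₁ • v₁ + c₂ • v₂ = 0 → c₁ = 0 ∧ c₂ = 0 := by
  have hf := isUnitaryForm hF (n := n)
  let R : (Fin n → F) →ₗ[F] (Fin 2 → F) := LinearMap.pi fun j => (Unit.linLeft hf).toLin (![a, b] j)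
  have e1 := R.finrank_range_add_finrank_ker
  have e2 : Module.finrank F (LinearMap.range R) ≤ 2 := by simpa using Submodule.finrank_le (LinearMap.range R)
  rw [Module.finrank_fin_fun] at e1
  have hk : ∀ v ∈ LinearMap.ker R, hh v a = 0 ∧ hh v b = 0 := fun v hv =>
    ⟨congrFun (LinearMap.mem_ker.1 hv) 0, congrFun (LinearMap.mem_ker.1 hv) 1⟩
  obtain ⟨v₁, hv₁, hv₁0⟩ := Submodule.exists_mem_ne_zero_of_ne_bot (p := LinearMap.ker R) fun e => by
    rw [e, finrank_bot] at e1; omega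
  obtain ⟨v₂, hv₂, hv₂n⟩ := SetLike.not_le_iff_exists.1 (show ¬ LinearMap.ker R ≤ F ∙ v₁ from fun h => by
    have := Submodule.finrank_mono h
    rw [finrank_span_singleton hv₁0] at this
    omega)
  refine ⟨v₁, v₂, hk v₁ hv₁, hk v₂ hv₂, fun c₁ c₂ h => ?_⟩
  rcases eq_or_ne c₂ 0 with e | e
  · rw [e, zero_smul, add_zero] at h
    exact ⟨(smul_eq_zero.1 h).resolve_right hv₁0, e⟩
  · refine absurd (Submodule.mem_span_singleton.2 ⟨-(c₁ / c₂), ?_⟩) hv₂n
    have h' : c₂ • v₂ = -c₁ • v₁ := by linear_combination (norm := module) h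
    rw [← inv_smul_smul₀ e v₂, h', smul_smul]
    congr 1
    field_simp

/-- A non-zero vector whose line is moved by the rational isometries. -/
lemma exists_moving (hn : n = 4) {w : Fin n → F} (hw0 : w ≠ 0) :
    ∃ x ∈ subfieldSubgroup F₀ P ⊓ suGL n F q, Commutes q P x ∧
      ∀ μ : F, (x : Matrix (Fin n) (Fin n) F) *ᵥ w ≠ μ • w := by
  have hf := isUnitaryForm hF (n := n)
  have h2 := hO.two
  by_contra hcon
  push Not at hcon
  obtain ⟨z, z', hz, hz', hzz, hz'z', hzz', hz'z, -, -⟩ := exists_rv_pair hF hO (Fin.elim0 : Fin 0 → (Fin n → F))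
    (fun j => j.elim0) (by omega)
  have hneg : frobEquiv hF (-1 : F) = -1 := by rw [map_neg, map_one]
  have hp : IsRV q P (z + z') := hz.add hF hz'
  have hm : IsRV q P (z + (-1 : F) • z') := hz.add hF (hz'.smul hF hneg)
  have np : hh (z + z') (z + z') = 2 := by
    simp only [hf.add_left, Unit.add_right hf, hzz, hz'z', hzz', hz'z]; ring
  have nm : hh (z + (-1 : F) • z') (z + (-1 : F) • z') = -2 := by
    simp only [hf.add_left, Unit.add_right hf, hf.smul_left, Unit.smul_right hf, hneg, hzz, hz'z', hzz', hz'z]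
    ring
  have hmp : hh (z + (-1 : F) • z') (z + z') = 0 := by
    simp only [hf.add_left, Unit.add_right hf, hf.smul_left, hzz, hz'z', hzz', hz'z]; ring
  obtain ⟨e₁, e₂, B⟩ := exists_basis hF hO hn hp hm (by rw [np]; exact h2) (by rw [nm]; exact neg_ne_zero.2 h2) hmp
  have hperp : ∀ e, hh e (z + z') = 0 → hh e (z + (-1 : F) • z') = 0 → hh e z = 0 ∧ hh e z' = 0 := fun e a b => by
    rw [Unit.add_right hf] at a b
    rw [Unit.smul_right hf, hneg] at b
    exact ⟨(mul_eq_zero.1 (show (2 : F) * hh e z = 0 by linear_combination a + b)).resolve_left h2,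
      (mul_eq_zero.1 (show (2 : F) * hh e z' = 0 by linear_combination a - b)).resolve_left h2⟩
  obtain ⟨he₁z, he₁z'⟩ := hperp e₁ B.e₁p₁ B.e₁p₂
  obtain ⟨he₂z, he₂z'⟩ := hperp e₂ B.e₂p₁ B.e₂p₂
  have hkill : ∀ v e, IsRV q P v → IsRV q P e → v ≠ 0 → hh v v = 0 → hh e v = 0 → hh e e ≠ 0 →
      hh w v = 0 ∧ hh w e = 0 := by
    intro v e hv he hvne hvv hev hee
    obtain ⟨x, hx, hxe⟩ := exists_rat_eich hF hO hv he hvv hev
    have hcomm : Commutes q P x := fun y hy => by
      rw [hxe y]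
      have hs : frobEquiv hF (-hh e e / 2) = -hh e e / 2 := by
        rw [map_div₀, map_neg, map_ofNat, fixed_herm hF hO he he]
      refine (hy.add hF (he.smul hF (fixed_herm hF hO hy hv))).add hF (hv.smul hF ?_)
      rw [map_sub, map_mul, hs, fixed_herm hF hO hy hv, fixed_herm hF hO hy he]
    obtain ⟨μ, hμ⟩ := hcon x hx hcomm
    rw [hxe w] at hμ
    have hve : hh v e = 0 := by rw [hf.herm, hev, map_zero]
    have e1 := congrArg (fun y => hh y v) hμ
    simp only [hf.add_left, hf.smul_left, hvv, hev] at e1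
    have e2 := congrArg (fun y => hh y e) hμ
    simp only [hf.add_left, hf.smul_left, hve] at e2
    set a := hh w v
    set b := hh w e
    have ha : a = 0 := by
      by_contra ha
      have hμ1 : μ = 1 := mul_right_cancel₀ ha (by linear_combination -e1)
      rw [hμ1] at e2
      exact mul_ne_zero ha hee (by linear_combination e2)
    refine ⟨ha, ?_⟩
    by_contra hb
    have hμ1 : μ = 1 := mul_right_cancel₀ hb (by rw [ha] at e2; linear_combination -e2)
    rw [hμ1, one_smul, ha] at hμ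
    have hv0 : -b • v = 0 := by linear_combination (norm := module) hμ
    exact hvne ((smul_eq_zero.1 hv0).resolve_left (neg_ne_zero.2 hb))
  have hz0 : z ≠ 0 := fun e => by
    rw [e, LinLeft.zero_left ⟨CfsgLib.Unitary.herm_add_left n, CfsgLib.Unitary.herm_smul_left n⟩] at hzz'
    exact zero_ne_one hzz'
  have hz'0 : z' ≠ 0 := fun e => by
    rw [e, LinLeft.zero_left ⟨CfsgLib.Unitary.herm_add_left n, CfsgLib.Unitary.herm_smul_left n⟩] at hz'z
    exact zero_ne_one hz'z
  obtain ⟨k₁, k₂⟩ := hkill z e₁ hz B.e₁_mem hz0 hzz he₁z B.e₁_ne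
  obtain ⟨-, k₃⟩ := hkill z e₂ hz B.e₂_mem hz0 hzz he₂z B.e₂_ne
  obtain ⟨k₄, -⟩ := hkill z' e₁ hz' B.e₁_mem hz'0 hz'z' he₁z' B.e₁_ne
  refine hw0 (eq_zero_of_orth hF hn (B.li hF) fun i => ?_)
  fin_cases i <;>
    simp [Unit.add_right hf, Unit.smul_right hf, k₁, k₂, k₃, k₄, -neg_smul, -neg_one_smul]

/-- Every element of a proper overgroup multiplies the twisted form by a scalar. -/
theorem tform_scalar (hn : n = 4) (hq : 5 ≤ q) (hM : subfieldSubgroup F₀ P ⊓ suGL n F q ≤ M)
    (hMI : M ≤ suGL n F q) (hnot : ¬ suGL n F q ≤ M) {g : GL (Fin n) F} (hg : g ∈ M) :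
    ∃ φ : F, ∀ x y, IsRV q P x → IsRV q P y → tform q P g x y = φ * hh x y := by
  have hf := isUnitaryForm hF (n := n)
  obtain ⟨δ, hδ0, hδ⟩ := exists_delta hF
  -- the semilinear conjugate as a linear map
  have key : ∀ g' ∈ M, ∃ (φ ε : F) (w : Fin n → F),
      (∀ x y, IsRV q P x → IsRV q P y → tform q P g' x y = φ * hh x y + ε * (hh x (kap q P w) * hh w y)) ∧
      ∀ y, kap q P ((g' : Matrix (Fin n) (Fin n) F) *ᵥ kap q P y) =
        (g' : Matrix (Fin n) (Fin n) F) *ᵥ (φ • y + (ε * hh y (kap q P w)) • w) := by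
    intro g' hg'
    obtain ⟨φ, ε, w, h⟩ := tform_rank_one hF hO hn hq hM hMI hnot hg'
    refine ⟨φ, ε, w, h, ?_⟩
    have hrat : ∀ x, IsRV q P x → kap q P ((g' : Matrix (Fin n) (Fin n) F) *ᵥ x) =
        (g' : Matrix (Fin n) (Fin n) F) *ᵥ (φ • x + (ε * hh x (kap q P w)) • w) := by
      intro x hx
      set D := kap q P ((g' : Matrix (Fin n) (Fin n) F) *ᵥ x) +
        (-1 : F) • ((g' : Matrix (Fin n) (Fin n) F) *ᵥ (φ • x + (ε * hh x (kap q P w)) • w)) with hD
      have hy0 : ∀ y, IsRV q P y → hh D ((g' : Matrix (Fin n) (Fin n) F) *ᵥ y) = 0 := fun y hy => by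
        have := h x y hx hy
        rw [tform] at this
        rw [hD, hf.add_left, hf.smul_left, this, herm_mulVec (hMI hg'), hf.add_left, hf.smul_left, hf.smul_left]
        ring
      have hall : ∀ v, hh v D = 0 := fun v => by
        obtain ⟨a, b, ha, hb, ev, -, -, -⟩ :=
          exists_parts hF hO hδ0 hδ (((g'⁻¹ : GL (Fin n) F) : Matrix (Fin n) (Fin n) F) *ᵥ v)
        rw [← mulVec_inv_mulVec g' v, ev, Matrix.mulVec_add, Matrix.mulVec_smul, hf.add_left, hf.smul_left,
          hf.herm _ D, hy0 a ha, hf.herm _ D, hy0 b hb, map_zero, mul_zero, add_zero]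
      have hD0 : D = 0 := by
        by_contra h0
        obtain ⟨⟨v, hv⟩, -⟩ := hf.nondegenerate D h0
        exact hv (hall v)
      rw [hD, neg_one_smul, add_neg_eq_zero] at hD0
      exact hD0
    intro y
    obtain ⟨a, b, ha, hb, ey, eky, -, -⟩ := exists_parts hF hO hδ0 hδ y
    rw [eky, ey, Matrix.mulVec_sub, Matrix.mulVec_smul, kap_sub hF, kap_smul hF, hrat a ha, hrat b hb, hδ,
      hf.add_left, hf.smul_left]
    simp only [Matrix.mulVec_add, Matrix.mulVec_smul]
    module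
  obtain ⟨φ, ε, w, hgw, hT⟩ := key g hg
  by_cases htriv : ε = 0 ∨ w = 0
  · refine ⟨φ, fun x y hx hy => ?_⟩
    rw [hgw x y hx hy]
    rcases htriv with e | e
    · rw [e, zero_mul, add_zero]
    · rw [e, LinLeft.zero_left ⟨CfsgLib.Unitary.herm_add_left n, CfsgLib.Unitary.herm_smul_left n⟩, mul_zero,
        mul_zero, add_zero]
  exfalso
  push Not at htriv
  obtain ⟨hε, hw0⟩ := htriv
  obtain ⟨x, hx, hxc, hxw⟩ := exists_moving hF hO hn hw0
  set w₁ := ((x⁻¹ : GL (Fin n) F) : Matrix (Fin n) (Fin n) F) *ᵥ w with hw₁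
  have hxw₁ : (x : Matrix (Fin n) (Fin n) F) *ᵥ w₁ = w := by rw [hw₁, mulVec_inv_mulVec]
  have hkw : (x : Matrix (Fin n) (Fin n) F) *ᵥ kap q P w₁ = kap q P w := by
    rw [commutes_kap hF hO hxc, hxw₁]
  have hkap : ∀ v v' : Fin n → F, hh (kap q P v) (kap q P v') = frobEquiv hF (hh v v') := herm_kap hF hO
  have hind : ∀ c₁ c₂ : F, c₁ • w₁ + c₂ • w = 0 → c₁ = 0 ∧ c₂ = 0 := fun c₁ c₂ h => by
    rcases eq_or_ne c₁ 0 with e | e
    · rw [e, zero_smul, zero_add] at h
      exact ⟨e, (smul_eq_zero.1 h).resolve_right hw0⟩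
    · refine absurd ?_ (hxw (-(c₁ / c₂)))
      have h' := congrArg (fun v => (x : Matrix (Fin n) (Fin n) F) *ᵥ v) h
      simp only [Matrix.mulVec_add, Matrix.mulVec_smul, hxw₁, Matrix.mulVec_zero] at h'
      rcases eq_or_ne c₂ 0 with e₂ | e₂
      · rw [e₂, zero_smul, add_zero] at h'
        exact absurd h' (smul_ne_zero e hw0)
      · have : c₂ • ((x : Matrix (Fin n) (Fin n) F) *ᵥ w) = -c₁ • w := by
          linear_combination (norm := module) h'
        rw [← inv_smul_smul₀ e₂ ((x : Matrix (Fin n) (Fin n) F) *ᵥ w), this, smul_smul]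
        congr 1
        field_simp
  -- the conjugate of the moving isometry
  set k := g * x * g⁻¹ with hk
  obtain ⟨φ', ε', w', -, hT'⟩ := key k (M.mul_mem (M.mul_mem hg (hM hx)) (M.inv_mem hg))
  set d := ((g⁻¹ : GL (Fin n) F) : Matrix (Fin n) (Fin n) F) *ᵥ w'
  have hrel : ∀ v : Fin n → F, ∃ ψ : F, (φ - φ' * φ) • v + (ε * hh v (kap q P w₁)) • w₁ +
      (-(φ' * (ε * hh v (kap q P w)))) • w = ψ • d := by
    intro v
    refine ⟨ε' * hh (φ • ((g : Matrix (Fin n) (Fin n) F) *ᵥ v) + (ε * hh v (kap q P w)) • ((g : Matrix (Fin n) (Fin n) F) *ᵥ w)) (kap q P w'), ?_⟩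
    have h1 := hT' ((g : Matrix (Fin n) (Fin n) F) *ᵥ (φ • v + (ε * hh v (kap q P w)) • w))
    rw [← hT v, kap_kap hF, hT v] at h1
    rw [hk, mul_mulVec, mul_mulVec, inv_mulVec_mulVec, commutes_kap hF hO hxc, hT,
      Matrix.mulVec_add, Matrix.mulVec_smul, Matrix.mulVec_smul, mul_mulVec, mul_mulVec] at h1
    have h2 := congrArg (fun u => ((x⁻¹ : GL (Fin n) F) : Matrix (Fin n) (Fin n) F) *ᵥ
      (((g⁻¹ : GL (Fin n) F) : Matrix (Fin n) (Fin n) F) *ᵥ u)) h1
    simp only [Matrix.mulVec_add, Matrix.mulVec_smul, inv_mulVec_mulVec, ← hw₁] at h2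
    have hxv : hh ((x : Matrix (Fin n) (Fin n) F) *ᵥ v) (kap q P w) = hh v (kap q P w₁) := by
      rw [← hkw, herm_mulVec (hMI (hM hx))]
    rw [hxv] at h2
    linear_combination (norm := (simp only [d]; module)) h2
  by_cases hφ1 : φ - φ' * φ = 0
  · obtain ⟨z, hz1, hz2⟩ : ∃ z, hh z (kap q P w₁) = 1 ∧ hh z (kap q P w) = 0 := by
      obtain ⟨z, hz, hwz⟩ := exists_form_of_notMem hF (F ∙ kap q P w) (u := kap q P w₁) fun hc => by
        obtain ⟨c, hc⟩ := Submodule.mem_span_singleton.1 hc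
        have h1 := congrArg (kap q P) hc
        rw [kap_smul hF, kap_kap hF, kap_kap hF] at h1
        exact one_ne_zero (hind 1 (-(frobEquiv hF c)) (by rw [← h1]; module)).1
      exact ⟨z, by rw [hf.herm, hwz, map_one], hz _ (Submodule.mem_span_singleton_self _)⟩
    obtain ⟨z', hz1', hz2'⟩ : ∃ z, hh z (kap q P w₁) = 0 ∧ hh z (kap q P w) = 1 := by
      obtain ⟨z, hz, hwz⟩ := exists_form_of_notMem hF (F ∙ kap q P w₁) (u := kap q P w) fun hc => by
        obtain ⟨c, hc⟩ := Submodule.mem_span_singleton.1 hc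
        have h1 := congrArg (kap q P) hc
        rw [kap_smul hF, kap_kap hF, kap_kap hF] at h1
        exact neg_ne_zero.2 one_ne_zero (hind (frobEquiv hF c) (-1) (by rw [← h1]; module)).2
      exact ⟨z, hz _ (Submodule.mem_span_singleton_self _), by rw [hf.herm, hwz, map_one]⟩
    obtain ⟨ψ, hψ⟩ := hrel z
    obtain ⟨ψ', hψ'⟩ := hrel z'
    rw [hφ1, hz1, hz2] at hψ
    rw [hφ1, hz1', hz2'] at hψ'
    have hψ0 : ψ ≠ 0 := fun e => hε (hind ε 0 (by rw [e] at hψ; linear_combination (norm := module) hψ)).1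
    have h5 := (hind (ψ' * ε) (ψ * (φ' * ε))
      (by linear_combination (norm := module) ψ' • hψ - ψ • hψ')).2
    rcases eq_or_ne φ' 0 with e | e
    · have hφ0 : φ = 0 := by rw [e, zero_mul, sub_zero] at hφ1; exact hφ1
      obtain ⟨v, v', hv, -, hvli⟩ := exists_orth_pair hF hn (kap q P w) (kap q P w)
      suffices hv0 : v = 0 from one_ne_zero (hvli 1 0 (by rw [hv0, smul_zero, zero_smul, add_zero])).1
      have h6 := hT v
      rw [hφ0, hv.1, mul_zero, zero_smul, zero_smul, add_zero, Matrix.mulVec_zero] at h6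
      have h7 := congrArg (kap q P) h6
      rw [kap_kap hF, show kap q P (0 : Fin n → F) = 0 from isRV_zero hF] at h7
      have h8 := congrArg (fun u => kap q P (((g⁻¹ : GL (Fin n) F) : Matrix (Fin n) (Fin n) F) *ᵥ u)) h7
      simp only [inv_mulVec_mulVec, kap_kap hF, Matrix.mulVec_zero, show kap q P (0 : Fin n → F) = 0 from isRV_zero hF]
        at h8
      exact h8
    · exact mul_ne_zero hψ0 (mul_ne_zero e hε) h5
  · obtain ⟨v₁, v₂, ⟨a₁, b₁⟩, ⟨a₂, b₂⟩, hli⟩ := exists_orth_pair hF hn (kap q P w₁) (kap q P w)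
    obtain ⟨ψ₁, h₁⟩ := hrel v₁
    obtain ⟨ψ₂, h₂⟩ := hrel v₂
    rw [a₁, b₁] at h₁
    rw [a₂, b₂] at h₂
    have := hli (ψ₂ * (φ - φ' * φ)) (-(ψ₁ * (φ - φ' * φ)))
      (by linear_combination (norm := module) ψ₂ • h₁ - ψ₁ • h₂)
    have hψ₁ : ψ₁ = 0 := (mul_eq_zero.1 (neg_eq_zero.1 this.2)).resolve_right hφ1
    rw [hψ₁] at h₁
    exact hφ1 (hli (φ - φ' * φ) 0 (by linear_combination (norm := module) h₁)).1

/-- The orthogonal subfield group in dimension four is maximal. -/
theorem orthSub_key4 (hn : n = 4) (hq : 5 ≤ q) (hM : subfieldSubgroup F₀ P ⊓ suGL n F q ≤ M)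
    (hMI : M ≤ suGL n F q) (hMX : ¬ M ≤ subfieldSubgroup F₀ P) : suGL n F q ≤ M := by
  by_contra hnot
  refine hMX fun g hg => ?_
  have hu := isUnitaryForm hF (n := n)
  have h2 := hO.two
  obtain ⟨δ, hδ0, hδ⟩ := exists_delta hF
  obtain ⟨φ, hs⟩ := tform_scalar hF hO hn hq hM hMI hnot hg
  have hall : ∀ u, IsRV q P u → kap q P ((g : Matrix (Fin n) (Fin n) F) *ᵥ u) =
      φ • ((g : Matrix (Fin n) (Fin n) F) *ᵥ u) := by
    intro u hu'
    set D := kap q P ((g : Matrix (Fin n) (Fin n) F) *ᵥ u) + (-φ) • ((g : Matrix (Fin n) (Fin n) F) *ᵥ u) with hD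
    have hy0 : ∀ y, IsRV q P y → hh D ((g : Matrix (Fin n) (Fin n) F) *ᵥ y) = 0 := fun y hy => by
      have := hs u y hu' hy
      rw [tform] at this
      rw [hD, hu.add_left, hu.smul_left, this, herm_mulVec (hMI hg)]
      ring
    have hall0 : ∀ v, hh v D = 0 := fun v => by
      obtain ⟨a, b, ha, hb, ev, -, -, -⟩ :=
        exists_parts hF hO hδ0 hδ (((g⁻¹ : GL (Fin n) F) : Matrix (Fin n) (Fin n) F) *ᵥ v)
      rw [← mulVec_inv_mulVec g v, ev, Matrix.mulVec_add, Matrix.mulVec_smul, hu.add_left, hu.smul_left,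
        hu.herm _ D, hy0 a ha, hu.herm _ D, hy0 b hb, map_zero, mul_zero, add_zero]
    have hD0 : D = 0 := by
      by_contra h0
      obtain ⟨⟨v, hv⟩, -⟩ := hu.nondegenerate D h0
      exact hv (hall0 v)
    rw [hD, neg_smul, add_neg_eq_zero] at hD0
    exact hD0
  obtain ⟨z, w, hz, -, -, -, hzw, -, -, -⟩ := exists_rv_pair hF hO (Fin.elim0 : Fin 0 → (Fin n → F))
    (fun j => j.elim0) (by omega)
  have hgz : (g : Matrix (Fin n) (Fin n) F) *ᵥ z ≠ 0 := fun e => by
    have h1 := inv_mulVec_mulVec g z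
    rw [e, Matrix.mulVec_zero] at h1
    rw [← h1, LinLeft.zero_left ⟨CfsgLib.Unitary.herm_add_left n, CfsgLib.Unitary.herm_smul_left n⟩] at hzw
    exact zero_ne_one hzw
  have hmm : φ * frobEquiv hF φ = 1 := by
    have h1 := congrArg (kap q P) (hall z hz)
    rw [kap_kap hF, kap_smul hF, hall z hz, smul_smul] at h1
    have h3 : (1 : F) • ((g : Matrix (Fin n) (Fin n) F) *ᵥ z) = _ := (one_smul F _).trans h1
    rw [mul_comm]
    exact (smul_left_injective F hgz h3).symm
  obtain ⟨y, hy⟩ : ∃ y, y + φ * frobEquiv hF y ≠ 0 := by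
    by_contra hc
    push Not at hc
    refine hu.ne_refl (RingEquiv.ext fun a => ?_)
    have h1 := hc 1
    have h3 := hc a
    rw [map_one, mul_one] at h1
    simp only [RingEquiv.refl_apply]
    linear_combination -h3 + frobEquiv hF a * h1
  refine mem_subfield_of_scaled hO hy fun x hx => ?_
  rw [IsRV, kap_smul hF, hall x hx, smul_smul, map_add, map_mul, hu.involutive y]
  congr 1
  linear_combination y * hmm

/-- The orthogonal subfield group is proper. -/
theorem orthSub_proper4 (hn : n = 4) : ¬ suGL n F q ≤ subfieldSubgroup F₀ P := by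
  have h2 := hO.two
  have hu := isUnitaryForm hF (n := n)
  intro hle
  obtain ⟨δ, hδ0, hδ⟩ := exists_delta hF
  obtain ⟨v, w, hv, hw, hvv, hww, hvw, hwv, -, -⟩ := exists_rv_pair hF hO (Fin.elim0 : Fin 0 → (Fin n → F))
    (fun j => j.elim0) (by omega)
  have hneg : frobEquiv hF (-1 : F) = -1 := by rw [map_neg, map_one]
  have hmp : hh (v + (-1 : F) • w) (v + w) = 0 := by
    simp only [hu.add_left, Unit.add_right hu, hu.smul_left, hvv, hww, hvw, hwv]; ring
  obtain ⟨x, x', B⟩ := exists_basis hF hO hn (hv.add hF hw) (hv.add hF (hw.smul hF hneg))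
    (by
      simp only [hu.add_left, Unit.add_right hu, hvv, hww, hvw, hwv]
      rw [show (0 : F) + 1 + (1 + 0) = 2 by ring]
      exact h2)
    (by
      simp only [hu.add_left, Unit.add_right hu, hu.smul_left, Unit.smul_right hu, hneg, hvv, hww, hvw, hwv]
      rw [show (0 : F) + -1 * 1 + (-1 * 1 + -1 * (-1 * 0)) = -2 by ring]
      exact neg_ne_zero.2 h2) hmp
  have hx := B.e₁_mem
  have hxx := B.e₁_ne
  obtain ⟨hxv, hxw⟩ : hh x v = 0 ∧ hh x w = 0 := by
    have a := B.e₁p₁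
    have b := B.e₁p₂
    rw [Unit.add_right hu] at a b
    rw [Unit.smul_right hu, hneg] at b
    exact ⟨(mul_eq_zero.1 (show (2 : F) * hh x v = 0 by linear_combination a + b)).resolve_left h2,
      (mul_eq_zero.1 (show (2 : F) * hh x w = 0 by linear_combination a - b)).resolve_left h2⟩
  set s := δ * δ * hh x x / 2 with hs
  have hsf : frobEquiv hF s = s := by
    rw [hs, map_div₀, map_mul, map_mul, map_ofNat, hδ, fixed_herm hF hO hx hx]; ring
  obtain ⟨A, hA, hAe⟩ := exists_eich hF hvv (x := δ • x) (by rw [hu.smul_left, hxv, mul_zero]) (s := s) (by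
    rw [← frobEquiv_apply hF, hsf, hu.smul_left, Unit.smul_right hu, hδ, hs]; field_simp; ring)
  obtain ⟨d, hd0, hd⟩ := exists_scaled_of_mem_subfield hO (hle hA)
  have hAv : (A : Matrix (Fin n) (Fin n) F) *ᵥ v = v := by
    rw [hAe v, hvv, Unit.smul_right hu, hu.herm v x, hxv, map_zero]
    module
  have hd' : frobEquiv hF d = d := by
    have h1 := hd v hv
    rw [hAv, IsRV, kap_smul hF, hv] at h1
    exact smul_left_injective F (fun e => by
      rw [e, LinLeft.zero_left ⟨CfsgLib.Unitary.herm_add_left n, CfsgLib.Unitary.herm_smul_left n⟩] at hvw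
      exact zero_ne_one hvw) h1
  have hAw : (A : Matrix (Fin n) (Fin n) F) *ᵥ w = w + δ • x + s • v := by
    rw [hAe w, hwv, Unit.smul_right hu, hu.herm w x, hxw, map_zero]
    module
  have h1 := hd w hw
  rw [hAw, IsRV, kap_smul hF, hd', kap_add hF, kap_add hF, kap_smul hF, kap_smul hF, hδ, hsf, hv, hw, hx] at h1
  have h3 := congrArg (fun y => hh y x) (smul_right_injective _ hd0 h1)
  simp only [hu.add_left, hu.smul_left, hu.herm w x, hxw, hu.herm v x, hxv, map_zero, mul_zero, add_zero,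
    zero_add] at h3
  exact mul_ne_zero (mul_ne_zero h2 hδ0) hxx (by linear_combination -h3)

end CfsgLib.Geo.SUFour
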