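import Cfsg.Agent.Elusive.PauliElements
import Cfsg.Agent.Geo.UnitTv

/-!
A symplectic-type group of order 64 made of isometries of a unitary form in dimension four, brought to standard
position by an isometry.
-/

set_option autoImplicit false

namespace CfsgLib.Geo.SUFour

open Matrix Cfsg.Geo CfsgLib.Elusive.Pauli CfsgLib.Geo.UTv

variable {K : Type*} [Field K] [Finite K]

/-- The facts about the group used for the frame. -/
theorem sym_of_sympType {p : ℕ} (hK : Nat.card K = p ^ 2) (hp : Odd p) {R : Subgroup (GL (Fin 4) K)}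
    (hRs : IsSymplecticTypeGroup 2 R) (hRi : ActsAbsolutelyIrreducibly (matrixSet R)) (hR6 : Nat.card R = 2 ^ 6)
    (hZ4 : Nat.card (Subgroup.center R) = 4) : ∃ i, Sym R i := by
  classical
  haveI := Fintype.ofFinite K
  have h2 : (2 : K) ≠ 0 := by
    intro e
    have hch : ringChar K = 2 := CharP.ringChar_of_prime_eq_zero Nat.prime_two (by exact_mod_cast e)
    have := FiniteField.even_card_iff_char_two.1 hch
    rw [← Nat.card_eq_fintype_card, hK] at this
    have h' : Odd (p ^ 2) := hp.pow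
    rw [Nat.odd_iff] at h'
    omega
  obtain ⟨i, hi⟩ : IsSquare (-1 : K) := FiniteField.isSquare_neg_one_iff.2 (by
    rw [← Nat.card_eq_fintype_card, hK]
    obtain ⟨m, rfl⟩ := hp
    ring_nf
    omega)
  refine ⟨i, ?_⟩
  haveI : Finite (GL (Fin 4) K) := inferInstance
  have h4 : ∀ x ∈ R, x ^ 4 = 1 := fun x hx => by
    have h := Monoid.pow_exponent_eq_one (⟨x, hx⟩ : R)
    rw [hRs.exponent_eq] at h
    exact congrArg Subtype.val h
  have hcomm := CfsgLib.Symp.comm_central_aux (Nat.card R) R rfl hRs.pGroup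
    (fun x => Subtype.ext (h4 x.1 x.2)) hRs.cyclic_of_characteristic
  have hM : ∀ M : Matrix (Fin 4) (Fin 4) K,
      (∀ g ∈ R, M * (g : Matrix (Fin 4) (Fin 4) K) = g * M) → ∃ c : K, M = c • 1 := fun M h =>
    hRi.2 M (by rintro _ ⟨g, hg, rfl⟩; exact h g hg)
  have hcent : ∀ z : R, z ∈ Subgroup.center R →
      ∃ c : K, ((z : GL (Fin 4) K) : Matrix (Fin 4) (Fin 4) K) = c • 1 ∧ c ^ 4 = 1 := fun z hz => by
    obtain ⟨c, hc⟩ := hM (z : GL (Fin 4) K) (fun g hg => by
      have := Subgroup.mem_center_iff.1 hz ⟨g, hg⟩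
      exact (congrArg (fun u : R => ((u : GL (Fin 4) K) : Matrix (Fin 4) (Fin 4) K)) this).symm)
    refine ⟨c, hc, ?_⟩
    have h := congrArg (fun u : GL (Fin 4) K => (u : Matrix (Fin 4) (Fin 4) K) 0 0) (h4 z z.2)
    simp only [Units.val_pow_eq_pow_val, hc, smul_pow, one_pow, Matrix.smul_apply, Units.val_one,
      Matrix.one_apply_eq, smul_eq_mul, mul_one] at h
    exact h
  refine ⟨h2, hi.symm, hM, ?_, ?_, hR6, h4⟩
  · intro c hc
    choose f hf hf4 using fun z : Subgroup.center R => hcent z.1 z.2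
    have hinj : Function.Injective f := fun a b e => Subtype.ext (Subtype.ext (Units.ext (by rw [hf, hf, e])))
    let S : Finset K := (Polynomial.nthRoots 4 (1 : K)).toFinset
    have hS : S.card ≤ 4 := (Multiset.toFinset_card_le _).trans (Polynomial.card_nthRoots 4 1)
    haveI : Fintype (Subgroup.center R) := Fintype.ofFinite _
    have himg : Finset.univ.image f = S := by
      refine Finset.eq_of_subset_of_card_le ?_ ?_
      · intro y hy
        obtain ⟨z, -, rfl⟩ := Finset.mem_image.1 hy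
        exact Multiset.mem_toFinset.2 ((Polynomial.mem_nthRoots (by norm_num)).2 (hf4 z))
      · rw [Finset.card_image_of_injective _ hinj, Finset.card_univ, ← Nat.card_eq_fintype_card, hZ4]
        exact hS
    have hmem : c ∈ Finset.univ.image f := by
      rw [himg]; exact Multiset.mem_toFinset.2 ((Polynomial.mem_nthRoots (by norm_num)).2 hc)
    obtain ⟨z, -, rfl⟩ := Finset.mem_image.1 hmem
    exact ⟨_, z.1.2, hf z⟩
  · intro x hx y hy
    obtain ⟨hz, hzz⟩ := hcomm ⟨x, hx⟩ ⟨y, hy⟩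
    obtain ⟨c, hc, -⟩ := hcent _ hz
    have hxy : (x : Matrix (Fin 4) (Fin 4) K) * y = c • ((y : Matrix (Fin 4) (Fin 4) K) * x) := by
      rw [← one_mul ((y : Matrix (Fin 4) (Fin 4) K) * x), ← smul_mul_assoc, ← hc, ← Units.val_mul,
        ← Units.val_mul, ← Units.val_mul]
      refine congrArg Units.val ?_
      show x * y = x * y * x⁻¹ * y⁻¹ * (y * x)
      group
    have hc2 : c * c = 1 := by
      have h := congrArg (fun u : R => ((u : GL (Fin 4) K) : Matrix (Fin 4) (Fin 4) K) 0 0) hzz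
      simp only [Subgroup.coe_mul, Units.val_mul] at h
      simp only [Subgroup.coe_mul, Units.val_mul] at hc
      rw [hc] at h
      simpa using h
    rcases mul_self_eq_one_iff.1 hc2 with rfl | rfl
    · exact Or.inl (by rw [hxy, one_smul])
    · exact Or.inr (by rw [hxy, neg_one_smul])

/-- A group of isometries in standard position after an isometry. -/
theorem exists_std_unit {q : ℕ} (hK : Nat.card K = q ^ 2) {R : Subgroup (GL (Fin 4) K)} {i : K} (hS : Sym R i)
    (hR : R ≤ Cfsg.GU 4 K q) :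
    ∃ P ∈ Cfsg.GU 4 K q, Std (R.map (MulAut.conj P⁻¹).toMonoidHom) i := by
  classical
  have hf := isUnitaryForm hK (n := 4)
  haveI := Fintype.ofFinite K
  obtain ⟨P, hstd⟩ := CfsgLib.Elusive.Pauli.exists_std hS
  set H : Matrix (Fin 4) (Fin 4) K := fun a b => Cfsg.hermForm 4 K q
    ((P : Matrix (Fin 4) (Fin 4) K) *ᵥ Pi.single a 1) ((P : Matrix (Fin 4) (Fin 4) K) *ᵥ Pi.single b 1) with hH
  have hPval : ∀ u v : Fin 4 → K, Cfsg.hermForm 4 K q ((P : Matrix (Fin 4) (Fin 4) K) *ᵥ u)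
      ((P : Matrix (Fin 4) (Fin 4) K) *ᵥ v) = u ⬝ᵥ (H *ᵥ fun b => frobEquiv hK (v b)) := by
    intro u v
    have hsum : ∀ w : Fin 4 → K, (P : Matrix (Fin 4) (Fin 4) K) *ᵥ w =
        ∑ a, w a • ((P : Matrix (Fin 4) (Fin 4) K) *ᵥ Pi.single a 1) := fun w => by
      conv_lhs => rw [show w = ∑ a, w a • (Pi.single a 1 : Fin 4 → K) by
        funext j; simp [Finset.sum_apply, Pi.single_apply]]
      simp only [Matrix.mulVec_sum, Matrix.mulVec_smul]
    rw [hsum u, hsum v]
    simp only [Fin.sum_univ_four, hf.add_left, Unit.add_right hf, hf.smul_left, Unit.smul_right hf, dotProduct,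
      Matrix.mulVec, hH]
    ring
  have hinv : ∀ M, InR (R.map (MulAut.conj P⁻¹).toMonoidHom) M →
      Mᵀ * H * M.map (frobEquiv hK) = H := by
    rintro _ ⟨_, ⟨g, hg, rfl⟩, rfl⟩
    ext a b
    have h := mem_GU.1 (hR hg) ((P : Matrix (Fin 4) (Fin 4) K) *ᵥ Pi.single a 1)
      ((P : Matrix (Fin 4) (Fin 4) K) *ᵥ Pi.single b 1)
    set M := (((MulAut.conj P⁻¹).toMonoidHom g : GL (Fin 4) K) : Matrix (Fin 4) (Fin 4) K) with hM
    have hgP : ∀ w, (g : Matrix (Fin 4) (Fin 4) K) *ᵥ ((P : Matrix (Fin 4) (Fin 4) K) *ᵥ w) =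
        (P : Matrix (Fin 4) (Fin 4) K) *ᵥ (M *ᵥ w) := fun w => by
      rw [hM, Matrix.mulVec_mulVec, Matrix.mulVec_mulVec, ← Units.val_mul, ← Units.val_mul]
      simp [mul_assoc]
    rw [hgP, hgP, hPval, Matrix.mulVec_single_one, Matrix.mulVec_single_one] at h
    refine Eq.trans ?_ h
    simp only [dotProduct, Matrix.mulVec, Matrix.mul_apply, Matrix.transpose_apply,
      Matrix.map_apply, Matrix.col_apply, Fin.sum_univ_four]
    ring
  have hcomm : ∀ M, InR (R.map (MulAut.conj P⁻¹).toMonoidHom) M → Mᵀ = M → M.map (frobEquiv hK) = M → M * M = 1 →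
      H * M = M * H := by
    intro M hM ht hfr hMM
    have h := hinv M hM
    rw [ht, hfr] at h
    conv_rhs => rw [← h, ← mul_assoc, ← mul_assoc, hMM, one_mul]
  obtain ⟨c, hc⟩ := commutant_std hS.two (M := H)
    (hcomm _ hstd.a₁ (by simp [A₁]) (by
      ext a b; fin_cases a <;> fin_cases b <;> simp [A₁, Matrix.diagonal]) A₁_sq)
    (hcomm _ hstd.a₂ (by simp [A₂]) (by
      ext a b; fin_cases a <;> fin_cases b <;> simp [A₂, Matrix.diagonal]) A₂_sq)
    (hcomm _ hstd.b₁ (by ext a b; fin_cases a <;> fin_cases b <;> simp [B₁]) (by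
      ext a b; fin_cases a <;> fin_cases b <;> simp [B₁]) (by
      ext a b; fin_cases a <;> fin_cases b <;> simp [B₁, Matrix.mul_apply, Fin.sum_univ_four]))
    (hcomm _ hstd.b₂ (by ext a b; fin_cases a <;> fin_cases b <;> simp [B₂]) (by
      ext a b; fin_cases a <;> fin_cases b <;> simp [B₂]) (by
      ext a b; fin_cases a <;> fin_cases b <;> simp [B₂, Matrix.mul_apply, Fin.sum_univ_four]))
  have h00 : Cfsg.hermForm 4 K q ((P : Matrix (Fin 4) (Fin 4) K) *ᵥ Pi.single 0 1)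
      ((P : Matrix (Fin 4) (Fin 4) K) *ᵥ Pi.single 0 1) = c := by
    have := congrFun (congrFun hc 0) 0
    simpa [hH] using this
  have hσc : frobEquiv hK c = c := by rw [← h00]; exact (hf.herm _ _).symm
  have hc0 : c ≠ 0 := by
    intro e
    have hP0 : (P : Matrix (Fin 4) (Fin 4) K) *ᵥ Pi.single 0 1 ≠ 0 := fun h => by
      have := congrArg (fun w => ((P⁻¹ : GL (Fin 4) K) : Matrix (Fin 4) (Fin 4) K) *ᵥ w) h
      rw [Matrix.mulVec_mulVec, ← Units.val_mul, inv_mul_cancel, Units.val_one, Matrix.one_mulVec,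
        Matrix.mulVec_zero] at this
      simpa using congrFun this 0
    obtain ⟨-, w, hw⟩ := hf.nondegenerate _ hP0
    refine hw ?_
    have hw' : w = (P : Matrix (Fin 4) (Fin 4) K) *ᵥ (((P⁻¹ : GL (Fin 4) K) : Matrix (Fin 4) (Fin 4) K) *ᵥ w) := by
      rw [Matrix.mulVec_mulVec, ← Units.val_mul, mul_inv_cancel, Units.val_one, Matrix.one_mulVec]
    rw [hw', hPval, hc, e]
    simp [dotProduct, Matrix.mulVec]
  obtain ⟨μ, hμ⟩ := Unit.exists_norm_eq hf.ne_refl hf.involutive hσc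
  have hμ0 : μ ≠ 0 := fun e => hc0 (by rw [← hμ, e, zero_mul])
  obtain ⟨z, hz⟩ : ∃ z : GL (Fin 4) K, (z : Matrix (Fin 4) (Fin 4) K) = μ⁻¹ • 1 :=
    ⟨⟨μ⁻¹ • 1, μ • 1, by rw [smul_mul_smul_comm, inv_mul_cancel₀ hμ0, mul_one, one_smul],
      by rw [smul_mul_smul_comm, mul_inv_cancel₀ hμ0, mul_one, one_smul]⟩, rfl⟩
  refine ⟨P * z, mem_GU.2 fun u v => ?_, ?_⟩
  · rw [Units.val_mul, hz, mul_smul_comm, mul_one, Matrix.smul_mulVec, Matrix.smul_mulVec, hf.smul_left,
      Unit.smul_right hf, hPval, hc, map_inv₀]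
    have hmu' : μ⁻¹ * (frobEquiv hK μ)⁻¹ * c = 1 := by
      rw [← mul_inv, hμ, inv_mul_cancel₀ hc0]
    simp only [Matrix.smul_mulVec, Matrix.one_mulVec, dotProduct, Pi.smul_apply, smul_eq_mul, Cfsg.hermForm,
      Fin.sum_univ_four, ← frobEquiv_apply hK]
    linear_combination (u 0 * frobEquiv hK (v 0) + u 1 * frobEquiv hK (v 1) + u 2 * frobEquiv hK (v 2) +
      u 3 * frobEquiv hK (v 3)) * hmu'
  · have : R.map (MulAut.conj (P * z)⁻¹).toMonoidHom = R.map (MulAut.conj P⁻¹).toMonoidHom := by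
      refine congrArg (fun f => R.map f) (MonoidHom.ext fun g => ?_)
      simp only [MulEquiv.coe_toMonoidHom, MulAut.conj_apply, inv_inv, _root_.mul_inv_rev]
      have hcz := scalar_of_smul_mul hz (P⁻¹ * g * P)
      calc z⁻¹ * P⁻¹ * g * (P * z) = z⁻¹ * ((P⁻¹ * g * P) * z) := by simp only [mul_assoc]
        _ = P⁻¹ * g * P := by rw [← hcz]; simp [mul_assoc]
    rw [this]
    exact hstd

end CfsgLib.Geo.SUFour
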